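import Cfsg.Agent.Lib.NormalAbelian

/-!
# Control in the linear case, abstract part

`W₁`, `W₂` abelian, `[W₁, W₂] ≤ R = W₁ ∩ W₂`, `K ≥ C(R)`, `O = O₂(K) ≥ C_K(O)`, `O ≤ W₁ W₂`, and `C(R)` acts
irreducibly on `W₁ / R` and `W₂ / R`.  Then `K` normalises `W₁` or `W₂` or `R`, or `O` is abelian and `O / R` is the
graph of a bijection `W₁ / R → W₂ / R`.
-/

set_option autoImplicit false

namespace Cfsg.Agent.Omega.Lin.CtlAbs

open Subgroup

variable {G : Type*} [Group G]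

/-- A `p`-group acting on a `p`-group `W / R ≠ 1` has fixed points. -/
theorem exists_fixed_mod [Finite G] {p : ℕ} [hp : Fact p.Prime] {W R O : Subgroup G} (hW : IsPGroup p W)
    (hO : IsPGroup p O) (hRW : R ≤ W) (hne : R ≠ W) (hOW : O ≤ normalizer (W : Set G))
    (hOR : O ≤ normalizer (R : Set G)) (hWR : W ≤ normalizer (R : Set G)) :
    ∃ w ∈ W, w ∉ R ∧ ∀ o ∈ O, o * w * o⁻¹ * w⁻¹ ∈ R := by
  classical
  set P : Subgroup G := W ⊔ O with hP
  have hPp : IsPGroup p P := IsPGroup.to_sup_of_normal_left' hW hO hOW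
  have hWP : W ≤ P := le_sup_left
  have hOP : O ≤ P := le_sup_right
  have hPW : P ≤ normalizer (W : Set G) := sup_le le_normalizer hOW
  have hPR : P ≤ normalizer (R : Set G) := sup_le hWR hOR
  have hRn : (R.subgroupOf P).Normal := normal_subgroupOf_of_le_normalizer hPR
  have hWn : (W.subgroupOf P).Normal := normal_subgroupOf_of_le_normalizer hPW
  have hQp : IsPGroup p (P ⧸ R.subgroupOf P) := hPp.to_quotient _
  have hnil : Group.IsNilpotent (P ⧸ R.subgroupOf P) := hQp.isNilpotent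
  set N : Subgroup (P ⧸ R.subgroupOf P) := (W.subgroupOf P).map (QuotientGroup.mk' (R.subgroupOf P)) with hN
  have hNn : N.Normal := Subgroup.Normal.map hWn _ (QuotientGroup.mk'_surjective _)
  have hNne : N ≠ ⊥ := by
    intro h
    apply hne
    refine le_antisymm hRW fun w hw => ?_
    have h1 : (QuotientGroup.mk' (R.subgroupOf P)) ⟨w, hWP hw⟩ ∈ N := mem_map_of_mem _ (mem_subgroupOf.2 hw)
    rw [h, mem_bot] at h1
    exact mem_subgroupOf.1 ((QuotientGroup.eq_one_iff _).1 h1)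
  have h2 := Cfsg.Agent.Lib.NormalAbelian.normal_inf_center_ne_bot N hNne
  obtain ⟨⟨n, hn⟩, hn1'⟩ := Subgroup.ne_bot_iff_exists_ne_one.1 h2
  have hn1 : n ≠ 1 := fun h => hn1' (Subtype.ext h)
  obtain ⟨⟨⟨w, hwP⟩, hw, hwn⟩, hnc⟩ := hn
  refine ⟨w, mem_subgroupOf.1 hw, ?_, ?_⟩
  · intro hwR
    apply hn1
    rw [← hwn]
    exact (QuotientGroup.eq_one_iff _).2 (mem_subgroupOf.2 hwR)
  · intro o ho
    have h3 := mem_center_iff.1 hnc ((QuotientGroup.mk' (R.subgroupOf P)) ⟨o, hOP ho⟩)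
    rw [← hwn, ← map_mul, ← map_mul] at h3
    have h4 := (QuotientGroup.eq (s := R.subgroupOf P)).1 h3.symm
    -- `(w o)⁻¹ (o w) ∈ R`
    have h5 : (w * o)⁻¹ * (o * w) ∈ R := mem_subgroupOf.1 h4
    have h6 := (mem_normalizer_iff.1 (hPR (P.mul_mem hwP (hOP ho))) _).1 h5
    have h7 : w * o * ((w * o)⁻¹ * (o * w)) * (w * o)⁻¹ = o * w * o⁻¹ * w⁻¹ := by group
    rwa [h7] at h6

/-- The situation. -/
structure Data (W₁ W₂ R K O : Subgroup G) : Prop where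
  ab₁ : ∀ x ∈ W₁, ∀ y ∈ W₁, x * y = y * x
  ab₂ : ∀ x ∈ W₂, ∀ y ∈ W₂, x * y = y * x
  R₁ : R ≤ W₁
  R₂ : R ≤ W₂
  comm : ∀ x ∈ W₁, ∀ y ∈ W₂, x * y * x⁻¹ * y⁻¹ ∈ R
  nd₁ : ∀ x ∈ W₁, (∀ y ∈ W₂, x * y = y * x) → x ∈ R
  nd₂ : ∀ y ∈ W₂, (∀ x ∈ W₁, x * y = y * x) → y ∈ R
  ne₁ : R ≠ W₁
  ne₂ : R ≠ W₂
  irr₁ : ∀ X : Subgroup G, R ≤ X → X ≤ W₁ →
    (∀ c ∈ centralizer (R : Set G), ∀ x ∈ X, c * x * c⁻¹ ∈ X) → X = R ∨ X = W₁
  irr₂ : ∀ X : Subgroup G, R ≤ X → X ≤ W₂ →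
    (∀ c ∈ centralizer (R : Set G), ∀ x ∈ X, c * x * c⁻¹ ∈ X) → X = R ∨ X = W₂
  cK : centralizer (R : Set G) ≤ K
  nW₁ : ∀ c ∈ centralizer (R : Set G), ∀ x ∈ W₁, c * x * c⁻¹ ∈ W₁
  nW₂ : ∀ c ∈ centralizer (R : Set G), ∀ x ∈ W₂, c * x * c⁻¹ ∈ W₂
  nO : ∀ k ∈ K, ∀ o ∈ O, k * o * k⁻¹ ∈ O
  cO : ∀ k ∈ K, (∀ o ∈ O, k * o = o * k) → k ∈ O
  OQ : O ≤ W₁ ⊔ W₂

namespace Data

variable {W₁ W₂ R K O : Subgroup G} (D : Data W₁ W₂ R K O)

include D

theorem W₁_le : W₁ ≤ centralizer (R : Set G) := fun w hw => by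
  rw [mem_centralizer_iff]
  intro r hr
  exact D.ab₁ r (D.R₁ hr) w hw

theorem W₂_le : W₂ ≤ centralizer (R : Set G) := fun w hw => by
  rw [mem_centralizer_iff]
  intro r hr
  exact D.ab₂ r (D.R₂ hr) w hw

theorem conj₂ {x y : G} (hx : x ∈ W₁) (hy : y ∈ W₂) : x * y * x⁻¹ ∈ W₂ := by
  have := W₂.mul_mem (D.R₂ (D.comm x hx y hy)) hy
  simpa [mul_assoc] using this

theorem conj₂' {x y : G} (hx : x ∈ W₁) (hy : y ∈ W₂) : x⁻¹ * y * x ∈ W₂ := by
  have := D.conj₂ (W₁.inv_mem hx) hy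
  rwa [inv_inv] at this

theorem symm : Data W₂ W₁ R K O where
  ab₁ := D.ab₂
  ab₂ := D.ab₁
  R₁ := D.R₂
  R₂ := D.R₁
  comm x hx y hy := by
    have := R.inv_mem (D.comm y hy x hx)
    have e : (y * x * y⁻¹ * x⁻¹)⁻¹ = x * y * x⁻¹ * y⁻¹ := by group
    rwa [e] at this
  nd₁ x hx h := D.nd₂ x hx fun y hy => (h y hy).symm
  nd₂ y hy h := D.nd₁ y hy fun x hx => (h x hx).symm
  ne₁ := D.ne₂
  ne₂ := D.ne₁
  irr₁ := D.irr₂
  irr₂ := D.irr₁
  cK := D.cK
  nW₁ := D.nW₂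
  nW₂ := D.nW₁
  nO := D.nO
  cO := D.cO
  OQ := by rw [sup_comm]; exact D.OQ

/-- Every element of `Q` is a product. -/
theorem exists_mul {g : G} (hg : g ∈ W₁ ⊔ W₂) : ∃ x ∈ W₁, ∃ y ∈ W₂, g = x * y := by
  let S : Subgroup G := {
    carrier := {g | ∃ x ∈ W₁, ∃ y ∈ W₂, g = x * y}
    one_mem' := ⟨1, W₁.one_mem, 1, W₂.one_mem, (mul_one 1).symm⟩
    mul_mem' := by
      rintro _ _ ⟨x, hx, y, hy, rfl⟩ ⟨x', hx', y', hy', rfl⟩
      refine ⟨x * x', W₁.mul_mem hx hx', x'⁻¹ * y * x' * y', W₂.mul_mem (D.conj₂' hx' hy) hy', by group⟩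
    inv_mem' := by
      rintro _ ⟨x, hx, y, hy, rfl⟩
      exact ⟨x⁻¹, W₁.inv_mem hx, x * y⁻¹ * x⁻¹, D.conj₂ hx (W₂.inv_mem hy), by group⟩ }
  have h : W₁ ⊔ W₂ ≤ S := sup_le (fun x hx => ⟨x, hx, 1, W₂.one_mem, (mul_one x).symm⟩)
    (fun y hy => ⟨1, W₁.one_mem, y, hy, (one_mul y).symm⟩)
  exact h hg

theorem Q_le : W₁ ⊔ W₂ ≤ centralizer (R : Set G) := sup_le D.W₁_le D.W₂_le

theorem R_cent {r o : G} (hr : r ∈ R) (ho : o ∈ O) : r * o = o * r :=
  (mem_centralizer_iff.1 (D.Q_le (D.OQ ho)) r hr)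

theorem R_le : R ≤ O := fun r hr =>
  D.cO r (D.cK (D.W₁_le (D.R₁ hr))) fun _ ho => D.R_cent hr ho

theorem K_le_norm_O : K ≤ normalizer (O : Set G) := fun k hk => by
  rw [mem_normalizer_iff]
  refine fun o => ⟨D.nO k hk o, fun h => ?_⟩
  have := D.nO k⁻¹ (K.inv_mem hk) _ h
  have e : k⁻¹ * (k * o * k⁻¹) * k⁻¹⁻¹ = o := by group
  rwa [e] at this

/-- If `Z(O) = R` then `K` normalises `R`. -/
theorem K_le_norm_R (h : ∀ x ∈ O, (∀ o ∈ O, x * o = o * x) → x ∈ R) : K ≤ normalizer (R : Set G) := by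
  have key : ∀ k ∈ K, ∀ r ∈ R, k * r * k⁻¹ ∈ R := by
    intro k hk r hr
    refine h _ (D.nO k hk r (D.R_le hr)) fun o ho => ?_
    have h1 := D.nO k⁻¹ (K.inv_mem hk) o ho
    have h2 := D.R_cent hr h1
    calc k * r * k⁻¹ * o = k * (r * (k⁻¹ * o * k⁻¹⁻¹)) * k⁻¹ := by group
      _ = k * (k⁻¹ * o * k⁻¹⁻¹ * r) * k⁻¹ := by rw [h2]
      _ = o * (k * r * k⁻¹) := by group
  intro k hk
  rw [mem_normalizer_iff]
  refine fun r => ⟨key k hk r, fun hr => ?_⟩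
  have := key k⁻¹ (K.inv_mem hk) _ hr
  have e : k⁻¹ * (k * r * k⁻¹) * k⁻¹⁻¹ = r := by group
  rwa [e] at this

theorem inf₁ : O ⊓ W₁ = R ∨ O ⊓ W₁ = W₁ :=
  D.irr₁ _ (le_inf D.R_le D.R₁) inf_le_right fun c hc x hx => ⟨D.nO c (D.cK hc) x hx.1, D.nW₁ c hc x hx.2⟩

/-- The projection to `W₁ / R` of a subgroup of `O`. -/
def proj (A : Subgroup G) : Subgroup G where
  carrier := {w | w ∈ W₁ ∧ ∃ v ∈ W₂, w * v ∈ A}
  one_mem' := ⟨W₁.one_mem, 1, W₂.one_mem, by rw [mul_one]; exact A.one_mem⟩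
  mul_mem' := by
    rintro w w' ⟨hw, v, hv, h⟩ ⟨hw', v', hv', h'⟩
    refine ⟨W₁.mul_mem hw hw', w'⁻¹ * v * w' * v', W₂.mul_mem (D.conj₂' hw' hv) hv', ?_⟩
    have := A.mul_mem h h'
    have e : w * w' * (w'⁻¹ * v * w' * v') = w * v * (w' * v') := by group
    rwa [e]
  inv_mem' := by
    rintro w ⟨hw, v, hv, h⟩
    refine ⟨W₁.inv_mem hw, w * v⁻¹ * w⁻¹, D.conj₂ hw (W₂.inv_mem hv), ?_⟩
    have := A.inv_mem h
    have e : w⁻¹ * (w * v⁻¹ * w⁻¹) = (w * v)⁻¹ := by group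
    rwa [e]

theorem proj_irr {A : Subgroup G} (hRA : R ≤ A) (hA : ∀ c ∈ centralizer (R : Set G), ∀ x ∈ A, c * x * c⁻¹ ∈ A) :
    D.proj A = R ∨ D.proj A = W₁ := by
  refine D.irr₁ _ (fun r hr => ⟨D.R₁ hr, 1, W₂.one_mem, by rw [mul_one]; exact hRA hr⟩) (fun w hw => hw.1) ?_
  rintro c hc w ⟨hw, v, hv, h⟩
  refine ⟨D.nW₁ c hc w hw, c * v * c⁻¹, D.nW₂ c hc v hv, ?_⟩
  have := hA c hc _ h
  have e : c * w * c⁻¹ * (c * v * c⁻¹) = c * (w * v) * c⁻¹ := by group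
  rwa [e]

/-- If `O ∩ W₁ = R = O ∩ W₂` then `O` projects onto `W₁ / R`. -/
theorem proj_eq (h₁ : O ⊓ W₁ = R) (h₂ : O ⊓ W₂ = R) : ∀ w ∈ W₁, ∃ v ∈ W₂, w * v ∈ O := by
  rcases D.proj_irr D.R_le fun c hc x hx => D.nO c (D.cK hc) x hx with h | h
  · exfalso
    have hO : O ≤ R := by
      intro o ho
      obtain ⟨x, hx, y, hy, rfl⟩ := D.exists_mul (D.OQ ho)
      have hxR : x ∈ R := by rw [← h]; exact ⟨hx, y, hy, ho⟩
      rw [← h₂]
      exact ⟨ho, W₂.mul_mem (D.R₂ hxR) hy⟩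
    apply D.ne₁
    refine le_antisymm D.R₁ fun w hw => ?_
    rw [← h₁]
    refine ⟨D.cO w (D.cK (D.W₁_le hw)) fun o ho => ?_, hw⟩
    exact D.ab₁ w hw o (D.R₁ (hO ho))
  · intro w hw
    rw [← h] at hw
    exact hw.2

/-- **The alternative.** -/
theorem main : K ≤ normalizer (W₁ : Set G) ∨ K ≤ normalizer (W₂ : Set G) ∨ K ≤ normalizer (R : Set G) ∨
    ((∀ x ∈ O, ∀ y ∈ O, x * y = y * x) ∧ O ⊓ W₁ = R ∧ O ⊓ W₂ = R ∧ ∀ w ∈ W₁, ∃ v ∈ W₂, w * v ∈ O) := by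
  rcases D.inf₁ with h₁ | h₁
  · rcases D.symm.inf₁ with h₂ | h₂
    · -- the graph
      right; right
      by_cases hab : ∀ x ∈ O, ∀ y ∈ O, x * y = y * x
      · exact Or.inr ⟨hab, h₁, h₂, D.proj_eq h₁ h₂⟩
      · left
        let Z : Subgroup G := {
          carrier := {x | x ∈ O ∧ ∀ o ∈ O, x * o = o * x}
          one_mem' := ⟨O.one_mem, fun o _ => by rw [one_mul, mul_one]⟩
          mul_mem' := by
            rintro x y ⟨hx, hx'⟩ ⟨hy, hy'⟩
            refine ⟨O.mul_mem hx hy, fun o ho => ?_⟩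
            rw [mul_assoc, hy' o ho, ← mul_assoc, hx' o ho, mul_assoc]
          inv_mem' := by
            rintro x ⟨hx, hx'⟩
            refine ⟨O.inv_mem hx, fun o ho => ?_⟩
            have h : Commute x o := hx' o ho
            exact h.inv_left }
        have hRZ : R ≤ Z := fun r hr => ⟨D.R_le hr, fun o ho => D.R_cent hr ho⟩
        have hZn : ∀ c ∈ centralizer (R : Set G), ∀ x ∈ Z, c * x * c⁻¹ ∈ Z := by
          rintro c hc x ⟨hx, hx'⟩
          refine ⟨D.nO c (D.cK hc) x hx, fun o ho => ?_⟩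
          have h1 := D.nO c⁻¹ (K.inv_mem (D.cK hc)) o ho
          have h2 := hx' _ h1
          calc c * x * c⁻¹ * o = c * (x * (c⁻¹ * o * c⁻¹⁻¹)) * c⁻¹ := by group
            _ = c * (c⁻¹ * o * c⁻¹⁻¹ * x) * c⁻¹ := by rw [h2]
            _ = o * (c * x * c⁻¹) := by group
        have hcen : ∀ x ∈ Z, x ∈ R := by
          rcases D.proj_irr hRZ hZn with h | h
          · rintro x hx
            obtain ⟨w, hw, v, hv, rfl⟩ := D.exists_mul (D.OQ hx.1)
            have hwR : w ∈ R := by rw [← h]; exact ⟨hw, v, hv, hx⟩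
            rw [← h₂]
            exact ⟨hx.1, W₂.mul_mem (D.R₂ hwR) hv⟩
          · exfalso
            apply hab
            have hOZ : ∀ o ∈ O, o ∈ Z := by
              intro o ho
              obtain ⟨w, hw, v, hv, rfl⟩ := D.exists_mul (D.OQ ho)
              have hw' := hw
              rw [← h] at hw'
              obtain ⟨-, v', hv', hz⟩ := hw'
              have h1 : v'⁻¹ * v ∈ O := by
                have := O.mul_mem (O.inv_mem hz.1) ho
                have e : (w * v')⁻¹ * (w * v) = v'⁻¹ * v := by group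
                rwa [e] at this
              have h2 : v'⁻¹ * v ∈ R := by
                rw [← h₂]
                exact ⟨h1, W₂.mul_mem (W₂.inv_mem hv') hv⟩
              have e : w * v = w * v' * (v'⁻¹ * v) := by group
              rw [e]
              exact Z.mul_mem hz (hRZ h2)
            intro x hx y hy
            exact (hOZ x hx).2 y hy
        exact D.K_le_norm_R fun x hx h => hcen x ⟨hx, h⟩
    · -- `O = W₂`
      right; left
      have h : O = W₂ := by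
        refine le_antisymm (fun o ho => ?_) (by rw [← h₂]; exact inf_le_left)
        obtain ⟨x, hx, y, hy, rfl⟩ := D.exists_mul (D.OQ ho)
        have hyO : y ∈ O := by
          have : y ∈ O ⊓ W₂ := by rw [h₂]; exact hy
          exact this.1
        have hxO : x ∈ O := by
          have := O.mul_mem ho (O.inv_mem hyO)
          rwa [mul_assoc, mul_inv_cancel, mul_one] at this
        have hxR : x ∈ R := by rw [← h₁]; exact ⟨hxO, hx⟩
        exact W₂.mul_mem (D.R₂ hxR) hy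
      rw [← h]
      exact D.K_le_norm_O
  · rcases D.symm.inf₁ with h₂ | h₂
    · -- `O = W₁`
      left
      have h : O = W₁ := by
        refine le_antisymm (fun o ho => ?_) (by rw [← h₁]; exact inf_le_left)
        obtain ⟨x, hx, y, hy, rfl⟩ := D.exists_mul (D.OQ ho)
        have hxO : x ∈ O := by
          have : x ∈ O ⊓ W₁ := by rw [h₁]; exact hx
          exact this.1
        have hyO : y ∈ O := by
          have := O.mul_mem (O.inv_mem hxO) ho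
          rwa [← mul_assoc, inv_mul_cancel, one_mul] at this
        have hyR : y ∈ R := by rw [← h₂]; exact ⟨hyO, hy⟩
        exact W₁.mul_mem hx (D.R₁ hyR)
      rw [← h]
      exact D.K_le_norm_O
    · -- `O = Q`
      right; right; left
      have hW₁ : W₁ ≤ O := by rw [← h₁]; exact inf_le_left
      have hW₂ : W₂ ≤ O := by rw [← h₂]; exact inf_le_left
      refine D.K_le_norm_R fun x hx h => ?_
      obtain ⟨w, hw, v, hv, rfl⟩ := D.exists_mul (D.OQ hx)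
      have hwR : w ∈ R := by
        refine D.nd₁ w hw fun y hy => ?_
        have h1 : Commute (w * v) y := h y (hW₂ hy)
        have h2 : Commute v y := D.ab₂ v hv y hy
        have h3 := h1.mul_left h2.inv_left
        rw [mul_assoc, mul_inv_cancel, mul_one] at h3
        exact h3
      have hvR : v ∈ R := by
        refine D.nd₂ v hv fun x hx => ?_
        have h1 : Commute (w * v) x := h x (hW₁ hx)
        have h2 : Commute w x := D.ab₁ w hw x hx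
        have h3 := h2.inv_left.mul_left h1
        rw [← mul_assoc, inv_mul_cancel, one_mul] at h3
        exact h3.symm
      exact R.mul_mem hwR hvR

end Data

end Cfsg.Agent.Omega.Lin.CtlAbs
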