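import Cfsg.Agent.WeakTI.ToS1179
import Cfsg.Agent.OddHalf.Known
import Cfsg.Agent.SmallSimple.PSLTwoPart

/-!
Closing by the theorem on weakly closed TI subgroups (S1179, list `InList`).

`LEMMA TI`: `A` elementary abelian, `C_G(A) ≤ A`, `N_G(A)` transitive on `A#`,
`C_G(a) ≤ N_G(A)` for one `a ∈ A#`; then S1179 applies to `A`.
-/

set_option autoImplicit false

namespace Cfsg.Agent.Omega.TIClose

open Cfsg Subgroup Pointwise Cfsg.Agent.WeakTI.Basic Cfsg.Agent.WeakTI.ReduceMain
  Cfsg.Agent.WeakTI.ReduceComponent Cfsg.Agent.WeakTI.ToS1179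

universe u

section Trans

variable {G : Type u} [Group G]

/-- transitivity of `N_G(A)` on `A#` moves `C_G(a) ≤ N_G(A)` to all elements -/
theorem cent_le_of_trans {A : Subgroup G}
    (htrans : ∀ x ∈ A, ∀ y ∈ A, x ≠ 1 → y ≠ 1 → ∃ n ∈ normalizer (A : Set G), n * x * n⁻¹ = y)
    {a : G} (haA : a ∈ A) (ha : a ≠ 1) (hca : centralizer ({a} : Set G) ≤ normalizer (A : Set G))
    {b : G} (hbA : b ∈ A) (hb : b ≠ 1) : centralizer ({b} : Set G) ≤ normalizer (A : Set G) := by
  intro c hc
  obtain ⟨n, hn, hnb⟩ := htrans b hbA a haA hb ha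
  have h1 : n * c * n⁻¹ ∈ centralizer ({a} : Set G) := by
    rw [mem_centralizer_singleton_iff] at hc ⊢
    rw [← hnb]
    have : c * b = b * c := hc
    calc n * c * n⁻¹ * (n * b * n⁻¹) = n * (c * b) * n⁻¹ := by group
      _ = n * (b * c) * n⁻¹ := by rw [this]
      _ = n * b * n⁻¹ * (n * c * n⁻¹) := by group
  have h2 := hca h1
  have h3 := mul_mem (mul_mem (inv_mem hn) h2) hn
  have h4 : n⁻¹ * (n * c * n⁻¹) * n = c := by group
  rwa [h4] at h3

/-- **LEMMA TI** -/
theorem wc_of_trans {A : Subgroup G} (hcent : centralizer (A : Set G) ≤ A)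
    (htrans : ∀ x ∈ A, ∀ y ∈ A, x ≠ 1 → y ≠ 1 → ∃ n ∈ normalizer (A : Set G), n * x * n⁻¹ = y)
    {a : G} (haA : a ∈ A) (ha : a ≠ 1) (hca : centralizer ({a} : Set G) ≤ normalizer (A : Set G)) :
    ∀ b ∈ A, b ≠ 1 → ∀ g : G, A.map (MulAut.conj g).toMonoidHom ≤ centralizer ({b} : Set G) →
      A.map (MulAut.conj g).toMonoidHom = A := by
  intro b hbA hb g hg
  have hcb := cent_le_of_trans htrans haA ha hca hbA hb
  -- `b' = g⁻¹ b g` centralises `A`
  have h1 : g⁻¹ * b * g ∈ centralizer (A : Set G) := by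
    rw [mem_centralizer_iff]
    intro x hx
    have h2 : g * x * g⁻¹ ∈ centralizer ({b} : Set G) := by
      apply hg
      exact ⟨x, hx, by simp⟩
    rw [mem_centralizer_singleton_iff] at h2
    have h3 : g * x * g⁻¹ * b = b * (g * x * g⁻¹) := h2
    calc x * (g⁻¹ * b * g) = g⁻¹ * (g * x * g⁻¹ * b) * g := by group
      _ = g⁻¹ * (b * (g * x * g⁻¹)) * g := by rw [h3]
      _ = g⁻¹ * b * g * x := by group
  have h2 := hcent h1
  have h3 : g⁻¹ * b * g ≠ 1 := by
    intro h
    apply hb
    have : b = g * (g⁻¹ * b * g) * g⁻¹ := by group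
    rw [this, h]; group
  obtain ⟨n, hn, hnb⟩ := htrans _ h2 b hbA h3 hb
  have h4 : n * g⁻¹ ∈ centralizer ({b} : Set G) := by
    rw [mem_centralizer_singleton_iff]
    have h5 : n * g⁻¹ * b = n * (g⁻¹ * b * g) * n⁻¹ * (n * g⁻¹) := by group
    change n * g⁻¹ * b = b * (n * g⁻¹)
    rw [h5, hnb]
  have h5 := hcb h4
  have h6 : g ∈ normalizer (A : Set G) := by
    have h7 := mul_mem (inv_mem h5) hn
    have h8 : (n * g⁻¹)⁻¹ * n = g := by group
    rwa [h8] at h7
  rw [← cj_eq_map]
  exact mem_normalizer_iff_cj.mp h6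

end Trans

section Known

variable {G : Type u} [Group G]

theorem solvable_psl_two {F : Type*} [Field F] [Fintype F] (h2 : Fintype.card F = 2) :
    Group.IsSolvable (Matrix.ProjectiveSpecialLinearGroup (Fin 2) F) := by
  have h1 := Cfsg.Agent.SmallSimple.PSLTwoPart.card_psl_two_even (F := F) (by rw [h2]; exact even_two)
  rw [h2] at h1
  have h3 : Squarefree (Nat.card (Matrix.ProjectiveSpecialLinearGroup (Fin 2) F)) := by
    rw [h1]
    decide +kernel
  have := IsZGroup.of_squarefree h3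
  infer_instance

/-- The groups of the list of S1179 are known simple groups. -/
theorem lists_of_inList [IsSimpleGroup G] (hna : ¬ IsMulCommutative G) (h : InList G) :
    IsLieTypeChar 2 G ∨ IsAlternating G ∨ IsSporadicGroup G := by
  have hsol : ¬ Group.IsSolvable G := by
    intro h
    apply hna
    exact ⟨⟨fun a b => IsSimpleGroup.comm_iff_isSolvable.mpr h a b⟩⟩
  rcases h with ⟨F, i1, i2, n, hchar, hn, ⟨e⟩⟩ | hS | ⟨F, i1, i2, m, hF, ⟨e⟩⟩ | ⟨k, hk, -, e⟩ | h | h | h
  · left
    have : CharP F 2 := ringChar.eq_iff.mp hchar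
    refine Or.inl ⟨F, i1, i2, this, n, hn, ?_, ⟨e⟩⟩
    rintro rfl
    by_contra hcon
    have h1 : 1 < Fintype.card F := Fintype.one_lt_card
    have h2 : Even (Fintype.card F) := by
      rw [Nat.even_iff]
      exact FiniteField.even_card_iff_char_two.mp hchar
    have h3 : Fintype.card F = 2 := by
      obtain ⟨k, hk⟩ := h2
      omega
    have := solvable_psl_two h3
    exact hsol (Group.isSolvable_of_isSolvable_injective (f := e.toMonoidHom) e.injective)
  · left
    exact Or.inr (Or.inr (Or.inr (Or.inr (Or.inr (Or.inr (Or.inr (Or.inr (Or.inl ⟨rfl, hS⟩))))))))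
  · left
    have : Fact (Nat.Prime 2) := ⟨Nat.prime_two⟩
    rcases m with _ | _ | m
    · exfalso
      have := Fintype.one_lt_card (α := F)
      rw [hF] at this
      norm_num at this
    · exfalso
      have hF' : Fintype.card F = 4 := by rw [hF]; norm_num
      have hsol1 := (Cfsg.Agent.S0282.result hF').2
      have hsol' : Group.IsSolvable G := by
        have h1 : Group.IsSolvable (Cfsg.PSU 3 F (2 ^ (0 + 1))) := by simpa using hsol1
        exact Group.isSolvable_of_isSolvable_injective (f := e.toMonoidHom) e.injective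
      exact hsol hsol'
    · have hF2 : Fintype.card F = (2 ^ (m + 2)) ^ 2 := by
        rw [hF, ← pow_mul, mul_comm, pow_mul]
        norm_num
      have hch : CharP F 2 := by
        apply charP_of_card_eq_prime_pow (p := 2) (f := 2 * (m + 2))
        rw [hF, pow_mul]
        norm_num
      refine Or.inr (Or.inr (Or.inl ⟨F, i1, i2, hch, 3, 2 ^ (m + 2), hF2, le_rfl, ?_, ⟨e⟩⟩))
      rintro ⟨-, h⟩
      have := Nat.one_le_two_pow (n := m)
      rw [pow_add] at h
      omega
  · right; left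
    exact ⟨k, by omega, e⟩
  · right; right
    simp only [IsSporadicGroup]; tauto
  · right; right
    simp only [IsSporadicGroup]; tauto
  · right; right
    simp only [IsSporadicGroup]; tauto

theorem known_of_inList [IsSimpleGroup G] (hna : ¬ IsMulCommutative G) (h : InList G) : IsKnownSimple' G := by
  rcases lists_of_inList hna h with h | h | h
  · exact Cfsg.Agent.OddHalf.Known.known_of_isLie h
  · exact Or.inr (Or.inl h)
  · exact Or.inr (Or.inr (Or.inr (Or.inr (Or.inr (Or.inr (Or.inr (Or.inr (Or.inr h))))))))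

end Known

section Close

variable {G : Type u} [Group G] [Finite G]

/-- closing from the hypothesis of S1179 -/
theorem inList_of_wc (Main : ∀ A : Subgroup G, Red A → InList G) [IsSimpleGroup G] (hna : ¬ IsMulCommutative G)
    {A : Subgroup G} (hA : Cfsg.IsElementaryAbelian 2 A) (hA1 : A ≠ ⊥)
    (hwc : ∀ a ∈ A, a ≠ 1 → ∀ g : G, A.map (MulAut.conj g).toMonoidHom ≤ Subgroup.centralizer ({a} : Set G) →
      A.map (MulAut.conj g).toMonoidHom = A) : InList G := by
  have hne : ∃ a b : G, a * b ≠ b * a := by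
    by_contra hcon
    push Not at hcon
    exact hna ⟨⟨hcon⟩⟩
  exact Main A (red_of_simple hne (wti_of_centralizer hA hA1 hwc))

/-- **Closing by LEMMA TI**, list form. -/
theorem inList_of_trans (Main : ∀ A : Subgroup G, Red A → InList G) [IsSimpleGroup G]
    (hna : ¬ IsMulCommutative G) {A : Subgroup G} (hA : Cfsg.IsElementaryAbelian 2 A)
    (hcent : centralizer (A : Set G) ≤ A)
    (htrans : ∀ x ∈ A, ∀ y ∈ A, x ≠ 1 → y ≠ 1 → ∃ n ∈ normalizer (A : Set G), n * x * n⁻¹ = y)
    {a : G} (haA : a ∈ A) (ha : a ≠ 1) (hca : centralizer ({a} : Set G) ≤ normalizer (A : Set G)) :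
    InList G := by
  refine inList_of_wc Main hna hA ?_ (wc_of_trans hcent htrans haA ha hca)
  rintro rfl
  exact ha (mem_bot.mp haA)

/-- **Closing by LEMMA TI**. -/
theorem known_of_trans (Main : ∀ A : Subgroup G, Red A → InList G) [IsSimpleGroup G]
    (hna : ¬ IsMulCommutative G) {A : Subgroup G} (hA : Cfsg.IsElementaryAbelian 2 A)
    (hcent : centralizer (A : Set G) ≤ A)
    (htrans : ∀ x ∈ A, ∀ y ∈ A, x ≠ 1 → y ≠ 1 → ∃ n ∈ normalizer (A : Set G), n * x * n⁻¹ = y)
    {a : G} (haA : a ∈ A) (ha : a ≠ 1) (hca : centralizer ({a} : Set G) ≤ normalizer (A : Set G)) :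
    IsKnownSimple' G :=
  known_of_inList hna (inList_of_trans Main hna hA hcent htrans haA ha hca)

end Close

end Cfsg.Agent.Omega.TIClose
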