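import Cfsg.Agent.Omega.Lin.Ready
import Cfsg.Agent.Omega.Lin.TIClose

/-!
# The end of the linear case: `Out` ⟹ known
-/

set_option autoImplicit false

namespace Cfsg.Agent.Omega.Lin

open Cfsg Subgroup Cfsg.Agent.WeakTI.Basic Cfsg.Agent.WeakTI.ReduceMain Cfsg.Agent.WeakTI.ReduceComponent

universe u

variable {G : Type u} [Group G] [Finite G] [IsSimpleGroup G] {F : Type*} [Field F] [Finite F] [CharP F 2]
variable {k : ℕ} {W₁ W₂ L₁ L₂ R Q : Subgroup G}

/-- **`Out` ⟹ known** (`|F| = 2`, or `|F| ≥ 4` and (`k ≥ 2` or `|F| ≥ 8`)), from the main theorem on weakly closed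
TI-subgroups. -/
theorem Out.known (Main : ∀ A : Subgroup G, Red A → InList G) (hna : ¬ IsMulCommutative G)
    (X : Out F k W₁ W₂ L₁ L₂ R Q) (hk : 1 ≤ k) (hg : Out.Good F k) {S : Sylow 2 G}
    (hS : (S : Subgroup G) ≤ normalizer (R : Set G))
    (hC : ∀ r ∈ R, r ≠ 1 → (∀ s ∈ (S : Subgroup G), s * r = r * s) → CTwoAt r) : IsKnownSimple' G := by
  obtain ⟨A, -, hA, hc, ht, a, ha, ha1, hca⟩ := X.exists_ti hk hg hS hC
  exact TIClose.known_of_trans Main hna hA hc ht ha ha1 hca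

/-- The same, in a group of characteristic 2 type. -/
theorem Out.known_of_type (Main : ∀ A : Subgroup G, Red A → InList G) (hna : ¬ IsMulCommutative G)
    (h2 : IsCharacteristicTwoType G) (X : Out F k W₁ W₂ L₁ L₂ R Q) (hk : 1 ≤ k) (hg : Out.Good F k) {S : Sylow 2 G}
    (hS : (S : Subgroup G) ≤ normalizer (R : Set G)) : IsKnownSimple' G :=
  Out.known Main hna X hk hg hS fun _ hr hr1 _ => cTwoAt_of_type h2 (X.E₁.sq (X.R_le₁ hr)) hr1

end Cfsg.Agent.Omega.Lin
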