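import Mathlib

/-!
# Additive subgroups of a finite field invariant under the cubes
-/

set_option autoImplicit false

namespace Cfsg.Agent.Omega.Lin.Cubes

open Polynomial

variable {F : Type*} [Field F]

/-- **For `|F| ≥ 8` an additive subgroup `≠ 0` invariant under the cubes is everything.** -/
theorem eq_top [Finite F] (hq : 8 ≤ Nat.card F) (S : AddSubgroup F)
    (hS : ∀ y : F, y ≠ 0 → ∀ s ∈ S, y ^ 3 * s ∈ S) (hne : ∃ s ∈ S, s ≠ 0) : ∀ x, x ∈ S := by
  classical
  have := Fintype.ofFinite F
  rw [Nat.card_eq_fintype_card] at hq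
  let E : Subring F := {
    carrier := {a | ∀ s ∈ S, a * s ∈ S}
    mul_mem' := fun {a b} ha hb s hs => by rw [mul_assoc]; exact ha _ (hb s hs)
    one_mem' := fun s hs => by rwa [one_mul]
    add_mem' := fun {a b} ha hb s hs => by rw [add_mul]; exact S.add_mem (ha s hs) (hb s hs)
    zero_mem' := fun s _ => by rw [zero_mul]; exact S.zero_mem
    neg_mem' := fun {a} ha s hs => by rw [neg_mul]; exact S.neg_mem (ha s hs) }
  have hE : ∀ a, a ∈ E ↔ ∀ s ∈ S, a * s ∈ S := fun a => Iff.rfl
  have hinv : ∀ b ∈ E, b ≠ 0 → b⁻¹ ∈ E := by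
    intro b hb hb0
    have h1 : b ^ (Fintype.card F - 1) = 1 := FiniteField.pow_card_sub_one_eq_one b hb0
    have h2 : b⁻¹ = b ^ (Fintype.card F - 2) := by
      refine (eq_inv_of_mul_eq_one_left ?_).symm
      rw [← pow_succ, ← h1]
      congr 1
      omega
    rw [h2]
    exact E.pow_mem hb _
  have htop : ∀ x, x ∈ E := by
    by_contra hcon
    push Not at hcon
    obtain ⟨x, hx⟩ := hcon
    have hc1 : Fintype.card E * Fintype.card E ≤ Fintype.card F := by
      rw [← Fintype.card_prod]
      refine Fintype.card_le_of_injective (fun p : E × E => (p.1 : F) + p.2 * x) ?_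
      rintro ⟨⟨a, ha⟩, ⟨b, hb⟩⟩ ⟨⟨a', ha'⟩, ⟨b', hb'⟩⟩ h
      have h' : a + b * x = a' + b' * x := h
      by_cases hbb : b = b'
      · subst hbb
        have : a = a' := add_right_cancel h'
        subst this
        rfl
      · exfalso
        apply hx
        have h1 : x = (b - b')⁻¹ * (a' - a) := by
          rw [eq_inv_mul_iff_mul_eq₀ (sub_ne_zero.2 hbb)]
          linear_combination h'
        rw [h1]
        exact E.mul_mem (hinv _ (E.sub_mem hb hb') (sub_ne_zero.2 hbb)) (E.sub_mem ha' ha)
    have hc2 : (Finset.univ.erase (0 : F)).card ≤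
        3 * ((Finset.univ.erase (0 : F)).image fun y => y ^ 3).card := by
      refine Finset.card_le_mul_card_image _ 3 fun b _ => ?_
      refine le_trans (Finset.card_le_card (t := (nthRoots 3 b).toFinset) ?_)
        (le_trans (Multiset.toFinset_card_le _) (card_nthRoots 3 b))
      intro y hy
      rw [Finset.mem_filter] at hy
      rw [Multiset.mem_toFinset, mem_nthRoots (by norm_num)]
      exact hy.2
    have hc3 : ((Finset.univ.erase (0 : F)).image fun y => y ^ 3).card ≤ Fintype.card E - 1 := by
      have h1 : ((Finset.univ.erase (0 : F)).image fun y => y ^ 3) ⊆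
          ((Finset.univ : Finset E).image (fun e : E => (e : F))).erase 0 := by
        intro z hz
        rw [Finset.mem_image] at hz
        obtain ⟨y, hy, rfl⟩ := hz
        have hy0 : y ≠ 0 := (Finset.mem_erase.1 hy).1
        rw [Finset.mem_erase]
        refine ⟨pow_ne_zero _ hy0, Finset.mem_image.2 ⟨⟨y ^ 3, ?_⟩, Finset.mem_univ _, rfl⟩⟩
        exact fun s hs => hS y hy0 s hs
      refine le_trans (Finset.card_le_card h1) ?_
      have h0 : (0 : F) ∈ (Finset.univ : Finset E).image (fun e : E => (e : F)) :=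
        Finset.mem_image.2 ⟨0, Finset.mem_univ _, rfl⟩
      rw [Finset.card_erase_of_mem h0]
      refine Nat.sub_le_sub_right ?_ 1
      exact le_trans Finset.card_image_le (le_of_eq Finset.card_univ)
    rw [Finset.card_erase_of_mem (Finset.mem_univ _), Finset.card_univ] at hc2
    have hE1 : 1 ≤ Fintype.card E := Fintype.card_pos
    generalize Fintype.card E = e at hc1 hc3 hE1
    generalize ((Finset.univ.erase (0 : F)).image fun y => y ^ 3).card = m at hc2 hc3
    generalize Fintype.card F = q at hq hc1 hc2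
    have h1 : q ≤ 3 * e := by omega
    have h2 : e ≤ 3 := by
      by_contra h
      have : 4 * e ≤ e * e := Nat.mul_le_mul_right e (by omega)
      omega
    have h3 : q ≤ 3 * e - 2 := by omega
    interval_cases e <;> omega
  obtain ⟨s, hs, hs0⟩ := hne
  intro x
  have h := htop (x * s⁻¹) s hs
  rwa [inv_mul_cancel_right₀ hs0] at h

end Cfsg.Agent.Omega.Lin.Cubes
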