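import Cfsg.Agent.Omega.Lin.OutDef
import Cfsg.Agent.Omega.Lin.CtlAbs
import Cfsg.Agent.Omega.Lin.Cubes

/-!
# The action of `C(R)` and the torus in the situation `Out`

`SemiMod`: elementary lemmas.  `Out.irr₁`: `C(R)` is irreducible on `W₁ / R`.  `Out.torus`: the elements of the torus
centralising `R`.
-/

set_option autoImplicit false

namespace Cfsg.Agent.Omega.Lin

open Subgroup

variable {G : Type*} [Group G] {F : Type*} [Field F]

namespace SemiMod

variable {n : ℕ} {W L : Subgroup G} (E : SemiMod F n W L)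

theorem e_zero : E.e 0 = 1 := by
  have h := E.e_add 0 0
  rw [add_zero] at h
  exact mul_eq_left.1 h.symm

theorem e_neg (x : Fin n → F) : E.e (-x) = (E.e x)⁻¹ := by
  rw [eq_inv_iff_mul_eq_one, ← E.e_add, neg_add_cancel, E.e_zero]

theorem e_comm (x y : Fin n → F) : E.e x * E.e y = E.e y * E.e x := by
  rw [← E.e_add, ← E.e_add, add_comm]

theorem e_mem (x : Fin n → F) : E.e x ∈ W := (E.mem_iff _).2 ⟨x, rfl⟩

include E in
theorem ab : ∀ x ∈ W, ∀ y ∈ W, x * y = y * x := by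
  intro x hx y hy
  obtain ⟨x, rfl⟩ := (E.mem_iff _).1 hx
  obtain ⟨y, rfl⟩ := (E.mem_iff _).1 hy
  exact E.e_comm x y

include E in
theorem conj_mem {g w : G} (hg : g ∈ L) (hw : w ∈ W) : g * w * g⁻¹ ∈ W := by
  obtain ⟨x, rfl⟩ := (E.mem_iff _).1 hw
  obtain ⟨_, T, h, _⟩ := E.semi g hg
  rw [h]
  exact E.e_mem _

include E in
theorem le_normalizer : L ≤ normalizer (W : Set G) := fun g hg => by
  rw [mem_normalizer_iff]
  refine fun w => ⟨E.conj_mem hg, fun h => ?_⟩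
  have := E.conj_mem (L.inv_mem hg) h
  have e : g⁻¹ * (g * w * g⁻¹) * g⁻¹⁻¹ = w := by group
  rwa [e] at this

include E in
theorem sq [CharP F 2] {w : G} (hw : w ∈ W) : w * w = 1 := by
  obtain ⟨x, rfl⟩ := (E.mem_iff _).1 hw
  rw [← E.e_add]
  have : x + x = 0 := by
    funext i
    exact CharTwo.add_self_eq_zero (x i)
  rw [this, E.e_zero]

include E in
theorem isPGroup [CharP F 2] : IsPGroup 2 W := fun ⟨w, hw⟩ =>
  ⟨1, Subtype.ext (by simpa [pow_succ] using E.sq hw)⟩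

/-- The additive subgroup of the vectors with values in a subgroup. -/
def pre (A : Subgroup G) : AddSubgroup (Fin n → F) where
  carrier := {x | E.e x ∈ A}
  zero_mem' := by
    show E.e 0 ∈ A
    rw [E.e_zero]
    exact A.one_mem
  add_mem' {x y} hx hy := by
    show E.e (x + y) ∈ A
    rw [E.e_add]
    exact A.mul_mem hx hy
  neg_mem' {x} hx := by
    show E.e (-x) ∈ A
    rw [E.e_neg]
    exact A.inv_mem hx

theorem mem_pre {A : Subgroup G} {x : Fin n → F} : x ∈ E.pre A ↔ E.e x ∈ A := Iff.rfl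

theorem le_of_single {A : Subgroup G} (h : ∀ i c, E.e (Pi.single i c) ∈ A) : W ≤ A := by
  intro w hw
  obtain ⟨x, rfl⟩ := (E.mem_iff _).1 hw
  rw [← E.mem_pre, ← Finset.univ_sum_single x]
  exact AddSubgroup.sum_mem _ fun i _ => h i (x i)

end SemiMod

namespace Out

variable {k : ℕ} {W₁ W₂ L₁ L₂ R Q : Subgroup G} (X : Out F k W₁ W₂ L₁ L₂ R Q)

theorem mem_R₁ (x : Fin (k + 1) → F) : X.E₁.e x ∈ R ↔ ∀ i : Fin k, x i.succ = 0 := by
  rw [X.mem_R]
  constructor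
  · rintro ⟨c, hc⟩ i
    rw [← X.E₁.e_inj hc]
    simp
  · intro h
    refine ⟨x 0, ?_⟩
    congr 1
    funext j
    refine Fin.cases ?_ (fun i => ?_) j
    · simp
    · simp [h i]

theorem mem_R₂ (x : Fin (k + 1) → F) : X.E₂.e x ∈ R ↔ ∀ i : Fin k, x i.succ = 0 := by
  rw [X.mem_R]
  constructor
  · rintro ⟨c, hc⟩ i
    rw [X.r_eq] at hc
    rw [← X.E₂.e_inj hc]
    simp
  · intro h
    refine ⟨x 0, ?_⟩
    rw [X.r_eq]
    congr 1
    funext j
    refine Fin.cases ?_ (fun i => ?_) j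
    · simp
    · simp [h i]

include X in
theorem R_le₁ : R ≤ W₁ := fun g hg => by
  obtain ⟨c, rfl⟩ := (X.mem_R _).1 hg
  exact X.E₁.e_mem _

include X in
theorem R_le₂ : R ≤ W₂ := fun g hg => by
  obtain ⟨c, rfl⟩ := (X.mem_R _).1 hg
  rw [X.r_eq]
  exact X.E₂.e_mem _

theorem comm' [CharP F 2] (x y : Fin (k + 1) → F) : X.E₂.e y * X.E₁.e x * (X.E₂.e y)⁻¹ * (X.E₁.e x)⁻¹ =
    X.E₂.e (Pi.single 0 (∑ i : Fin k, y i.succ * x i.succ)) := by
  have h := congrArg (fun g => g⁻¹) (X.comm x y)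
  have e1 : (X.E₁.e x * X.E₂.e y * (X.E₁.e x)⁻¹ * (X.E₂.e y)⁻¹)⁻¹ =
      X.E₂.e y * X.E₁.e x * (X.E₂.e y)⁻¹ * (X.E₁.e x)⁻¹ := by group
  have e2 : (∑ i : Fin k, x i.succ * y i.succ) = ∑ i : Fin k, y i.succ * x i.succ :=
    Finset.sum_congr rfl fun i _ => mul_comm _ _
  have e3 : -(Pi.single (0 : Fin (k + 1)) (∑ i : Fin k, x i.succ * y i.succ) : Fin (k + 1) → F) =
      Pi.single 0 (∑ i : Fin k, x i.succ * y i.succ) := by
    funext j
    exact CharTwo.neg_eq _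
  rw [← e1, ← X.r_eq, ← e2]
  rw [h, ← X.E₁.e_neg, e3]

/-- The symmetric situation. -/
def symm [CharP F 2] : Out F k W₂ W₁ L₂ L₁ R Q where
  E₁ := X.E₂
  E₂ := X.E₁
  r_eq c := (X.r_eq c).symm
  mem_R g := by
    rw [X.mem_R]
    exact exists_congr fun c => by rw [X.r_eq]
  comm x y := X.comm' y x
  cen₁ := X.cen₂
  cen₂ := X.cen₁
  norm₁ := X.norm₂
  norm₂ := X.norm₁
  sup := by rw [sup_comm]; exact X.sup

include X in
theorem cent_le₁ : centralizer (R : Set G) ≤ L₁ := le_trans (centralizer_le_normalizer _) X.norm₁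

include X in
theorem cent_le₂ : centralizer (R : Set G) ≤ L₂ := le_trans (centralizer_le_normalizer _) X.norm₂

theorem mem_cent {g : G} : g ∈ centralizer (R : Set G) ↔
    ∀ c : F, g * X.E₁.e (Pi.single 0 c) = X.E₁.e (Pi.single 0 c) * g := by
  rw [mem_centralizer_iff]
  constructor
  · intro h c
    exact (h _ ((X.mem_R _).2 ⟨c, rfl⟩)).symm
  · intro h r hr
    obtain ⟨c, rfl⟩ := (X.mem_R _).1 hr
    exact (h c).symm

include X in
/-- **Irreducibility for `k ≥ 2`.** -/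
theorem irr_two (hk : 2 ≤ k) (A : Subgroup G) (hRA : R ≤ A) (hA : A ≤ W₁)
    (hAn : ∀ c ∈ centralizer (R : Set G), ∀ x ∈ A, c * x * c⁻¹ ∈ A) : A = R ∨ A = W₁ := by
  classical
  by_cases hAR : A ≤ R
  · exact Or.inl (le_antisymm hAR hRA)
  right
  refine le_antisymm hA ?_
  obtain ⟨g, hg, hgR⟩ := SetLike.not_le_iff_exists.1 hAR
  obtain ⟨x, rfl⟩ := (X.E₁.mem_iff _).1 (hA hg)
  rw [X.mem_R₁] at hgR
  push Not at hgR
  obtain ⟨j, hj⟩ := hgR
  -- the transvections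
  have key : ∀ y, X.E₁.e y ∈ A → ∀ i j : Fin k, i ≠ j → ∀ c : F, X.E₁.e (Pi.single i.succ (c * y j.succ)) ∈ A := by
    intro y hy i j hij c
    have hij' : i.succ ≠ j.succ := fun h => hij (Fin.succ_injective _ h)
    let M : Matrix.SpecialLinearGroup (Fin (k + 1)) F :=
      ⟨Matrix.transvection i.succ j.succ c, Matrix.det_transvection_of_ne _ _ hij' c⟩
    have hM : ∀ z, M.1.mulVec z = z + Pi.single i.succ (c * z j.succ) := by
      intro z
      show (Matrix.transvection i.succ j.succ c).mulVec z = _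
      rw [Matrix.transvection, Matrix.add_mulVec, Matrix.one_mulVec]
      congr 1
      funext l
      rw [Matrix.single_mulVec]
      simp [Function.update_apply, Pi.single_apply]
    obtain ⟨m, hm, hme⟩ := X.E₁.lift M
    have hmc : m ∈ centralizer (R : Set G) := by
      rw [X.mem_cent]
      intro a
      have h1 := hme (Pi.single 0 a)
      rw [hM] at h1
      have h2 : (Pi.single (0 : Fin (k + 1)) a : Fin (k + 1) → F) j.succ = 0 := by simp
      rw [h2, mul_zero, Pi.single_zero, add_zero] at h1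
      rw [mul_inv_eq_iff_eq_mul] at h1
      exact h1
    have h1 := hAn m hmc _ hy
    rw [hme, hM, X.E₁.e_add] at h1
    have h2 := A.mul_mem (A.inv_mem hy) h1
    rwa [inv_mul_cancel_left] at h2
  have hsing : ∀ i j : Fin k, i ≠ j → ∀ y, X.E₁.e y ∈ A → y j.succ ≠ 0 → ∀ c, X.E₁.e (Pi.single i.succ c) ∈ A := by
    intro i j hij y hy hyj c
    have := key y hy i j hij (c * (y j.succ)⁻¹)
    rwa [mul_assoc, inv_mul_cancel₀ hyj, mul_one] at this
  -- another index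
  obtain ⟨i, hij⟩ : ∃ i : Fin k, i ≠ j := by
    have : Nontrivial (Fin k) := Fin.nontrivial_iff_two_le.2 hk
    exact exists_ne j
  have hi : ∀ c, X.E₁.e (Pi.single i.succ c) ∈ A := hsing i j hij x hg hj
  refine X.E₁.le_of_single fun l c => ?_
  refine Fin.cases ?_ (fun l => ?_) l
  · exact hRA ((X.mem_R _).2 ⟨c, rfl⟩)
  · by_cases hl : l = j
    · subst hl
      exact hsing l i hij.symm (Pi.single i.succ 1) (hi 1) (by simp) c
    · exact hsing l j hl x hg hj c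

/-- **The torus centralising `R`.** -/
theorem torus (t : Fin k → F) (d : F) (hd : d ≠ 0) (h : (∏ i, t i) * d ^ (k + 2) = 1) (i₀ : Fin k) :
    ∃ h ∈ centralizer (R : Set G),
      (∀ x, ∃ x', h * X.E₁.e x * h⁻¹ = X.E₁.e x' ∧ ∀ j : Fin k, x' j.succ = t j * x j.succ) ∧
      ∀ y, ∃ y', h * X.E₂.e y * h⁻¹ = X.E₂.e y' ∧ ∀ j : Fin k, y' j.succ = (t j)⁻¹ * y j.succ := by
  classical
  have ht : ∀ i, t i ≠ 0 := by
    intro i hi
    rw [Finset.prod_eq_zero (Finset.mem_univ i) hi, zero_mul] at h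
    exact zero_ne_one h
  let ε : Fin k → F := fun j => if j = i₀ then d else 1
  have hε : ∏ j, ε j = d := by
    simp [ε, Finset.prod_ite_eq']
  have hε0 : ∀ j, ε j ≠ 0 := by
    intro j
    by_cases hj : j = i₀
    · simp [ε, hj, hd]
    · simp [ε, hj]
  let δ₁ : Fin (k + 1) → F := Fin.cons d fun j => t j * d * ε j
  let δ₂ : Fin (k + 1) → F := Fin.cons d⁻¹ ε
  have h1 : (Matrix.diagonal δ₁).det = 1 := by
    rw [Matrix.det_diagonal, Fin.prod_univ_succ]
    simp only [δ₁, Fin.cons_zero, Fin.cons_succ]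
    rw [Finset.prod_mul_distrib, Finset.prod_mul_distrib, hε, Finset.prod_const, Finset.card_univ, Fintype.card_fin,
      ← h]
    ring
  have h2 : (Matrix.diagonal δ₂).det = 1 := by
    rw [Matrix.det_diagonal, Fin.prod_univ_succ]
    simp only [δ₂, Fin.cons_zero, Fin.cons_succ]
    rw [hε, inv_mul_cancel₀ hd]
  obtain ⟨m₁, hm₁, e₁⟩ := X.E₁.lift ⟨_, h1⟩
  obtain ⟨m₂, hm₂, e₂⟩ := X.E₂.lift ⟨_, h2⟩
  have e₁' : ∀ x, ∃ x', m₁ * X.E₁.e x * m₁⁻¹ = X.E₁.e x' ∧ x' 0 = d * x 0 ∧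
      ∀ j : Fin k, x' j.succ = t j * d * ε j * x j.succ := fun x =>
    ⟨_, e₁ x, by rw [Matrix.mulVec_diagonal]; rfl, fun j => by rw [Matrix.mulVec_diagonal]; rfl⟩
  have e₂' : ∀ y, ∃ y', m₂ * X.E₂.e y * m₂⁻¹ = X.E₂.e y' ∧ y' 0 = d⁻¹ * y 0 ∧
      ∀ j : Fin k, y' j.succ = ε j * y j.succ := fun y =>
    ⟨_, e₂ y, by rw [Matrix.mulVec_diagonal]; rfl, fun j => by rw [Matrix.mulVec_diagonal]; rfl⟩
  -- the action on `R`
  have r₁ : ∀ c, m₁ * X.E₁.e (Pi.single 0 c) * m₁⁻¹ = X.E₁.e (Pi.single 0 (d * c)) := by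
    intro c
    obtain ⟨x', h, h0, hj⟩ := e₁' (Pi.single 0 c)
    rw [h]
    congr 1
    funext j
    refine Fin.cases ?_ (fun j => ?_) j
    · rw [h0]; simp
    · rw [hj]; simp
  have r₂ : ∀ c, m₂ * X.E₁.e (Pi.single 0 c) * m₂⁻¹ = X.E₁.e (Pi.single 0 (d⁻¹ * c)) := by
    intro c
    obtain ⟨x', h, h0, hj⟩ := e₂' (Pi.single 0 c)
    rw [X.r_eq, h, X.r_eq]
    congr 1
    funext j
    refine Fin.cases ?_ (fun j => ?_) j
    · rw [h0]; simp
    · rw [hj]; simp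
  have hRn₂ : m₂ ∈ normalizer (R : Set G) := by
    rw [mem_normalizer_iff]
    intro r
    constructor
    · intro hr
      obtain ⟨c, rfl⟩ := (X.mem_R _).1 hr
      rw [r₂]
      exact (X.mem_R _).2 ⟨_, rfl⟩
    · intro hr
      obtain ⟨c, hc⟩ := (X.mem_R _).1 hr
      have h3 := r₂ (d * c)
      rw [inv_mul_cancel_left₀ hd, hc] at h3
      have h4 : X.E₁.e (Pi.single 0 (d * c)) = r := by
        have := congrArg (fun g => m₂⁻¹ * g * m₂) h3
        simpa [mul_assoc] using this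
      exact (X.mem_R _).2 ⟨_, h4⟩
  have hcR : m₁ * m₂ ∈ centralizer (R : Set G) := by
    rw [X.mem_cent]
    intro c
    have h3 : m₁ * m₂ * X.E₁.e (Pi.single 0 c) * (m₁ * m₂)⁻¹ = X.E₁.e (Pi.single 0 c) := by
      calc m₁ * m₂ * X.E₁.e (Pi.single 0 c) * (m₁ * m₂)⁻¹ = m₁ * (m₂ * X.E₁.e (Pi.single 0 c) * m₂⁻¹) * m₁⁻¹ := by
            group
        _ = _ := by rw [r₂, r₁, mul_inv_cancel_left₀ hd]
    rw [mul_inv_eq_iff_eq_mul] at h3
    exact h3
  -- the action of `m₂` on `W₁ / R`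
  have a₂ : ∀ x, ∃ x', m₂ * X.E₁.e x * m₂⁻¹ = X.E₁.e x' ∧ ∀ j : Fin k, x' j.succ = d⁻¹ * (ε j)⁻¹ * x j.succ := by
    intro x
    obtain ⟨x', hx'⟩ := (X.E₁.mem_iff _).1 (X.E₁.conj_mem (X.norm₁ hRn₂) (X.E₁.e_mem x))
    refine ⟨x', hx'.symm, fun j => ?_⟩
    obtain ⟨y', hy', -, hyj⟩ := e₂' (Pi.single j.succ 1)
    have c1 := X.comm x (Pi.single j.succ 1)
    have c2 := X.comm x' y'
    rw [← hy', hx'] at c2
    have c3 : m₂ * (X.E₁.e x * X.E₂.e (Pi.single j.succ 1) * (X.E₁.e x)⁻¹ * (X.E₂.e (Pi.single j.succ 1))⁻¹) * m₂⁻¹ =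
        X.E₁.e (Pi.single 0 (∑ i : Fin k, x' i.succ * y' i.succ)) := by
      rw [← c2]; group
    rw [c1, r₂] at c3
    have c4 := congrFun (X.E₁.e_inj c3) 0
    rw [Pi.single_eq_same, Pi.single_eq_same] at c4
    have s1 : ∑ i : Fin k, x i.succ * (Pi.single j.succ (1 : F) : Fin (k + 1) → F) i.succ = x j.succ := by
      rw [Finset.sum_eq_single j]
      · simp
      · intro i _ hij
        have : i.succ ≠ j.succ := fun h => hij (Fin.succ_injective _ h)
        simp [this]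
      · intro h; exact absurd (Finset.mem_univ j) h
    have s2 : ∑ i : Fin k, x' i.succ * y' i.succ = x' j.succ * ε j := by
      rw [Finset.sum_eq_single j]
      · rw [hyj]; simp
      · intro i _ hij
        have : i.succ ≠ j.succ := fun h => hij (Fin.succ_injective _ h)
        rw [hyj]
        simp [this]
      · intro h; exact absurd (Finset.mem_univ j) h
    rw [s1, s2] at c4
    have := hε0 j
    field_simp at c4 ⊢
    linear_combination (-1 : F) * c4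
  have a₁ : ∀ x, ∃ x', m₁ * m₂ * X.E₁.e x * (m₁ * m₂)⁻¹ = X.E₁.e x' ∧ ∀ j : Fin k, x' j.succ = t j * x j.succ := by
    intro x
    obtain ⟨x', h1, h2⟩ := a₂ x
    obtain ⟨x'', h3, -, h4⟩ := e₁' x'
    refine ⟨x'', ?_, fun j => ?_⟩
    · rw [← h3, ← h1]; group
    · rw [h4, h2]
      have := hε0 j
      field_simp
  refine ⟨m₁ * m₂, hcR, a₁, fun y => ?_⟩
  obtain ⟨y', hy'⟩ := (X.E₂.mem_iff _).1 (X.E₂.conj_mem (X.cent_le₂ hcR) (X.E₂.e_mem y))
  refine ⟨y', hy'.symm, fun j => ?_⟩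
  obtain ⟨x', hx', hxj⟩ := a₁ (Pi.single j.succ 1)
  have c1 := X.comm (Pi.single j.succ 1) y
  have c2 := X.comm x' y'
  rw [← hx', hy'] at c2
  have c3 : m₁ * m₂ * (X.E₁.e (Pi.single j.succ 1) * X.E₂.e y * (X.E₁.e (Pi.single j.succ 1))⁻¹ * (X.E₂.e y)⁻¹) *
      (m₁ * m₂)⁻¹ = X.E₁.e (Pi.single 0 (∑ i : Fin k, x' i.succ * y' i.succ)) := by
    rw [← c2]; group
  rw [c1, X.mem_cent.1 hcR, mul_inv_cancel_right] at c3
  have c4 := congrFun (X.E₁.e_inj c3) 0
  rw [Pi.single_eq_same, Pi.single_eq_same] at c4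
  have s1 : ∑ i : Fin k, (Pi.single j.succ (1 : F) : Fin (k + 1) → F) i.succ * y i.succ = y j.succ := by
    rw [Finset.sum_eq_single j]
    · simp
    · intro i _ hij
      have : i.succ ≠ j.succ := fun h => hij (Fin.succ_injective _ h)
      simp [this]
    · intro h; exact absurd (Finset.mem_univ j) h
  have s2 : ∑ i : Fin k, x' i.succ * y' i.succ = t j * y' j.succ := by
    rw [Finset.sum_eq_single j]
    · rw [hxj]; simp
    · intro i _ hij
      have : i.succ ≠ j.succ := fun h => hij (Fin.succ_injective _ h)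
      rw [hxj]
      simp [this]
    · intro h; exact absurd (Finset.mem_univ j) h
  rw [s1, s2] at c4
  rw [c4, inv_mul_cancel_left₀ (ht j)]

end Out

end Cfsg.Agent.Omega.Lin
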