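import Cfsg.Agent.Omega.Lin.Ctx

/-!
# THEOREM LIN (1): `C_O(W') = R`
-/

set_option autoImplicit false
set_option linter.unusedSectionVars false

namespace Cfsg.Agent.Omega.Lin

open Subgroup BTwo Cfsg.Agent.Lib.SL2Mat

variable {G : Type*} [Group G] {F : Type*} [Field F] {V V' : Subgroup G}

section coord

variable (M : NatPair.NatMod F V)

theorem ap_vec (A : Matrix.SpecialLinearGroup (Fin 2) F) (a b : F) :
    NatPair.ap A ![a, b] = ![ent A 0 0 * a + ent A 0 1 * b, ent A 1 0 * a + ent A 1 1 * b] := rfl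

/-- lifting matrices -/
theorem exists_lift (p q r s : F) (h : p * s - q * r = 1) :
    ∃ g ∈ normalizer (V : Set G), ∀ a b, g * vv M a b * g⁻¹ = vv M (p * a + q * b) (r * a + s * b) := by
  obtain ⟨g, hg⟩ := M.lift (mk p q r s h)
  refine ⟨g, M.mem_normalizer hg, fun a b => ?_⟩
  unfold vv
  rw [hg, ap_vec]
  simp

/-- the Weyl element -/
theorem exists_weyl [CharP F 2] :
    ∃ g ∈ normalizer (V : Set G), ∀ a b, g * vv M a b * g⁻¹ = vv M b a := by
  obtain ⟨g, hg, h⟩ := exists_lift M (0 : F) 1 1 0 (by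
    have : (1 : F) + 1 = 0 := CharTwo.add_self_eq_zero 1
    linear_combination -this)
  refine ⟨g, hg, fun a b => ?_⟩
  rw [h]
  congr 1 <;> ring

/-- semilinearity of `N(V)` on `V` -/
theorem exists_semi' [Finite F] {n : G} (hn : n ∈ normalizer (V : Set G)) :
    ∃ s : F ≃+* F, ∀ a b a' b' : F, n * vv M a b * n⁻¹ = vv M a' b' → ∀ t : F,
      n * vv M (t * a) (t * b) * n⁻¹ = vv M (s t * a') (s t * b') := by
  obtain ⟨s, hs⟩ := M.exists_semi hn
  refine ⟨s, fun a b a' b' h t => ?_⟩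
  have h1 : M.act n ![a, b] = ![a', b'] := by
    apply M.e_inj
    rw [M.e_act hn]
    exact h
  have h2 := hs t ![a, b]
  rw [h1] at h2
  have h3 := M.e_act hn (t • ![a, b])
  rw [h2] at h3
  have e1 : t • ![a, b] = ![t * a, t * b] := by
    apply NatPair.ext2 <;> simp
  have e2 : s t • ![a', b'] = ![s t * a', s t * b'] := by
    apply NatPair.ext2 <;> simp
  rw [e1, e2] at h3
  exact h3.symm

end coord

section

variable [Finite G] [Finite F] [CharP F 2] {M : NatPair.NatMod F V} {M' : NatPair.NatMod F V'} {R O O' : Subgroup G}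

namespace Ctx

variable (c : Ctx M M' R O O')
include c

/-- an element of `N(V)` which maps one point of `R` into `R` normalises `R` -/
theorem mem_nR {n : G} (hn : n ∈ normalizer (V : Set G)) {a b : F} (ha : a ≠ 0)
    (h : n * vv M a 0 * n⁻¹ = vv M b 0) : n ∈ normalizer (R : Set G) := by
  obtain ⟨s, hs⟩ := exists_semi' M hn
  apply mem_normalizer_of_conj
  intro x hx
  obtain ⟨t, rfl⟩ := (c.memR x).1 hx
  have h1 := hs a 0 b 0 h (t * a⁻¹)
  rw [show t * a⁻¹ * a = t by field_simp, mul_zero, mul_zero] at h1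
  rw [h1]
  exact c.R_mem _

theorem cj_W' {n : G} (hn : n ∈ normalizer (R : Set G)) : cj n (WW V' R) = WW V' R := by
  have _ := c
  exact cj_eq_self_iff.2 (normalizer_le_WW V' R hn)

/-- **(1)** `C_O(W') = R` -/
theorem mem_R_of_cen {u : G} (hu : u ∈ O) (hc : ∀ w ∈ WW V' R, w * u = u * w) : u ∈ R := by
  obtain ⟨x, hx, hxa⟩ := exists_weyl M
  set a1 := vv M' 0 1 with ha1
  have ha1W : a1 ∈ WW V' R := c.symm.V_W (vv_mem M' 0 1)
  have ha1Q : a1 ∈ QQ R := c.symm.W_Q ha1W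
  have ha1V : a1 ∈ normalizer (V : Set G) := by
    apply mem_normalizer_of_conj
    intro v hv
    obtain ⟨a, b, rfl⟩ := exists_vv M hv
    rw [c.act ha1Q]
    exact vv_mem M _ _
  have hP1 : P M a1 (vv M 0 1) = 1 := by rw [ha1, c.P_base, one_mul]
  have hact1 : ∀ a b, a1 * vv M a b * a1⁻¹ = vv M (a + b) b := fun a b => by
    rw [c.act ha1Q, hP1, one_mul]
  set b1 := x * a1 * x⁻¹ with hb1
  have hxinv : ∀ a b, x⁻¹ * vv M a b * x = vv M b a := by
    intro a b
    rw [← hxa b a]; group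
  have hact2 : ∀ a b, b1 * vv M a b * b1⁻¹ = vv M a (a + b) := by
    intro a b
    calc b1 * vv M a b * b1⁻¹ = x * (a1 * (x⁻¹ * vv M a b * x) * a1⁻¹) * x⁻¹ := by rw [hb1]; group
      _ = vv M a (a + b) := by rw [hxinv, hact1, hxa, add_comm]
  set g := a1 * b1 * a1 with hg
  -- `b1 u b1⁻¹ = vv 0 c₀ * u`
  have hxO : ∀ y ∈ O, x * y * x⁻¹ ∈ O := fun y hy => conj_mem_of_normalizer (c.nV hx) hy
  have hxO' : ∀ y ∈ O, x⁻¹ * y * x ∈ O := fun y hy => conj_inv_mem_of_normalizer (c.nV hx) hy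
  obtain ⟨k, hk⟩ : ∃ k, b1 * u * b1⁻¹ = vv M 0 k * u := by
    have h1 : a1 * (x⁻¹ * u * x) * a1⁻¹ * (x⁻¹ * u * x)⁻¹ ∈ R := by
      apply c.com_symm
      exact c.symm.QW (c.O_Q (hxO' u hu)) ha1W
    obtain ⟨k, hk⟩ := (c.memR _).1 h1
    refine ⟨k, ?_⟩
    rw [← hxa k 0, hk, hb1]; group
  have hcu : a1 * u * a1⁻¹ = u := by rw [hc a1 ha1W, mul_inv_cancel_right]
  have hgu : g * u * g⁻¹ = vv M k k * u := by
    calc g * u * g⁻¹ = a1 * (b1 * (a1 * u * a1⁻¹) * b1⁻¹) * a1⁻¹ := by rw [hg]; group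
      _ = a1 * (vv M 0 k * u) * a1⁻¹ := by rw [hcu, hk]
      _ = (a1 * vv M 0 k * a1⁻¹) * (a1 * u * a1⁻¹) := by group
      _ = vv M k k * u := by rw [hact1, hcu, zero_add]
  set u0 := vv M k 0 * u with hu0
  have hu0' : u0 = vv M 0 k * (g * u * g⁻¹) := by
    rw [hgu, ← mul_assoc, vv_mul, zero_add, CharTwo.add_self_eq_zero, hu0]
  have hactg : ∀ a b, g * vv M a b * g⁻¹ = vv M b a := by
    intro a b
    calc g * vv M a b * g⁻¹ = a1 * (b1 * (a1 * vv M a b * a1⁻¹) * b1⁻¹) * a1⁻¹ := by rw [hg]; group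
      _ = vv M b a := by
        rw [hact1, hact2, hact1]
        congr 1
        · linear_combination (a + b) * (CharTwo.two_eq_zero : (2 : F) = 0)
        · linear_combination b * (CharTwo.two_eq_zero : (2 : F) = 0)
  have hgV : g ∈ normalizer (V : Set G) := by
    apply mem_normalizer_of_conj
    intro v hv
    obtain ⟨a, b, rfl⟩ := exists_vv M hv
    rw [hactg]
    exact vv_mem M _ _
  -- `u0` commutes with `W'` and with `g W' g⁻¹`
  have hw0 : ∀ w ∈ WW V' R, w * u0 = u0 * w := by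
    intro w hw
    have h1 := c.Q_R (c.symm.W_Q hw) (c.R_mem k)
    calc w * u0 = w * vv M k 0 * u := by rw [hu0]; group
      _ = vv M k 0 * (w * u) := by rw [h1]; group
      _ = u0 * w := by rw [hc w hw, hu0]; group
  have hw1 : ∀ w ∈ WW V' R, (g * w * g⁻¹) * u0 = u0 * (g * w * g⁻¹) := by
    intro w hw
    have h1 := c.Q_R (c.symm.W_Q hw) (c.R_mem k)
    have h2 : vv M 0 k = g * vv M k 0 * g⁻¹ := (hactg k 0).symm
    rw [hu0', h2]
    calc g * w * g⁻¹ * (g * vv M k 0 * g⁻¹ * (g * u * g⁻¹)) = g * ((w * vv M k 0) * u) * g⁻¹ := by group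
      _ = g * (vv M k 0 * (w * u)) * g⁻¹ := by rw [h1]; group
      _ = g * (vv M k 0 * (u * w)) * g⁻¹ := by rw [hc w hw]
      _ = g * vv M k 0 * g⁻¹ * (g * u * g⁻¹) * (g * w * g⁻¹) := by group
  -- the subgroup of all elements of `O` commuting with all conjugates of `W'` under `N(V)`
  let B : Subgroup G := O ⊓ ⨅ n : normalizer (V : Set G), centralizer (cj (n : G) (WW V' R) : Set G)
  have hBmem : ∀ y, y ∈ B ↔ y ∈ O ∧ ∀ n ∈ normalizer (V : Set G), ∀ w ∈ WW V' R, n * w * n⁻¹ * y = y * (n * w * n⁻¹) := by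
    intro y
    rw [mem_inf, mem_iInf]
    refine and_congr_right fun _ => ?_
    constructor
    · intro h n hn w hw
      exact mem_centralizer_iff.1 (h ⟨n, hn⟩) _ (conj_mem_cj hw)
    · rintro h ⟨n, hn⟩
      rw [mem_centralizer_iff]
      rintro _ ⟨w, hw, rfl⟩
      exact h n hn w hw
  have hB : B = ⊥ := by
    apply c.fix B inf_le_left
    · intro n hn y hy
      rw [hBmem] at hy ⊢
      refine ⟨conj_mem_of_normalizer (c.nV hn) hy.1, fun m hm w hw => ?_⟩
      have h1 := hy.2 (n⁻¹ * m) (mul_mem (inv_mem hn) hm) w hw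
      calc m * w * m⁻¹ * (n * y * n⁻¹) = n * (n⁻¹ * m * w * (n⁻¹ * m)⁻¹ * y) * n⁻¹ := by group
        _ = n * (y * (n⁻¹ * m * w * (n⁻¹ * m)⁻¹)) * n⁻¹ := by rw [h1]
        _ = n * y * n⁻¹ * (m * w * m⁻¹) := by group
    · rw [eq_bot_iff_forall]
      intro y hy
      rw [mem_inf, hBmem] at hy
      obtain ⟨a, b, rfl⟩ := exists_vv M hy.2
      have h1 := hy.1.2 1 (one_mem _) a1 ha1W
      have h2 := hy.1.2 x hx a1 ha1W
      have e1 : vv M (a + b) b = vv M a b := by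
        rw [← hact1, mul_inv_eq_iff_eq_mul]
        simpa using h1
      have e2 : vv M a (a + b) = vv M a b := by
        rw [← hact2, mul_inv_eq_iff_eq_mul]
        exact h2
      have hb : b = 0 := by
        have := (vv_inj M e1).1
        exact left_eq_add.1 this.symm
      have ha : a = 0 := by
        have := (vv_inj M e2).2
        exact right_eq_add.1 this.symm
      rw [ha, hb, vv_zero]
  have hu0B : u0 ∈ B := by
    rw [hBmem]
    refine ⟨mul_mem (c.V_O (vv_mem M k 0)) hu, fun n hn w hw => ?_⟩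
    -- the image of the point `R`
    obtain ⟨α, β, hαβ⟩ := exists_vv M (conj_mem_of_normalizer hn (vv_mem M 1 0))
    by_cases hβ : β = 0
    · rw [hβ] at hαβ
      have hnR : n ∈ normalizer (R : Set G) := c.mem_nR hn one_ne_zero hαβ.symm
      exact hw0 _ (c.symm.W_n hnR hw)
    · set a2 := vv M' 0 (α / β) with ha2
      have ha2W : a2 ∈ WW V' R := c.symm.V_W (vv_mem M' 0 _)
      have hact3 : ∀ a b, a2 * vv M a b * a2⁻¹ = vv M (a + α / β * b) b := fun a b => by
        rw [c.act (c.symm.W_Q ha2W), ha2, c.P_base, mul_one]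
      have ha2V : a2 ∈ normalizer (V : Set G) := by
        apply mem_normalizer_of_conj
        intro v hv
        obtain ⟨a, b, rfl⟩ := exists_vv M hv
        rw [hact3]
        exact vv_mem M _ _
      -- `(a2 g)⁻¹ n ∈ N(R)`
      have h1 : (a2 * g) * vv M β 0 * (a2 * g)⁻¹ = vv M α β := by
        calc (a2 * g) * vv M β 0 * (a2 * g)⁻¹ = a2 * (g * vv M β 0 * g⁻¹) * a2⁻¹ := by group
          _ = vv M α β := by
            rw [hactg, hact3, zero_add]
            congr 1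
            field_simp
      have h2 : (a2 * g)⁻¹ * n ∈ normalizer (R : Set G) := by
        refine c.mem_nR (mul_mem (inv_mem (mul_mem ha2V hgV)) hn) (a := 1) (b := β) one_ne_zero ?_
        calc (a2 * g)⁻¹ * n * vv M 1 0 * ((a2 * g)⁻¹ * n)⁻¹ = (a2 * g)⁻¹ * (n * vv M 1 0 * n⁻¹) * (a2 * g) := by group
          _ = (a2 * g)⁻¹ * ((a2 * g) * vv M β 0 * (a2 * g)⁻¹) * (a2 * g) := by rw [← hαβ, h1]
          _ = vv M β 0 := by group
      set w2 := (a2 * g)⁻¹ * n * w * ((a2 * g)⁻¹ * n)⁻¹ with hw2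
      have hw2W : w2 ∈ WW V' R := c.symm.W_n h2 hw
      have e1 : n * w * n⁻¹ = a2 * (g * w2 * g⁻¹) * a2⁻¹ := by rw [hw2]; group
      have e2 := hw1 w2 hw2W
      have e3 := hw0 a2 ha2W
      have e4 : a2⁻¹ * u0 = u0 * a2⁻¹ := by
        rw [inv_mul_eq_iff_eq_mul, ← mul_assoc, e3, mul_inv_cancel_right]
      rw [e1]
      calc a2 * (g * w2 * g⁻¹) * a2⁻¹ * u0 = a2 * (g * w2 * g⁻¹) * (a2⁻¹ * u0) := by group
        _ = a2 * ((g * w2 * g⁻¹) * u0) * a2⁻¹ := by rw [e4]; group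
        _ = a2 * (u0 * (g * w2 * g⁻¹)) * a2⁻¹ := by rw [e2]
        _ = a2 * u0 * (g * w2 * g⁻¹) * a2⁻¹ := by group
        _ = u0 * (a2 * (g * w2 * g⁻¹) * a2⁻¹) := by rw [e3]; group
  rw [hB, mem_bot] at hu0B
  have : u = vv M k 0 := by
    rw [hu0, mul_eq_one_iff_inv_eq] at hu0B
    rw [← hu0B, vv_inv]
  rw [this]
  exact c.R_mem k

end Ctx

end

end Cfsg.Agent.Omega.Lin
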