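import Mathlib

/-!
# THEOREM LIN: the counting lemma for pairings with values in a finite field, linear on one side
-/

set_option autoImplicit false
set_option linter.unusedSectionVars false

namespace Cfsg.Agent.Omega.Lin

section types

variable {A B F : Type*} [Group A] [Group B] [Field F] [Finite A] [Finite B] [Finite F]

/-- the space of all functions `p a` -/
def US (p : A → B → F) (h1 : ∀ a a' b, p (a * a') b = p a b + p a' b)
    (hs : ∀ (c : F) a, ∃ a', ∀ b, p a' b = c * p a b) : Submodule F (B → F) where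
  carrier := {f | ∃ a, p a = f}
  add_mem' := by
    rintro _ _ ⟨a, rfl⟩ ⟨a', rfl⟩
    exact ⟨a * a', funext fun b => h1 a a' b⟩
  zero_mem' := ⟨1, funext fun b => by
    have := h1 1 1 b
    rw [mul_one] at this
    exact left_eq_add.1 this⟩
  smul_mem' := by
    rintro c _ ⟨a, rfl⟩
    obtain ⟨a', ha'⟩ := hs c a
    exact ⟨a', funext ha'⟩

theorem card_dual (U : Submodule F (B → F)) : Nat.card (Module.Dual F U) = Nat.card U := by
  have : Fintype F := Fintype.ofFinite F
  have : Fintype U := Fintype.ofFinite U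
  have : Finite (Module.Dual F U) := Module.finite_of_finite F
  have : Fintype (Module.Dual F U) := Fintype.ofFinite _
  rw [Nat.card_eq_fintype_card, Nat.card_eq_fintype_card, Module.card_eq_pow_finrank (K := F),
    Module.card_eq_pow_finrank (K := F) (V := U), Subspace.dual_finrank_eq]

/-- evaluation -/
def evl (U : Submodule F (B → F)) (b : B) : Module.Dual F U where
  toFun f := f.1 b
  map_add' _ _ := rfl
  map_smul' _ _ := rfl

theorem card_US (p : A → B → F) (h1 : ∀ a a' b, p (a * a') b = p a b + p a' b)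
    (hs : ∀ (c : F) a, ∃ a', ∀ b, p a' b = c * p a b) (KA : Subgroup A) (hKA : ∀ a ∈ KA, ∀ b, p a b = 0) :
    Nat.card (US p h1 hs) * Nat.card KA ≤ Nat.card A := by
  have e : Nat.card A = Nat.card (A ⧸ KA) * Nat.card KA := Subgroup.card_eq_card_quotient_mul_card_subgroup KA
  rw [e]
  apply Nat.mul_le_mul_right
  let f : A ⧸ KA → US p h1 hs := Quotient.lift (s := QuotientGroup.leftRel KA) (fun a => ⟨p a, a, rfl⟩) (by
    intro a a' h
    have h2 : a⁻¹ * a' ∈ KA := QuotientGroup.leftRel_apply.1 h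
    apply Subtype.ext
    funext b
    have h3 := h1 a (a⁻¹ * a') b
    rw [hKA _ h2, add_zero, mul_inv_cancel_left] at h3
    exact h3.symm)
  apply Nat.card_le_card_of_surjective f
  rintro ⟨_, a, rfl⟩
  exact ⟨QuotientGroup.mk a, rfl⟩

theorem evl_out_inj (p : A → B → F) (h1 : ∀ a a' b, p (a * a') b = p a b + p a' b)
    (h2 : ∀ a b b', p a (b * b') = p a b + p a b')
    (hs : ∀ (c : F) a, ∃ a', ∀ b, p a' b = c * p a b) (KB : Subgroup B) (hKB : ∀ b, (∀ a, p a b = 0) → b ∈ KB) :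
    Function.Injective (fun x : B ⧸ KB => evl (US p h1 hs) x.out) := by
  intro x y h
  have h3 : ∀ a, p a x.out = p a y.out := fun a => by
    have := LinearMap.congr_fun h ⟨p a, a, rfl⟩
    exact this
  rw [← QuotientGroup.out_eq' x, ← QuotientGroup.out_eq' y, QuotientGroup.eq]
  apply hKB
  intro a
  have h4 := h2 a x.out (x.out⁻¹ * y.out)
  rw [mul_inv_cancel_left, ← h3] at h4
  exact left_eq_add.1 h4

theorem card_pair (p : A → B → F) (h1 : ∀ a a' b, p (a * a') b = p a b + p a' b)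
    (h2 : ∀ a b b', p a (b * b') = p a b + p a b')
    (hs : ∀ (c : F) a, ∃ a', ∀ b, p a' b = c * p a b) (KA : Subgroup A) (hKA : ∀ a ∈ KA, ∀ b, p a b = 0)
    (KB : Subgroup B) (hKB : ∀ b, (∀ a, p a b = 0) → b ∈ KB) :
    Nat.card B * Nat.card KA ≤ Nat.card A * Nat.card KB := by
  have : Finite (Module.Dual F (US p h1 hs)) := Module.finite_of_finite F
  have h3 := Nat.card_le_card_of_injective _ (evl_out_inj p h1 h2 hs KB hKB)
  rw [card_dual] at h3
  have e : Nat.card B = Nat.card (B ⧸ KB) * Nat.card KB := Subgroup.card_eq_card_quotient_mul_card_subgroup KB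
  have h4 := card_US p h1 hs KA hKA
  rw [e]
  calc Nat.card (B ⧸ KB) * Nat.card KB * Nat.card KA ≤ Nat.card (US p h1 hs) * Nat.card KB * Nat.card KA :=
        Nat.mul_le_mul_right _ (Nat.mul_le_mul_right _ h3)
    _ = Nat.card (US p h1 hs) * Nat.card KA * Nat.card KB := by ring
    _ ≤ Nat.card A * Nat.card KB := Nat.mul_le_mul_right _ h4

/-- if the numbers agree, every functional is an evaluation -/
theorem surj_pair (p : A → B → F) (h1 : ∀ a a' b, p (a * a') b = p a b + p a' b)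
    (h2 : ∀ a b b', p a (b * b') = p a b + p a b')
    (hs : ∀ (c : F) a, ∃ a', ∀ b, p a' b = c * p a b) (KA : Subgroup A) (hKA : ∀ a ∈ KA, ∀ b, p a b = 0)
    (KB : Subgroup B) (hKB : ∀ b, (∀ a, p a b = 0) → b ∈ KB)
    (he : Nat.card A * Nat.card KB ≤ Nat.card B * Nat.card KA) (φ : A → F) (hφ : ∀ a a', φ (a * a') = φ a + φ a')
    (hφs : ∀ (c : F) a a', (∀ b, p a' b = c * p a b) → φ a' = c * φ a) : ∃ b, ∀ a, φ a = p a b := by
  have : Finite (Module.Dual F (US p h1 hs)) := Module.finite_of_finite F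
  have hinj := evl_out_inj p h1 h2 hs KB hKB
  have h4 := card_US p h1 hs KA hKA
  have e : Nat.card B = Nat.card (B ⧸ KB) * Nat.card KB := Subgroup.card_eq_card_quotient_mul_card_subgroup KB
  have h5 : Nat.card (Module.Dual F (US p h1 hs)) ≤ Nat.card (B ⧸ KB) := by
    rw [card_dual]
    have hA : 0 < Nat.card KA := Nat.card_pos
    have hB : 0 < Nat.card KB := Nat.card_pos
    have h6 : Nat.card (US p h1 hs) * Nat.card KA * Nat.card KB ≤ Nat.card (B ⧸ KB) * Nat.card KB * Nat.card KA := by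
      rw [← e]
      exact (Nat.mul_le_mul_right _ h4).trans he
    have h7 : Nat.card (US p h1 hs) * (Nat.card KA * Nat.card KB) ≤ Nat.card (B ⧸ KB) * (Nat.card KA * Nat.card KB) := by
      calc Nat.card (US p h1 hs) * (Nat.card KA * Nat.card KB) = Nat.card (US p h1 hs) * Nat.card KA * Nat.card KB := by ring
        _ ≤ Nat.card (B ⧸ KB) * Nat.card KB * Nat.card KA := h6
        _ = Nat.card (B ⧸ KB) * (Nat.card KA * Nat.card KB) := by ring
    exact Nat.le_of_mul_le_mul_right h7 (Nat.mul_pos hA hB)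
  have hbij : Function.Bijective (fun x : B ⧸ KB => evl (US p h1 hs) x.out) := by
    rw [Nat.bijective_iff_injective_and_card]
    exact ⟨hinj, le_antisymm (Nat.card_le_card_of_injective _ hinj) h5⟩
  have hwd : ∀ a a', p a = p a' → φ a = φ a' := by
    intro a a' h
    have h8 := hφs 1 a' a fun b => by rw [one_mul, h]
    rwa [one_mul] at h8
  let Φ : Module.Dual F (US p h1 hs) :=
    { toFun := fun f => φ f.2.choose
      map_add' := by
        rintro f g
        rw [← hφ]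
        apply hwd
        rw [(f + g).2.choose_spec]
        funext b
        rw [h1, f.2.choose_spec, g.2.choose_spec]
        rfl
      map_smul' := by
        intro c f
        apply hφs
        intro b
        rw [(c • f).2.choose_spec, f.2.choose_spec]
        rfl }
  obtain ⟨x, hx⟩ := hbij.2 Φ
  refine ⟨x.out, fun a => ?_⟩
  have h9 := LinearMap.congr_fun hx ⟨p a, a, rfl⟩
  change p a x.out = φ _ at h9
  rw [h9]
  apply hwd
  exact (Exists.choose_spec (⟨a, rfl⟩ : ∃ a', p a' = p a)).symm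

end types

section subgroups

variable {G F : Type*} [Group G] [Finite G] [Field F] [Finite F]

theorem card_pair' (A B KA KB : Subgroup G) (hA : KA ≤ A) (hB : KB ≤ B) (p : G → G → F)
    (h1 : ∀ a ∈ A, ∀ a' ∈ A, ∀ b ∈ B, p (a * a') b = p a b + p a' b)
    (h2 : ∀ a ∈ A, ∀ b ∈ B, ∀ b' ∈ B, p a (b * b') = p a b + p a b')
    (hs : ∀ (c : F), ∀ a ∈ A, ∃ a' ∈ A, ∀ b ∈ B, p a' b = c * p a b) (hKA : ∀ a ∈ KA, ∀ b ∈ B, p a b = 0)
    (hKB : ∀ b ∈ B, (∀ a ∈ A, p a b = 0) → b ∈ KB) :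
    Nat.card B * Nat.card KA ≤ Nat.card A * Nat.card KB := by
  have h := card_pair (A := A) (B := B) (fun a b => p a b) (fun a a' b => h1 a a.2 a' a'.2 b b.2)
    (fun a b b' => h2 a a.2 b b.2 b' b'.2) (fun c a => by
      obtain ⟨a', ha', h⟩ := hs c a a.2
      exact ⟨⟨a', ha'⟩, fun b => h b b.2⟩) (KA.subgroupOf A) (fun a ha b => hKA a ha b b.2) (KB.subgroupOf B)
    (fun b hb => Subgroup.mem_subgroupOf.2 (hKB b b.2 fun a ha => hb ⟨a, ha⟩))
  rwa [Nat.card_congr (Subgroup.subgroupOfEquivOfLe hA).toEquiv,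
    Nat.card_congr (Subgroup.subgroupOfEquivOfLe hB).toEquiv] at h

theorem surj_pair' (A B KA KB : Subgroup G) (hA : KA ≤ A) (hB : KB ≤ B) (p : G → G → F)
    (h1 : ∀ a ∈ A, ∀ a' ∈ A, ∀ b ∈ B, p (a * a') b = p a b + p a' b)
    (h2 : ∀ a ∈ A, ∀ b ∈ B, ∀ b' ∈ B, p a (b * b') = p a b + p a b')
    (hs : ∀ (c : F), ∀ a ∈ A, ∃ a' ∈ A, ∀ b ∈ B, p a' b = c * p a b) (hKA : ∀ a ∈ KA, ∀ b ∈ B, p a b = 0)
    (hKB : ∀ b ∈ B, (∀ a ∈ A, p a b = 0) → b ∈ KB)
    (he : Nat.card A * Nat.card KB ≤ Nat.card B * Nat.card KA) (φ : G → F)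
    (hφ : ∀ a ∈ A, ∀ a' ∈ A, φ (a * a') = φ a + φ a')
    (hφs : ∀ (c : F), ∀ a ∈ A, ∀ a' ∈ A, (∀ b ∈ B, p a' b = c * p a b) → φ a' = c * φ a) :
    ∃ b ∈ B, ∀ a ∈ A, φ a = p a b := by
  obtain ⟨b, hb⟩ := surj_pair (A := A) (B := B) (fun a b => p a b) (fun a a' b => h1 a a.2 a' a'.2 b b.2)
    (fun a b b' => h2 a a.2 b b.2 b' b'.2) (fun c a => by
      obtain ⟨a', ha', h⟩ := hs c a a.2
      exact ⟨⟨a', ha'⟩, fun b => h b b.2⟩) (KA.subgroupOf A) (fun a ha b => hKA a ha b b.2) (KB.subgroupOf B)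
    (fun b hb => Subgroup.mem_subgroupOf.2 (hKB b b.2 fun a ha => hb ⟨a, ha⟩))
    (by rwa [Nat.card_congr (Subgroup.subgroupOfEquivOfLe hA).toEquiv,
      Nat.card_congr (Subgroup.subgroupOfEquivOfLe hB).toEquiv]) (fun a => φ a) (fun a a' => hφ a a.2 a' a'.2)
    (fun c a a' h => hφs c a a.2 a' a'.2 fun b hb => h ⟨b, hb⟩)
  exact ⟨b, b.2, fun a ha => hb ⟨a, ha⟩⟩

end subgroups

end Cfsg.Agent.Omega.Lin
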