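import Cfsg.Agent.Omega.Lin.Act

/-!
# Control in the linear case (bb OMEGA #12439)

`Out F k W₁ W₂ L₁ L₂ R Q`, `r ∈ R`, `K = C(r)`, `O = O₂(K) ≥ C_K(O)`, `O ≤ N(R)`.  If `|F| ≥ 4` and (`k ≥ 2` or
`|F| ≥ 8`) then `K ≤ N(W₁)` or `K ≤ N(W₂)`.
-/

set_option autoImplicit false

namespace Cfsg.Agent.Omega.Lin

open Subgroup

variable {G : Type*} [Group G] {F : Type*} [Field F]

namespace Out

variable {k : ℕ} {W₁ W₂ L₁ L₂ R Q : Subgroup G} (X : Out F k W₁ W₂ L₁ L₂ R Q)

theorem mem_of_succ_eq {A : Subgroup G} (hRA : R ≤ A) {x y : Fin (k + 1) → F}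
    (h : ∀ j : Fin k, x j.succ = y j.succ) (hx : X.E₁.e x ∈ A) : X.E₁.e y ∈ A := by
  have h1 : X.E₁.e (y - x) ∈ R := (X.mem_R₁ _).2 fun i => by
    rw [Pi.sub_apply, h i, sub_self]
  have h2 := A.mul_mem (hRA h1) hx
  rwa [← X.E₁.e_add, sub_add_cancel] at h2

include X in
/-- **Irreducibility for `k = 1`.** -/
theorem irr_one [Finite F] (hk : k = 1) (hq : 8 ≤ Nat.card F) (A : Subgroup G) (hRA : R ≤ A) (hA : A ≤ W₁)
    (hAn : ∀ c ∈ centralizer (R : Set G), ∀ x ∈ A, c * x * c⁻¹ ∈ A) : A = R ∨ A = W₁ := by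
  classical
  subst hk
  by_cases hAR : A ≤ R
  · exact Or.inl (le_antisymm hAR hRA)
  right
  refine le_antisymm hA ?_
  obtain ⟨g, hg, hgR⟩ := SetLike.not_le_iff_exists.1 hAR
  obtain ⟨x, rfl⟩ := (X.E₁.mem_iff _).1 (hA hg)
  rw [X.mem_R₁] at hgR
  push Not at hgR
  obtain ⟨j, hj⟩ := hgR
  let S : AddSubgroup F := {
    carrier := {c | X.E₁.e (Pi.single j.succ c) ∈ A}
    zero_mem' := by
      show X.E₁.e (Pi.single j.succ 0) ∈ A
      rw [Pi.single_zero, X.E₁.e_zero]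
      exact A.one_mem
    add_mem' := fun {a b} ha hb => by
      show X.E₁.e (Pi.single j.succ (a + b)) ∈ A
      rw [Pi.single_add, X.E₁.e_add]
      exact A.mul_mem ha hb
    neg_mem' := fun {a} ha => by
      show X.E₁.e (Pi.single j.succ (-a)) ∈ A
      rw [Pi.single_neg, X.E₁.e_neg]
      exact A.inv_mem ha }
  have hS : ∀ c, c ∈ S ↔ X.E₁.e (Pi.single j.succ c) ∈ A := fun c => Iff.rfl
  have hall : ∀ c, c ∈ S := by
    refine Cubes.eq_top hq S ?_ ⟨x j.succ, ?_, hj⟩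
    · intro y hy s hs
      obtain ⟨h, hh, h1, -⟩ := X.torus (fun _ => y ^ 3) y⁻¹ (inv_ne_zero hy) (by
        rw [Finset.prod_const, Finset.card_univ, Fintype.card_fin, pow_one]
        show y ^ 3 * y⁻¹ ^ 3 = 1
        rw [← mul_pow, mul_inv_cancel₀ hy, one_pow]) j
      obtain ⟨x', hx', hxj⟩ := h1 (Pi.single j.succ s)
      have h2 := hAn h hh _ ((hS s).1 hs)
      rw [hx'] at h2
      refine X.mem_of_succ_eq hRA (fun i => ?_) h2
      rw [hxj]
      have hi : i = j := Subsingleton.elim _ _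
      subst hi
      simp
    · refine X.mem_of_succ_eq hRA (fun i => ?_) hg
      have hi : i = j := Subsingleton.elim _ _
      subst hi
      simp
  refine X.E₁.le_of_single fun l c => ?_
  refine Fin.cases ?_ (fun l => ?_) l
  · exact hRA ((X.mem_R _).2 ⟨c, rfl⟩)
  · have hl : l = j := Subsingleton.elim _ _
    subst hl
    exact (hS c).1 (hall c)

include X in
theorem irr₁ [Finite F] (hk : 1 ≤ k) (hkq : 2 ≤ k ∨ 8 ≤ Nat.card F) (A : Subgroup G) (hRA : R ≤ A) (hA : A ≤ W₁)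
    (hAn : ∀ c ∈ centralizer (R : Set G), ∀ x ∈ A, c * x * c⁻¹ ∈ A) : A = R ∨ A = W₁ := by
  by_cases h2 : 2 ≤ k
  · exact X.irr_two h2 A hRA hA hAn
  · exact X.irr_one (by omega) (hkq.resolve_left h2) A hRA hA hAn

include X in
theorem R_ne₁ (hk : 1 ≤ k) : R ≠ W₁ := by
  intro h
  have h1 : X.E₁.e (Pi.single (⟨0, hk⟩ : Fin k).succ 1) ∈ R := h.ge (X.E₁.e_mem _)
  have := (X.mem_R₁ _).1 h1 ⟨0, hk⟩
  simp at this

include X in
theorem W₁_le_cent : W₁ ≤ centralizer (R : Set G) := fun w hw => by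
  rw [mem_centralizer_iff]
  intro r hr
  exact X.E₁.ab r (X.R_le₁ hr) w hw

include X in
theorem W₂_le_cent : W₂ ≤ centralizer (R : Set G) := fun w hw => by
  rw [mem_centralizer_iff]
  intro r hr
  exact X.E₂.ab r (X.R_le₂ hr) w hw

include X in
/-- **`O ≤ Q`.** -/
theorem O_le [Finite G] [Finite F] [CharP F 2] (hk : 1 ≤ k) (hkq : 2 ≤ k ∨ 8 ≤ Nat.card F) {O : Subgroup G}
    (hO : IsPGroup 2 O) (hOR : O ≤ normalizer (R : Set G))
    (hOn : ∀ c ∈ centralizer (R : Set G), ∀ o ∈ O, c * o * c⁻¹ ∈ O) {r : G} (hr : r ∈ R) (hr1 : r ≠ 1)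
    (hOr : ∀ o ∈ O, o * r = r * o) : O ≤ W₁ ⊔ W₂ := by
  classical
  have hOL : O ≤ L₁ := le_trans hOR X.norm₁
  have hcR : ∀ ρ ∈ R, ∀ w ∈ W₁, w * ρ * w⁻¹ = ρ := by
    intro ρ hρ w hw
    rw [X.E₁.ab w hw ρ (X.R_le₁ hρ), mul_inv_cancel_right]
  let A : Subgroup G := {
    carrier := {w | w ∈ W₁ ∧ ∀ o ∈ O, o * w * o⁻¹ * w⁻¹ ∈ R}
    one_mem' := ⟨W₁.one_mem, fun o _ => by
      have : o * 1 * o⁻¹ * 1⁻¹ = 1 := by group
      rw [this]; exact R.one_mem⟩
    mul_mem' := by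
      rintro w w' ⟨hw, h⟩ ⟨hw', h'⟩
      refine ⟨W₁.mul_mem hw hw', fun o ho => ?_⟩
      have e : o * (w * w') * o⁻¹ * (w * w')⁻¹ = o * w * o⁻¹ * w⁻¹ * (w * (o * w' * o⁻¹ * w'⁻¹) * w⁻¹) := by group
      rw [e, hcR _ (h' o ho) w hw]
      exact R.mul_mem (h o ho) (h' o ho)
    inv_mem' := by
      rintro w ⟨hw, h⟩
      refine ⟨W₁.inv_mem hw, fun o ho => ?_⟩
      have e : o * w⁻¹ * o⁻¹ * w⁻¹⁻¹ = w⁻¹ * (o * w * o⁻¹ * w⁻¹)⁻¹ * w⁻¹⁻¹ := by group
      rw [e, hcR _ (R.inv_mem (h o ho)) _ (W₁.inv_mem hw)]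
      exact R.inv_mem (h o ho) }
  have hAall : A = W₁ := by
    have hRA : R ≤ A := fun ρ hρ => ⟨X.R_le₁ hρ, fun o ho =>
      R.mul_mem ((mem_normalizer_iff.1 (hOR ho) ρ).1 hρ) (R.inv_mem hρ)⟩
    rcases X.irr₁ hk hkq A hRA (fun w hw => hw.1) (by
      rintro c hc w ⟨hw, h⟩
      refine ⟨X.E₁.conj_mem (X.cent_le₁ hc) hw, fun o ho => ?_⟩
      have h1 := hOn c⁻¹ (inv_mem hc) o ho
      have h2 := h _ h1
      have e : o * (c * w * c⁻¹) * o⁻¹ * (c * w * c⁻¹)⁻¹ =
          c * (c⁻¹ * o * c⁻¹⁻¹ * w * (c⁻¹ * o * c⁻¹⁻¹)⁻¹ * w⁻¹) * c⁻¹ := by group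
      rw [e, ← mem_centralizer_iff.1 hc _ h2, mul_inv_cancel_right]
      exact h2) with h | h
    · exfalso
      obtain ⟨w, hw, hwR, hwo⟩ := CtlAbs.exists_fixed_mod (p := 2) X.E₁.isPGroup hO X.R_le₁ (X.R_ne₁ hk)
        (le_trans hOL X.E₁.le_normalizer) hOR (le_trans X.W₁_le_cent (centralizer_le_normalizer _))
      apply hwR
      rw [← h]
      exact ⟨hw, hwo⟩
    · exact h
  intro o ho
  obtain ⟨s, T, hT, hsT⟩ := X.E₁.semi o (hOL ho)
  have hsucc : ∀ x (j : Fin k), T x j.succ = x j.succ := by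
    intro x j
    have h1 : X.E₁.e x ∈ A := by rw [hAall]; exact X.E₁.e_mem x
    have h2 := h1.2 o ho
    rw [hT, ← X.E₁.e_neg, ← X.E₁.e_add] at h2
    have h3 := (X.mem_R₁ _).1 h2 j
    rw [Pi.add_apply, Pi.neg_apply] at h3
    exact add_neg_eq_zero.1 h3
  have hTadd : ∀ x y, T (x + y) = T x + T y := by
    intro x y
    apply X.E₁.e_inj
    rw [← hT, X.E₁.e_add, X.E₁.e_add, ← hT, ← hT]
    group
  have hs : ∀ c, s c = c := by
    intro c
    have h1 := congrFun (hsT c (Pi.single (⟨0, hk⟩ : Fin k).succ 1)) (⟨0, hk⟩ : Fin k).succ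
    rw [hsucc, Pi.smul_apply, Pi.smul_apply, hsucc] at h1
    simpa using h1.symm
  obtain ⟨ρ, hρ⟩ := (X.mem_R _).1 hr
  have hρ0 : ρ ≠ 0 := by
    rintro rfl
    apply hr1
    rw [← hρ, Pi.single_zero, X.E₁.e_zero]
  have hT0 : ∀ c, T (Pi.single 0 c) = Pi.single 0 c := by
    intro c
    have h1 : T (Pi.single 0 ρ) = Pi.single 0 ρ := by
      apply X.E₁.e_inj
      rw [← hT, hρ, hOr o ho, mul_inv_cancel_right]
    have h2 : (Pi.single (0 : Fin (k + 1)) c : Fin (k + 1) → F) = (c * ρ⁻¹) • Pi.single 0 ρ := by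
      funext j
      refine Fin.cases ?_ (fun j => ?_) j
      · simp [hρ0]
      · simp
    rw [h2, hsT, hs, h1]
  let TT : (Fin (k + 1) → F) →+ (Fin (k + 1) → F) := ⟨⟨T, by
    have := hTadd 0 0
    rw [add_zero] at this
    exact left_eq_add.1 this⟩, hTadd⟩
  have hTT : ∀ x, TT x = T x := fun _ => rfl
  let a : Fin k → F := fun i => T (Pi.single i.succ 1) 0
  have hform : ∀ x, T x = Pi.single 0 (∑ i : Fin k, a i * x i.succ) + x := by
    intro x
    funext j
    refine Fin.cases ?_ (fun j => ?_) j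
    · have h1 : x = Pi.single 0 (x 0) + ∑ i : Fin k, x i.succ • (Pi.single i.succ 1 : Fin (k + 1) → F) := by
        conv_lhs => rw [← Finset.univ_sum_single x, Fin.sum_univ_succ]
        congr 1
        refine Finset.sum_congr rfl fun i _ => ?_
        rw [← Pi.single_smul, smul_eq_mul, mul_one]
      have h2 : T x 0 = x 0 + ∑ i : Fin k, x i.succ * a i := by
        conv_lhs => rw [h1, hTadd, hT0, ← hTT, map_sum]
        rw [Pi.add_apply, Pi.single_eq_same, Finset.sum_apply]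
        congr 1
        refine Finset.sum_congr rfl fun i _ => ?_
        rw [hTT, hsT, hs, Pi.smul_apply, smul_eq_mul]
      rw [h2, Pi.add_apply, Pi.single_eq_same, add_comm]
      congr 1
      exact Finset.sum_congr rfl fun i _ => mul_comm _ _
    · rw [hsucc]
      simp
  -- the element of `W₂`
  let y : Fin (k + 1) → F := Fin.cons 0 a
  have hy : ∀ x, X.E₂.e y * X.E₁.e x * (X.E₂.e y)⁻¹ = X.E₁.e (T x) := by
    intro x
    have h1 := X.comm' x y
    rw [← X.r_eq] at h1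
    rw [hform, X.E₁.e_add]
    rw [mul_inv_eq_iff_eq_mul] at h1
    rw [h1]
    congr 3
  have hyW : X.E₂.e y ∈ W₂ := X.E₂.e_mem y
  have hyL : X.E₂.e y ∈ L₁ := X.cent_le₁ (X.W₂_le_cent hyW)
  have hfin : (X.E₂.e y)⁻¹ * o ∈ W₁ := by
    refine X.cen₁ _ (L₁.mul_mem (L₁.inv_mem hyL) (hOL ho)) fun w hw => ?_
    obtain ⟨x, rfl⟩ := (X.E₁.mem_iff _).1 hw
    have h1 := hy x
    rw [← hT] at h1
    have h2 : X.E₁.e x = (X.E₂.e y)⁻¹ * (o * X.E₁.e x * o⁻¹) * X.E₂.e y := by
      rw [← h1]; group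
    calc (X.E₂.e y)⁻¹ * o * X.E₁.e x = (X.E₂.e y)⁻¹ * (o * X.E₁.e x * o⁻¹) * X.E₂.e y * ((X.E₂.e y)⁻¹ * o) := by group
      _ = _ := by rw [← h2]
  have hfin2 := (W₁ ⊔ W₂).mul_mem (mem_sup_right (S := W₁) hyW) (mem_sup_left (T := W₂) hfin)
  rwa [mul_inv_cancel_left] at hfin2

include X in
/-- The data of the abstract alternative. -/
theorem data [Finite G] [Finite F] [CharP F 2] (hk : 1 ≤ k) (hkq : 2 ≤ k ∨ 8 ≤ Nat.card F) {K O : Subgroup G}
    (hO : IsPGroup 2 O) (hOR : O ≤ normalizer (R : Set G)) (hcK : centralizer (R : Set G) ≤ K)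
    (hOn : ∀ c ∈ K, ∀ o ∈ O, c * o * c⁻¹ ∈ O) (hOc : ∀ c ∈ K, (∀ o ∈ O, c * o = o * c) → c ∈ O)
    {r : G} (hr : r ∈ R) (hr1 : r ≠ 1) (hOr : ∀ o ∈ O, o * r = r * o) : CtlAbs.Data W₁ W₂ R K O where
  ab₁ := X.E₁.ab
  ab₂ := X.E₂.ab
  R₁ := X.R_le₁
  R₂ := X.R_le₂
  comm x hx y hy := by
    obtain ⟨x, rfl⟩ := (X.E₁.mem_iff _).1 hx
    obtain ⟨y, rfl⟩ := (X.E₂.mem_iff _).1 hy
    rw [X.comm]
    exact (X.mem_R _).2 ⟨_, rfl⟩
  nd₁ x hx h := by
    obtain ⟨x, rfl⟩ := (X.E₁.mem_iff _).1 hx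
    rw [X.mem_R₁]
    intro i
    have h1 := X.comm x (Pi.single i.succ 1)
    rw [h _ (X.E₂.e_mem _), mul_inv_cancel_right, mul_inv_cancel, ← X.E₁.e_zero] at h1
    have h2 := congrFun (X.E₁.e_inj h1) 0
    rw [Pi.single_eq_same, Finset.sum_eq_single i] at h2
    · simpa using h2.symm
    · intro j _ hji
      have : j.succ ≠ i.succ := fun h => hji (Fin.succ_injective _ h)
      simp [this]
    · intro h; exact absurd (Finset.mem_univ i) h
  nd₂ y hy h := by
    obtain ⟨y, rfl⟩ := (X.E₂.mem_iff _).1 hy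
    rw [X.mem_R₂]
    intro i
    have h1 := X.comm (Pi.single i.succ 1) y
    rw [h _ (X.E₁.e_mem _), mul_inv_cancel_right, mul_inv_cancel, ← X.E₁.e_zero] at h1
    have h2 := congrFun (X.E₁.e_inj h1) 0
    rw [Pi.single_eq_same, Finset.sum_eq_single i] at h2
    · simpa using h2.symm
    · intro j _ hji
      have : j.succ ≠ i.succ := fun h => hji (Fin.succ_injective _ h)
      simp [this]
    · intro h; exact absurd (Finset.mem_univ i) h
  ne₁ := X.R_ne₁ hk
  ne₂ := X.symm.R_ne₁ hk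
  irr₁ := X.irr₁ hk hkq
  irr₂ := X.symm.irr₁ hk hkq
  cK := hcK
  nW₁ c hc x hx := X.E₁.conj_mem (X.cent_le₁ hc) hx
  nW₂ c hc x hx := X.E₂.conj_mem (X.cent_le₂ hc) hx
  nO := hOn
  cO := hOc
  OQ := X.O_le hk hkq hO hOR (fun c hc => hOn c (hcK hc)) hr hr1 hOr

include X in
/-- **The graph is impossible.** -/
theorem no_graph [Finite F] [CharP F 2] (hk : 1 ≤ k) (hq : 4 ≤ Nat.card F) (hkq : 2 ≤ k ∨ 8 ≤ Nat.card F)
    {O : Subgroup G} (hRO : R ≤ O) (hOn : ∀ c ∈ centralizer (R : Set G), ∀ o ∈ O, c * o * c⁻¹ ∈ O)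
    (hab : ∀ x ∈ O, ∀ y ∈ O, x * y = y * x) (h₁ : O ⊓ W₁ = R) (h₂ : O ⊓ W₂ = R)
    (hpr : ∀ w ∈ W₁, ∃ v ∈ W₂, w * v ∈ O) : False := by
  classical
  have := Fintype.ofFinite F
  -- the relation
  have symm' : ∀ x y x' y', X.E₁.e x * X.E₂.e y ∈ O → X.E₁.e x' * X.E₂.e y' ∈ O →
      ∑ i : Fin k, x' i.succ * y i.succ = ∑ i : Fin k, x i.succ * y' i.succ := by
    intro x y x' y' h h'
    have e1 : ∀ x y x' y', X.E₁.e x * X.E₂.e y * (X.E₁.e x' * X.E₂.e y') =
        X.E₁.e (Pi.single 0 (∑ i : Fin k, y i.succ * x' i.succ) + (x + x')) * X.E₂.e (y + y') := by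
      intro x y x' y'
      have c := X.comm' x' y
      rw [← X.r_eq, mul_inv_eq_iff_eq_mul, mul_inv_eq_iff_eq_mul] at c
      calc X.E₁.e x * X.E₂.e y * (X.E₁.e x' * X.E₂.e y') = X.E₁.e x * (X.E₂.e y * X.E₁.e x') * X.E₂.e y' := by group
        _ = _ := by
          rw [c, X.E₁.e_add, X.E₁.e_add, X.E₂.e_add, ← mul_assoc, ← mul_assoc, ← mul_assoc, ← mul_assoc,
            X.E₁.e_comm x]
    have h1 := hab _ h _ h'
    rw [e1, e1, add_comm x' x, add_comm y' y] at h1
    have h2 := mul_right_cancel h1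
    rw [X.E₁.e_add, X.E₁.e_add (Pi.single 0 (∑ i : Fin k, y' i.succ * x i.succ))] at h2
    have h3 := congrFun (X.E₁.e_inj (mul_right_cancel h2)) 0
    rw [Pi.single_eq_same, Pi.single_eq_same] at h3
    calc ∑ i : Fin k, x' i.succ * y i.succ = ∑ i : Fin k, y i.succ * x' i.succ :=
          Finset.sum_congr rfl fun i _ => mul_comm _ _
      _ = ∑ i : Fin k, y' i.succ * x i.succ := h3
      _ = _ := Finset.sum_congr rfl fun i _ => mul_comm _ _
  -- the vector of `e₀`
  let i₀ : Fin k := ⟨0, hk⟩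
  obtain ⟨v, hv, hb⟩ := hpr _ (X.E₁.e_mem (Pi.single i₀.succ 1))
  obtain ⟨b, rfl⟩ := (X.E₂.mem_iff _).1 hv
  -- linearity
  have lin : ∀ c y, X.E₁.e (Pi.single i₀.succ c) * X.E₂.e y ∈ O → ∀ j : Fin k, y j.succ = c * b j.succ := by
    intro c y hy j
    obtain ⟨v', hv', hb'⟩ := hpr _ (X.E₁.e_mem (Pi.single j.succ 1))
    obtain ⟨b', rfl⟩ := (X.E₂.mem_iff _).1 hv'
    have s1 : ∀ (i : Fin k) (a : F) (z : Fin (k + 1) → F),
        ∑ l : Fin k, (Pi.single i.succ a : Fin (k + 1) → F) l.succ * z l.succ = a * z i.succ := by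
      intro i a z
      rw [Finset.sum_eq_single i]
      · simp
      · intro l _ hli
        have : l.succ ≠ i.succ := fun h => hli (Fin.succ_injective _ h)
        simp [this]
      · intro h; exact absurd (Finset.mem_univ i) h
    have t1 := symm' _ _ _ _ hy hb'
    have t2 := symm' _ _ _ _ hb hb'
    rw [s1, s1] at t1 t2
    rw [one_mul] at t1 t2
    rw [t1, t2, one_mul]
  -- the torus kills `b`
  have kill : ∀ (t : Fin k → F) (d : F), d ≠ 0 → (∏ i, t i) * d ^ (k + 2) = 1 → ∀ j : Fin k, t i₀ * t j ≠ 1 →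
      b j.succ = 0 := by
    intro t d hd ht j hj
    obtain ⟨h, hh, a₁, a₂⟩ := X.torus t d hd ht i₀
    obtain ⟨x', hx', hxj⟩ := a₁ (Pi.single i₀.succ 1)
    obtain ⟨y', hy', hyj⟩ := a₂ b
    have h1 := hOn h hh _ hb
    have e : h * (X.E₁.e (Pi.single i₀.succ 1) * X.E₂.e b) * h⁻¹ = X.E₁.e x' * X.E₂.e y' := by
      rw [← hx', ← hy']; group
    rw [e] at h1
    have h2 : X.E₁.e (Pi.single i₀.succ (t i₀)) * X.E₂.e y' ∈ O := by
      have h3 : X.E₁.e (Pi.single i₀.succ (t i₀) - x') ∈ R := (X.mem_R₁ _).2 fun i => by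
        rw [Pi.sub_apply, hxj]
        by_cases hi : i = i₀
        · subst hi; simp
        · have : i.succ ≠ i₀.succ := fun h => hi (Fin.succ_injective _ h)
          simp [this]
      have h4 := O.mul_mem (hRO h3) h1
      rwa [← mul_assoc, ← X.E₁.e_add, sub_add_cancel] at h4
    have h3 := lin _ _ h2 j
    rw [hyj] at h3
    have htj : t j ≠ 0 := by
      intro h0
      rw [Finset.prod_eq_zero (Finset.mem_univ j) h0, zero_mul] at ht
      exact zero_ne_one ht
    by_contra hbj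
    apply hj
    have h4 : (t j)⁻¹ = t i₀ := mul_right_cancel₀ hbj h3
    rw [← h4, inv_mul_cancel₀ htj]
  -- odd order of `F*`
  have hodd : ∀ c : F, c ≠ 0 → c * c = 1 → c = 1 := by
    intro c _ h
    have h1 : (c - 1) * (c - 1) = 0 := by
      have h2 : (2 : F) = 0 := CharTwo.two_eq_zero
      linear_combination h - (c - 1) * h2
    exact sub_eq_zero.1 (mul_self_eq_zero.1 h1)
  have hb0 : ∀ j : Fin k, b j.succ = 0 := by
    by_cases hk3 : 3 ≤ k
    · -- a free coordinate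
      obtain ⟨a, ha0, ha1⟩ : ∃ a : F, a ≠ 0 ∧ a ≠ 1 := by
        by_contra hcon
        push Not at hcon
        have h1 : (Finset.univ : Finset F) ⊆ {0, 1} := by
          intro x _
          by_cases hx : x = 0
          · simp [hx]
          · simp [hcon x hx]
        have h2 := Finset.card_le_card h1
        have h3 : ({0, 1} : Finset F).card ≤ 2 := Finset.card_le_two
        rw [Finset.card_univ, ← Nat.card_eq_fintype_card] at h2
        omega
      intro j
      obtain ⟨l, hl0, hlj⟩ : ∃ l : Fin k, l ≠ i₀ ∧ l ≠ j := by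
        by_contra hcon
        push Not at hcon
        have h1 : (Finset.univ : Finset (Fin k)) ⊆ {i₀, j} := by
          intro x _
          by_cases hx : x = i₀
          · simp [hx]
          · simp [hcon x hx]
        have h2 := Finset.card_le_card h1
        have h3 : ({i₀, j} : Finset (Fin k)).card ≤ 2 := Finset.card_le_two
        rw [Finset.card_univ, Fintype.card_fin] at h2
        omega
      refine kill (Function.update (Function.update (fun _ => 1) i₀ a) l a⁻¹) 1 one_ne_zero ?_ j ?_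
      · rw [one_pow, mul_one, Finset.prod_update_of_mem (Finset.mem_univ l)]
        rw [Finset.sdiff_singleton_eq_erase, Finset.prod_update_of_mem (by simp [hl0.symm])]
        simp [ha0]
      · rw [Function.update_of_ne hl0.symm, Function.update_self, Function.update_of_ne hlj.symm]
        by_cases hj0 : j = i₀
        · subst hj0
          rw [Function.update_self]
          exact fun h => ha1 (hodd a ha0 h)
        · rw [Function.update_of_ne hj0, mul_one]
          exact ha1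
    · -- a power
      obtain ⟨y, hy0, hy1⟩ : ∃ y : F, y ≠ 0 ∧ y ^ (k + 2) ≠ 1 := by
        by_contra hcon
        push Not at hcon
        by_cases hk2 : k = 2
        · subst hk2
          have h1 : (Finset.univ : Finset F) ⊆ {0, 1} := by
            intro x _
            by_cases hx : x = 0
            · simp [hx]
            · have h2 := hcon x hx
              have h3 : x * x * (x * x) = 1 := by rw [← h2]; ring
              have h4 := hodd (x * x) (mul_ne_zero hx hx) h3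
              have h5 := hodd x hx h4
              simp [h5]
          have h2 := Finset.card_le_card h1
          have h3 : ({0, 1} : Finset F).card ≤ 2 := Finset.card_le_two
          rw [Finset.card_univ, ← Nat.card_eq_fintype_card] at h2
          omega
        · have hk1 : k = 1 := by omega
          subst hk1
          have hq8 : 8 ≤ Nat.card F := hkq.resolve_left (by norm_num)
          have h1 : (Finset.univ.erase (0 : F)) ⊆ (Polynomial.nthRoots 3 (1 : F)).toFinset := by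
            intro x hx
            rw [Multiset.mem_toFinset, Polynomial.mem_nthRoots (by norm_num)]
            exact hcon x (Finset.mem_erase.1 hx).1
          have h2 := Finset.card_le_card h1
          have h3 := le_trans (Multiset.toFinset_card_le _) (Polynomial.card_nthRoots 3 (1 : F))
          rw [Finset.card_erase_of_mem (Finset.mem_univ _), Finset.card_univ, ← Nat.card_eq_fintype_card] at h2
          omega
      intro j
      refine kill (Function.update (fun _ => 1) i₀ ((y ^ (k + 2))⁻¹)) y hy0 ?_ j ?_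
      · rw [Finset.prod_update_of_mem (Finset.mem_univ i₀)]
        simp only [Finset.prod_const_one, mul_one]
        exact inv_mul_cancel₀ (pow_ne_zero _ hy0)
      · rw [Function.update_self]
        have hne : (y ^ (k + 2))⁻¹ ≠ 1 := fun h => hy1 (by rw [← inv_inv (y ^ (k + 2)), h, inv_one])
        by_cases hj0 : j = i₀
        · subst hj0
          rw [Function.update_self]
          exact fun h => hne (hodd _ (inv_ne_zero (pow_ne_zero _ hy0)) h)
        · rw [Function.update_of_ne hj0, mul_one]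
          exact hne
  -- contradiction
  have hbR : X.E₂.e b ∈ R := (X.mem_R₂ _).2 hb0
  have h1 : X.E₁.e (Pi.single i₀.succ 1) ∈ O := by
    have := O.mul_mem hb (O.inv_mem (hRO hbR))
    rwa [mul_inv_cancel_right] at this
  have h2 : X.E₁.e (Pi.single i₀.succ 1) ∈ R := h₁.le ⟨h1, X.E₁.e_mem _⟩
  have h3 := (X.mem_R₁ _).1 h2 i₀
  simp at h3

include X in
/-- **CONTROL.** -/
theorem control [Finite G] [Finite F] [CharP F 2] (hk : 1 ≤ k) (hq : 4 ≤ Nat.card F)
    (hkq : 2 ≤ k ∨ 8 ≤ Nat.card F) {r : G} (hr : r ∈ R) (hr1 : r ≠ 1) {O : Subgroup G} (hO : IsPGroup 2 O)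
    (hOR : O ≤ normalizer (R : Set G)) (hOK : O ≤ centralizer ({r} : Set G))
    (hOn : ∀ c ∈ centralizer ({r} : Set G), ∀ o ∈ O, c * o * c⁻¹ ∈ O)
    (hOc : ∀ c ∈ centralizer ({r} : Set G), (∀ o ∈ O, c * o = o * c) → c ∈ O) :
    centralizer ({r} : Set G) ≤ normalizer (W₁ : Set G) ∨ centralizer ({r} : Set G) ≤ normalizer (W₂ : Set G) := by
  have hcK : centralizer (R : Set G) ≤ centralizer ({r} : Set G) :=
    centralizer_le (Set.singleton_subset_iff.2 hr)
  have D := X.data hk hkq hO hOR hcK hOn hOc hr hr1 fun o ho =>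
    (mem_centralizer_iff.1 (hOK ho) r rfl).symm
  rcases D.main with h | h | h | ⟨hab, h₁, h₂, hpr⟩
  · exact Or.inl h
  · exact Or.inr h
  · exact Or.inl (le_trans h (le_trans X.norm₁ X.E₁.le_normalizer))
  · exact (X.no_graph hk hq hkq D.R_le (fun c hc => hOn c (hcK hc)) hab h₁ h₂ hpr).elim

include X in
/-- Control for `|F| = 2`: `R = ⟨r⟩`. -/
theorem control_two (hF : ∀ c : F, c = 0 ∨ c = 1) {r : G} (hr : r ∈ R) (hr1 : r ≠ 1) :
    centralizer ({r} : Set G) ≤ normalizer (W₁ : Set G) := by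
  refine le_trans ?_ (le_trans X.norm₁ X.E₁.le_normalizer)
  have hR : ∀ x, x ∈ R ↔ x = 1 ∨ x = r := by
    intro x
    obtain ⟨ρ, rfl⟩ := (X.mem_R _).1 hr
    have hρ : ρ = 1 := by
      rcases hF ρ with rfl | h
      · exact absurd (by rw [Pi.single_zero, X.E₁.e_zero]) hr1
      · exact h
    subst hρ
    rw [X.mem_R]
    constructor
    · rintro ⟨c, rfl⟩
      rcases hF c with rfl | rfl
      · left; rw [Pi.single_zero, X.E₁.e_zero]
      · right; rfl
    · rintro (rfl | rfl)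
      · exact ⟨0, by rw [Pi.single_zero, X.E₁.e_zero]⟩
      · exact ⟨1, rfl⟩
  intro c hc
  have hcr : c * r * c⁻¹ = r := by
    rw [← mem_centralizer_iff.1 hc r rfl, mul_inv_cancel_right]
  rw [mem_normalizer_iff]
  intro x
  rw [hR, hR]
  constructor
  · rintro (rfl | rfl)
    · left; group
    · right; exact hcr
  · rintro (h | h)
    · left; exact conj_eq_one_iff.1 h
    · right
      rw [← hcr] at h
      exact mul_left_cancel (mul_right_cancel h)

end Out

end Cfsg.Agent.Omega.Lin
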