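import Cfsg.Agent.Omega.NatPair.Bridge
import Cfsg.Agent.Omega.BTwo.Basic

/-!
# THEOREM LIN: the situation

`V`, `V'` natural `SL₂(F)`-modules forming a mutual pair, `R = V ∩ V'`, `Q = O₂(N(R))`, `O ≥ V`, `O' ≥ V'` the radicals
of the two (local) groups `⟨N(V), N(R)⟩`, `⟨N(V'), N(R)⟩`.
-/

set_option autoImplicit false
set_option linter.unusedSectionVars false

namespace Cfsg.Agent.Omega.Lin

open Subgroup BTwo

variable {G : Type*} [Group G] {F : Type*} [Field F] {V V' : Subgroup G}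

/-! ### coordinates -/

/-- the element with coordinates `a, b` -/
def vv (M : NatPair.NatMod F V) (a b : F) : G := M.e ![a, b]

section coord

variable (M : NatPair.NatMod F V)

theorem vv_mul (a b c d : F) : vv M a b * vv M c d = vv M (a + c) (b + d) := by
  unfold vv
  rw [← M.e_add]
  congr 1
  apply NatPair.ext2 <;> simp

theorem vv_mem (a b : F) : vv M a b ∈ V := M.e_mem _

theorem exists_vv {g : G} (hg : g ∈ V) : ∃ a b, vv M a b = g := by
  obtain ⟨x, hx⟩ := (M.mem_iff g).1 hg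
  refine ⟨x 0, x 1, ?_⟩
  rw [← hx]
  unfold vv
  congr 1
  apply NatPair.ext2 <;> simp

theorem vv_inj {a b c d : F} (h : vv M a b = vv M c d) : a = c ∧ b = d := by
  have h1 := M.e_inj h
  exact ⟨congrFun h1 0, congrFun h1 1⟩

theorem vv_zero : vv M 0 0 = 1 := by
  have h := vv_mul M 0 0 0 0
  rw [add_zero] at h
  exact mul_eq_left.1 h

theorem vv_eq_one {a b : F} : vv M a b = 1 ↔ a = 0 ∧ b = 0 := by
  constructor
  · intro h
    rw [← vv_zero M] at h
    exact vv_inj M h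
  · rintro ⟨rfl, rfl⟩
    exact vv_zero M

theorem vv_comm (a b c d : F) : vv M a b * vv M c d = vv M c d * vv M a b := by
  rw [vv_mul, vv_mul, add_comm a, add_comm b]

theorem vv_sq [CharP F 2] (a b : F) : vv M a b * vv M a b = 1 := by
  rw [vv_mul, CharTwo.add_self_eq_zero, CharTwo.add_self_eq_zero, vv_zero]

theorem vv_inv [CharP F 2] (a b : F) : (vv M a b)⁻¹ = vv M a b := by
  rw [inv_eq_iff_mul_eq_one, vv_sq]

end coord

/-- the coordinate on `R` -/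
noncomputable def cf (M : NatPair.NatMod F V) (g : G) : F :=
  open Classical in if h : ∃ c, vv M c 0 = g then h.choose else 0

theorem cf_vv (M : NatPair.NatMod F V) (c : F) : cf M (vv M c 0) = c := by
  have h : ∃ d, vv M d 0 = vv M c 0 := ⟨c, rfl⟩
  rw [cf, dif_pos h]
  exact (vv_inj M h.choose_spec).1

/-- the commutator pairing -/
noncomputable def P (M : NatPair.NatMod F V) (x y : G) : F := cf M (x * y * x⁻¹ * y⁻¹)

/-- the action on `R` -/
noncomputable def tau (M : NatPair.NatMod F V) (g : G) (c : F) : F := cf M (g * vv M c 0 * g⁻¹)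

/-- **the situation of THEOREM LIN** -/
structure Ctx (M : NatPair.NatMod F V) (M' : NatPair.NatMod F V') (R O O' : Subgroup G) : Prop where
  memR : ∀ g, g ∈ R ↔ ∃ c, vv M c 0 = g
  r : ∀ c, vv M c 0 = vv M' c 0
  com : ∀ b d, vv M' 0 d * vv M 0 b * (vv M' 0 d)⁻¹ = vv M (b * d) b
  actQ : ∀ x ∈ QQ R, ∃ s, ∀ a b, x * vv M a b * x⁻¹ = vv M (a + s * b) b
  actQ' : ∀ x ∈ QQ R, ∃ s, ∀ a b, x * vv M' a b * x⁻¹ = vv M' (a + s * b) b
  V_O : V ≤ O
  O_Q : O ≤ QQ R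
  O_V : ∀ x ∈ O, ∀ v ∈ V, x * v = v * x
  nV : normalizer (V : Set G) ≤ normalizer (O : Set G)
  nR : normalizer (R : Set G) ≤ normalizer (O : Set G)
  fix : ∀ B : Subgroup G, B ≤ O → (∀ n ∈ normalizer (V : Set G), ∀ b ∈ B, n * b * n⁻¹ ∈ B) → B ⊓ V = ⊥ → B = ⊥
  cen : ∀ g ∈ normalizer (V : Set G) ⊔ normalizer (R : Set G), (∀ x ∈ O, g * x = x * g) → g ∈ O
  V_O' : V' ≤ O'
  O_Q' : O' ≤ QQ R
  O_V' : ∀ x ∈ O', ∀ v ∈ V', x * v = v * x
  nV' : normalizer (V' : Set G) ≤ normalizer (O' : Set G)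
  nR' : normalizer (R : Set G) ≤ normalizer (O' : Set G)
  fix' : ∀ B : Subgroup G, B ≤ O' → (∀ n ∈ normalizer (V' : Set G), ∀ b ∈ B, n * b * n⁻¹ ∈ B) → B ⊓ V' = ⊥ → B = ⊥
  cen' : ∀ g ∈ normalizer (V' : Set G) ⊔ normalizer (R : Set G), (∀ x ∈ O', g * x = x * g) → g ∈ O'

section

variable [Finite G] [Finite F] [CharP F 2] {M : NatPair.NatMod F V} {M' : NatPair.NatMod F V'} {R O O' : Subgroup G}

theorem Ctx.com2 (c : Ctx M M' R O O') (b d : F) : vv M' 0 d * vv M 0 b * (vv M' 0 d)⁻¹ * (vv M 0 b)⁻¹ = vv M (b * d) 0 := by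
  rw [c.com, vv_inv M 0 b, vv_mul, add_zero, CharTwo.add_self_eq_zero]

theorem Ctx.symm (c : Ctx M M' R O O') : Ctx M' M R O' O where
  memR := fun g => by simp only [c.memR g, c.r]
  r := fun a => (c.r a).symm
  com := fun b d => by
    have h1 := c.com2 d b
    have h2 : vv M 0 d * vv M' 0 b * (vv M 0 d)⁻¹ * (vv M' 0 b)⁻¹ =
        (vv M' 0 b * vv M 0 d * (vv M' 0 b)⁻¹ * (vv M 0 d)⁻¹)⁻¹ := by group
    rw [h1, vv_inv M (d * b) 0] at h2
    have h3 : vv M 0 d * vv M' 0 b * (vv M 0 d)⁻¹ = vv M (d * b) 0 * vv M' 0 b := by rw [← h2]; group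
    rw [h3, c.r, vv_mul, add_zero, zero_add, mul_comm]
  actQ := c.actQ'
  actQ' := c.actQ
  V_O := c.V_O'
  O_Q := c.O_Q'
  O_V := c.O_V'
  nV := c.nV'
  nR := c.nR'
  fix := c.fix'
  cen := c.cen'
  V_O' := c.V_O
  O_Q' := c.O_Q
  O_V' := c.O_V
  nV' := c.nV
  nR' := c.nR
  fix' := c.fix
  cen' := c.cen

namespace Ctx

variable (c : Ctx M M' R O O')
include c

theorem R_mem (a : F) : vv M a 0 ∈ R := (c.memR _).2 ⟨a, rfl⟩

theorem R_mem' (a : F) : vv M' a 0 ∈ R := c.symm.R_mem a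

theorem R_V : R ≤ V := by
  intro g hg
  obtain ⟨a, rfl⟩ := (c.memR g).1 hg
  exact vv_mem M a 0

theorem cf_symm (g : G) : cf M g = cf M' g := by
  have h : (fun a : F => vv M a 0) = fun a => vv M' a 0 := funext c.r
  unfold cf
  have h2 : (∃ a, vv M a 0 = g) ↔ ∃ a, vv M' a 0 = g := by simp only [c.r]
  by_cases h3 : ∃ a, vv M a 0 = g
  · have h4 := h2.1 h3
    rw [dif_pos h3, dif_pos h4]
    apply (vv_inj M (b := 0) (d := 0) _).1
    rw [h3.choose_spec, c.r, h4.choose_spec]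
  · rw [dif_neg h3, dif_neg fun h4 => h3 (h2.2 h4)]

theorem P_symm (x y : G) : P M x y = P M' x y := c.cf_symm _

theorem vv_cf {g : G} (hg : g ∈ R) : vv M (cf M g) 0 = g := by
  obtain ⟨a, rfl⟩ := (c.memR g).1 hg
  rw [cf_vv]

theorem cf_mul {g h : G} (hg : g ∈ R) (hh : h ∈ R) : cf M (g * h) = cf M g + cf M h := by
  obtain ⟨a, rfl⟩ := (c.memR g).1 hg
  obtain ⟨b, rfl⟩ := (c.memR h).1 hh
  rw [vv_mul, add_zero, cf_vv, cf_vv, cf_vv]

theorem cf_one : cf M (1 : G) = 0 := by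
  have _ := c
  rw [← vv_zero M, cf_vv]

theorem cf_inv {g : G} (hg : g ∈ R) : cf M g⁻¹ = cf M g := by
  obtain ⟨a, rfl⟩ := (c.memR g).1 hg
  rw [vv_inv]

theorem cf_eq {g h : G} (hg : g ∈ R) (hh : h ∈ R) (e : cf M g = cf M h) : g = h := by
  rw [← c.vv_cf hg, ← c.vv_cf hh, e]

theorem cf_eq_zero {g : G} (hg : g ∈ R) (e : cf M g = 0) : g = 1 := by
  rw [← c.vv_cf hg, e, vv_zero]

/-! ### the groups `W` -/

theorem V_Q : V ≤ QQ R := c.V_O.trans c.O_Q

theorem Q_nQ {g : G} (hg : g ∈ normalizer (R : Set G)) {x : G} (hx : x ∈ QQ R) : g * x * g⁻¹ ∈ QQ R := by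
  have _ := c
  exact conj_mem_of_normalizer (le_normalizer_O2 _ hg) hx

theorem Q_nQ' {g : G} (hg : g ∈ normalizer (R : Set G)) {x : G} (hx : x ∈ QQ R) : g⁻¹ * x * g ∈ QQ R := by
  have _ := c
  exact conj_inv_mem_of_normalizer (le_normalizer_O2 _ hg) hx

theorem Q_le : QQ R ≤ normalizer (R : Set G) := by
  have _ := c
  exact O2_le _

theorem W_O : WW V R ≤ O := by
  refine iSup_le fun h => cj_le_iff.2 fun x hx => ?_
  exact conj_mem_of_normalizer (c.nR h.2) (c.V_O hx)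

theorem W_Q : WW V R ≤ QQ R := c.W_O.trans c.O_Q

theorem V_W : V ≤ WW V R := by
  have _ := c
  exact V_le_WW V R

theorem O_W {x y : G} (hx : x ∈ O) (hy : y ∈ WW V R) : x * y = y * x := by
  have h : WW V R ≤ centralizer (O : Set G) := by
    refine iSup_le fun h => cj_le_iff.2 fun v hv => ?_
    rw [mem_centralizer_iff]
    intro z hz
    have h1 : (h : G)⁻¹ * z * h ∈ O := conj_inv_mem_of_normalizer (c.nR h.2) hz
    have h2 := c.O_V _ h1 v hv
    calc z * (h * v * (h : G)⁻¹) = h * ((h : G)⁻¹ * z * h * v) * (h : G)⁻¹ := by group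
      _ = h * (v * ((h : G)⁻¹ * z * h)) * (h : G)⁻¹ := by rw [h2]
      _ = h * v * (h : G)⁻¹ * z := by group
  exact mem_centralizer_iff.1 (h hy) x hx

theorem W_comm {x y : G} (hx : x ∈ WW V R) (hy : y ∈ WW V R) : x * y = y * x := c.O_W (c.W_O hx) hy

theorem W_sq {x : G} (hx : x ∈ WW V R) : x * x = 1 := by
  let T : Subgroup G :=
    { carrier := {w | w ∈ WW V R ∧ w * w = 1}
      one_mem' := ⟨one_mem _, by rw [one_mul]⟩
      mul_mem' := by
        rintro u v ⟨hu, hu'⟩ ⟨hv, hv'⟩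
        refine ⟨mul_mem hu hv, ?_⟩
        rw [show u * v * (u * v) = u * (v * u) * v by group, c.W_comm hv hu,
          show u * (u * v) * v = (u * u) * (v * v) by group, hu', hv', one_mul]
      inv_mem' := by
        rintro u ⟨hu, hu'⟩
        refine ⟨inv_mem hu, ?_⟩
        rw [← mul_inv_rev, hu', inv_one] }
  have h : WW V R ≤ T := by
    refine iSup_le fun h => cj_le_iff.2 fun v hv => ?_
    refine ⟨cj_le_WW h.2 (conj_mem_cj hv), ?_⟩
    obtain ⟨a, b, rfl⟩ := exists_vv M hv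
    have e : (h : G) * vv M a b * (h : G)⁻¹ * (h * vv M a b * (h : G)⁻¹) = h * (vv M a b * vv M a b) * (h : G)⁻¹ := by group
    rw [e, vv_sq, mul_one, mul_inv_cancel]
  exact (h hx).2

theorem W_inv {x : G} (hx : x ∈ WW V R) : x⁻¹ = x := inv_eq_of_mul_eq_one_left (c.W_sq hx)

theorem W_n {g : G} (hg : g ∈ normalizer (R : Set G)) {x : G} (hx : x ∈ WW V R) : g * x * g⁻¹ ∈ WW V R := by
  have _ := c
  exact conj_mem_of_normalizer (normalizer_le_WW V R hg) hx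

theorem W_n' {g : G} (hg : g ∈ normalizer (R : Set G)) {x : G} (hx : x ∈ WW V R) : g⁻¹ * x * g ∈ WW V R := by
  have _ := c
  exact conj_inv_mem_of_normalizer (normalizer_le_WW V R hg) hx

theorem R_W : R ≤ WW V R := c.R_V.trans c.V_W

/-- `Q` centralises `R` -/
theorem Q_R {x a : G} (hx : x ∈ QQ R) (ha : a ∈ R) : x * a = a * x := by
  obtain ⟨t, rfl⟩ := (c.memR a).1 ha
  obtain ⟨s, hs⟩ := c.actQ x hx
  have h := hs t 0
  rw [mul_zero, add_zero] at h
  exact mul_inv_eq_iff_eq_mul.1 h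

/-- `[Q, V] ≤ R` -/
theorem QV {x v : G} (hx : x ∈ QQ R) (hv : v ∈ V) : x * v * x⁻¹ * v⁻¹ ∈ R := by
  obtain ⟨a, b, rfl⟩ := exists_vv M hv
  obtain ⟨s, hs⟩ := c.actQ x hx
  rw [hs, vv_inv, vv_mul, CharTwo.add_self_eq_zero, show a + s * b + a = s * b + (a + a) by ring,
    CharTwo.add_self_eq_zero, add_zero]
  exact c.R_mem _

/-- `[Q, W] ≤ R` -/
theorem QW {x w : G} (hx : x ∈ QQ R) (hw : w ∈ WW V R) : x * w * x⁻¹ * w⁻¹ ∈ R := by
  let T : Subgroup G :=
    { carrier := {w | w ∈ QQ R ∧ ∀ g ∈ QQ R, g * w * g⁻¹ * w⁻¹ ∈ R}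
      one_mem' := ⟨one_mem _, fun g _ => by
        have : g * 1 * g⁻¹ * 1⁻¹ = 1 := by group
        rw [this]; exact one_mem _⟩
      mul_mem' := by
        rintro u v ⟨hu, hu'⟩ ⟨hv, hv'⟩
        refine ⟨mul_mem hu hv, fun g hg => ?_⟩
        have e : g * (u * v) * g⁻¹ * (u * v)⁻¹ =
            (g * u * g⁻¹ * u⁻¹) * (u * (g * v * g⁻¹ * v⁻¹) * u⁻¹) := by group
        rw [e]
        exact mul_mem (hu' g hg) (conj_mem_of_normalizer (c.Q_le hu) (hv' g hg))
      inv_mem' := by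
        rintro u ⟨hu, hu'⟩
        refine ⟨inv_mem hu, fun g hg => ?_⟩
        have e2 : g * u⁻¹ * g⁻¹ * u⁻¹⁻¹ = g * (u⁻¹ * (g⁻¹ * u * g⁻¹⁻¹ * u⁻¹) * u) * g⁻¹ := by group
        rw [e2]
        have h1 := hu' g⁻¹ (inv_mem hg)
        exact conj_mem_of_normalizer (c.Q_le hg) (conj_inv_mem_of_normalizer (c.Q_le hu) h1) }
  have h : WW V R ≤ T := by
    refine iSup_le fun h => cj_le_iff.2 fun v hv => ?_
    refine ⟨c.W_Q (cj_le_WW h.2 (conj_mem_cj hv)), fun g hg => ?_⟩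
    have h1 := c.QV (c.Q_nQ' h.2 hg) hv
    have h2 := conj_mem_of_normalizer h.2 h1
    have e : (h : G) * ((h : G)⁻¹ * g * h * v * ((h : G)⁻¹ * g * h)⁻¹ * v⁻¹) * (h : G)⁻¹ =
        g * (h * v * (h : G)⁻¹) * g⁻¹ * (h * v * (h : G)⁻¹)⁻¹ := by group
    rwa [e] at h2
  exact (h hw).2 x hx

/-! ### the pairing -/

theorem vv_P {x y : G} (h : x * y * x⁻¹ * y⁻¹ ∈ R) : vv M (P M x y) 0 = x * y * x⁻¹ * y⁻¹ := c.vv_cf h

/-- `x y x⁻¹ = [x,y] y` -/
theorem conj_eq {x y : G} (h : x * y * x⁻¹ * y⁻¹ ∈ R) : x * y * x⁻¹ = vv M (P M x y) 0 * y := by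
  rw [c.vv_P h]; group

theorem P_of {x y : G} {t : F} (h : x * y * x⁻¹ = vv M t 0 * y) : P M x y = t := by
  have _ := c
  unfold P
  rw [h, mul_inv_cancel_right, cf_vv]

theorem P_eq_zero_iff {x y : G} (h : x * y * x⁻¹ * y⁻¹ ∈ R) : P M x y = 0 ↔ x * y = y * x := by
  constructor
  · intro h1
    have h2 := c.conj_eq h
    rw [h1, vv_zero, one_mul] at h2
    exact mul_inv_eq_iff_eq_mul.1 h2
  · intro h1
    unfold P
    rw [h1, mul_inv_cancel_right, mul_inv_cancel, c.cf_one]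

theorem P_comm {x y : G} (h : x * y * x⁻¹ * y⁻¹ ∈ R) : P M x y = P M y x := by
  unfold P
  rw [← c.cf_inv h]
  congr 1
  group

theorem com_symm {x y : G} (h : x * y * x⁻¹ * y⁻¹ ∈ R) : y * x * y⁻¹ * x⁻¹ ∈ R := by
  have _ := c
  have := inv_mem h
  have e : (x * y * x⁻¹ * y⁻¹)⁻¹ = y * x * y⁻¹ * x⁻¹ := by group
  rwa [e] at this

/-- additivity in the second variable -/
theorem P_mul {x y z : G} (hy : x * y * x⁻¹ * y⁻¹ ∈ R) (hz : x * z * x⁻¹ * z⁻¹ ∈ R) (hyR : y ∈ QQ R) :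
    P M x (y * z) = P M x y + P M x z := by
  apply c.P_of
  have e : x * (y * z) * x⁻¹ = (x * y * x⁻¹) * (x * z * x⁻¹) := by group
  rw [e, c.conj_eq hy, c.conj_eq hz, ← add_zero (0 : F), ← vv_mul, add_zero]
  have h1 := c.Q_R hyR (c.R_mem (P M x z))
  calc vv M (P M x y) 0 * y * (vv M (P M x z) 0 * z) = vv M (P M x y) 0 * (y * vv M (P M x z) 0) * z := by group
    _ = vv M (P M x y) 0 * vv M (P M x z) 0 * (y * z) := by rw [h1]; group

/-- additivity in the first variable -/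
theorem mul_P {x y z : G} (hy : y * x * y⁻¹ * x⁻¹ ∈ R) (hz : z * x * z⁻¹ * x⁻¹ ∈ R) (hyR : y ∈ QQ R) :
    P M (y * z) x = P M y x + P M z x := by
  apply c.P_of
  have e : y * z * x * (y * z)⁻¹ = y * (z * x * z⁻¹) * y⁻¹ := by group
  have e2 : y * (vv M (P M z x) 0 * x) * y⁻¹ = (y * vv M (P M z x) 0 * y⁻¹) * (y * x * y⁻¹) := by group
  have h1 : y * vv M (P M z x) 0 * y⁻¹ = vv M (P M z x) 0 := by
    rw [c.Q_R hyR (c.R_mem _), mul_inv_cancel_right]
  rw [e, c.conj_eq hz, e2, h1, c.conj_eq hy, ← mul_assoc, vv_mul, add_zero, add_comm]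

theorem P_one (x : G) : P M x 1 = 0 := by
  unfold P
  rw [mul_one, mul_inv_cancel, inv_one, one_mul, c.cf_one]

theorem one_P (x : G) : P M 1 x = 0 := by
  unfold P
  rw [one_mul, inv_one, mul_one, mul_inv_cancel, c.cf_one]

/-! ### the action on `R` -/

theorem conj_R {g : G} (hg : g ∈ normalizer (R : Set G)) (a : F) : g * vv M a 0 * g⁻¹ = vv M (tau M g a) 0 :=
  (c.vv_cf (conj_mem_of_normalizer hg (c.R_mem a))).symm

theorem tau_symm (g : G) (a : F) : tau M g a = tau M' g a := by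
  unfold tau
  rw [c.cf_symm, c.r]

theorem tau_of {g : G} {a b : F} (h : g * vv M a 0 * g⁻¹ = vv M b 0) : tau M g a = b := by
  have _ := c
  unfold tau
  rw [h, cf_vv]

theorem tau_add {g : G} (hg : g ∈ normalizer (R : Set G)) (a b : F) : tau M g (a + b) = tau M g a + tau M g b := by
  apply c.tau_of
  have h := vv_mul M a 0 b 0
  rw [add_zero] at h
  have h2 := vv_mul M (tau M g a) 0 (tau M g b) 0
  rw [add_zero] at h2
  rw [← h, ← h2, ← c.conj_R hg, ← c.conj_R hg]; group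

theorem tau_mul {g h : G} (hg : g ∈ normalizer (R : Set G)) (hh : h ∈ normalizer (R : Set G)) (a : F) :
    tau M (g * h) a = tau M g (tau M h a) := by
  apply c.tau_of
  rw [← c.conj_R hg, ← c.conj_R hh]; group

theorem tau_one (a : F) : tau M 1 a = a := by
  apply c.tau_of
  group

theorem tau_inv_tau {g : G} (hg : g ∈ normalizer (R : Set G)) (a : F) : tau M g⁻¹ (tau M g a) = a := by
  rw [← c.tau_mul (inv_mem hg) hg, inv_mul_cancel, c.tau_one]

theorem tau_tau_inv {g : G} (hg : g ∈ normalizer (R : Set G)) (a : F) : tau M g (tau M g⁻¹ a) = a := by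
  rw [← c.tau_mul hg (inv_mem hg), mul_inv_cancel, c.tau_one]

theorem tau_inj {g : G} (hg : g ∈ normalizer (R : Set G)) {a b : F} (h : tau M g a = tau M g b) : a = b := by
  rw [← c.tau_inv_tau hg a, h, c.tau_inv_tau hg]

theorem tau_zero {g : G} (hg : g ∈ normalizer (R : Set G)) : tau M g 0 = 0 := by
  have h := c.tau_add hg 0 0
  rw [add_zero] at h
  exact left_eq_add.1 h

theorem tau_Q {x : G} (hx : x ∈ QQ R) (a : F) : tau M x a = a := by
  apply c.tau_of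
  rw [c.Q_R hx (c.R_mem a), mul_inv_cancel_right]

/-- equivariance of the pairing -/
theorem P_conj {g x y : G} (hg : g ∈ normalizer (R : Set G)) (h : x * y * x⁻¹ * y⁻¹ ∈ R) :
    P M (g * x * g⁻¹) (g * y * g⁻¹) = tau M g (P M x y) := by
  apply c.P_of
  rw [← c.conj_R hg]
  have e := c.conj_eq h
  calc g * x * g⁻¹ * (g * y * g⁻¹) * (g * x * g⁻¹)⁻¹ = g * (x * y * x⁻¹) * g⁻¹ := by group
    _ = g * vv M (P M x y) 0 * g⁻¹ * (g * y * g⁻¹) := by rw [e]; group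

/-! ### the pairing with `V` -/

theorem P_vv {x : G} (hx : x ∈ QQ R) (a b : F) : P M x (vv M a b) = P M x (vv M 0 1) * b := by
  obtain ⟨s, hs⟩ := c.actQ x hx
  have h : ∀ a b, P M x (vv M a b) = s * b := by
    intro a b
    apply c.P_of
    rw [hs, vv_mul, zero_add, add_comm]
  rw [h, h, mul_one]

theorem P_vv' {x : G} (hx : x ∈ QQ R) (a b : F) : P M x (vv M' a b) = P M x (vv M' 0 1) * b := by
  rw [c.P_symm, c.P_symm]
  exact c.symm.P_vv hx a b

theorem act {x : G} (hx : x ∈ QQ R) (a b : F) : x * vv M a b * x⁻¹ = vv M (a + P M x (vv M 0 1) * b) b := by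
  rw [c.conj_eq (c.QV hx (vv_mem M a b)), c.P_vv hx, vv_mul, zero_add, add_comm]

theorem P_base (a b d e : F) : P M (vv M' a b) (vv M d e) = b * e := by
  have hq : vv M' a b ∈ QQ R := c.symm.V_Q (vv_mem M' a b)
  rw [c.P_vv hq]
  congr 1
  rw [c.P_comm (c.QV hq (vv_mem M 0 1)), c.P_vv' (c.V_Q (vv_mem M 0 1)), ← c.P_comm]
  · have h1 : P M (vv M' 0 1) (vv M 0 1) = 1 := by
      apply c.P_of
      rw [c.com, vv_mul, mul_one, add_zero, zero_add]
    rw [h1, one_mul]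
  · exact c.QV (c.symm.V_Q (vv_mem M' 0 1)) (vv_mem M 0 1)

end Ctx

end

end Cfsg.Agent.Omega.Lin
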