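import Cfsg.Agent.Omega.Lin.Fld
import Cfsg.Agent.Omega.Lin.Cnt

/-!
# THEOREM LIN (3), (6): `O = W`, `O' = W'`, `Q = WW'`, duality
-/

set_option autoImplicit false
set_option linter.unusedSectionVars false

namespace Cfsg.Agent.Omega.Lin

open Subgroup BTwo

variable {G : Type*} [Group G] {F : Type*} [Field F] {V V' : Subgroup G}
  [Finite G] [Finite F] [CharP F 2] {M : NatPair.NatMod F V} {M' : NatPair.NatMod F V'} {R O O' : Subgroup G}

namespace Ctx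

variable (c : Ctx M M' R O O')
include c

/-- `[W', Q] ≤ R` -/
theorem WQ' {w y : G} (hw : w ∈ WW V' R) (hy : y ∈ QQ R) : w * y * w⁻¹ * y⁻¹ ∈ R :=
  c.com_symm (c.symm.QW hy hw)

theorem WQ {w y : G} (hw : w ∈ WW V R) (hy : y ∈ QQ R) : w * y * w⁻¹ * y⁻¹ ∈ R :=
  c.com_symm (c.QW hy hw)

/-- the functions `[w, .]` on `Q` form an `F`-space -/
theorem scal' {w : G} (hw : w ∈ WW V' R) (l : F) : ∃ w' ∈ WW V' R, ∀ y ∈ QQ R, P M w' y = l * P M w y := by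
  let T : Subgroup G :=
    { carrier := {w | w ∈ WW V' R ∧ ∃ w' ∈ WW V' R, ∀ y ∈ QQ R, P M w' y = l * P M w y}
      one_mem' := ⟨one_mem _, 1, one_mem _, fun y _ => by rw [c.one_P, mul_zero]⟩
      mul_mem' := by
        rintro u v ⟨hu, u', hu', h1⟩ ⟨hv, v', hv', h2⟩
        refine ⟨mul_mem hu hv, u' * v', mul_mem hu' hv', fun y hy => ?_⟩
        rw [c.mul_P (c.WQ' hu' hy) (c.WQ' hv' hy) (c.symm.W_Q hu'),
          c.mul_P (c.WQ' hu hy) (c.WQ' hv hy) (c.symm.W_Q hu), h1 y hy, h2 y hy, mul_add]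
      inv_mem' := by
        rintro u ⟨hu, u', hu', h1⟩
        refine ⟨inv_mem hu, u', hu', fun y hy => ?_⟩
        rw [h1 y hy, c.symm.W_inv hu] }
  have h : WW V' R ≤ T := by
    refine iSup_le fun h => cj_le_iff.2 fun v hv => ?_
    have hv' : (h : G) * v * (h : G)⁻¹ ∈ WW V' R := c.symm.W_n h.2 (c.symm.V_W hv)
    refine ⟨hv', ?_⟩
    obtain ⟨a, b, rfl⟩ := exists_vv M' hv
    obtain ⟨μ, hμ⟩ := c.tau_semi h.2 l
    refine ⟨h * vv M' a (μ * b) * (h : G)⁻¹, c.symm.W_n h.2 (c.symm.V_W (vv_mem M' _ _)), fun y hy => ?_⟩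
    have hy' : (h : G)⁻¹ * y * h ∈ QQ R := c.Q_nQ' h.2 hy
    have key : ∀ e, P M (h * vv M' a e * (h : G)⁻¹) y = tau M h (P M ((h : G)⁻¹ * y * h) (vv M' 0 1) * e) := by
      intro e
      have h1 : vv M' a e * ((h : G)⁻¹ * y * h) * (vv M' a e)⁻¹ * ((h : G)⁻¹ * y * h)⁻¹ ∈ R :=
        c.WQ' (c.symm.V_W (vv_mem M' _ _)) hy'
      have h2 := c.P_conj h.2 h1
      have e1 : (h : G) * ((h : G)⁻¹ * y * h) * (h : G)⁻¹ = y := by group
      rw [e1] at h2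
      rw [h2, c.P_comm h1, c.P_vv' hy']
    rw [key, key, hμ]
    congr 1
    ring
  exact (h hw).2

theorem scal {w : G} (hw : w ∈ WW V R) (l : F) : ∃ w' ∈ WW V R, ∀ y ∈ QQ R, P M w' y = l * P M w y := by
  obtain ⟨w', hw', h⟩ := c.symm.scal' hw l
  exact ⟨w', hw', fun y hy => by rw [c.P_symm, c.P_symm]; exact h y hy⟩

theorem card_O_le : Nat.card O ≤ Nat.card (WW V' R) := by
  have hR : 0 < Nat.card R := Nat.card_pos
  have h := card_pair' (WW V' R) O R R c.symm.R_W (c.R_V.trans c.V_O) (P M)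
    (fun a ha a' ha' b hb => c.mul_P (c.WQ' ha (c.O_Q hb)) (c.WQ' ha' (c.O_Q hb)) (c.symm.W_Q ha))
    (fun a ha b hb b' hb' => c.P_mul (c.WQ' ha (c.O_Q hb)) (c.WQ' ha (c.O_Q hb')) (c.O_Q hb))
    (fun l a ha => by
      obtain ⟨a', ha', h⟩ := c.scal' ha l
      exact ⟨a', ha', fun b hb => h b (c.O_Q hb)⟩)
    (fun a ha b hb => by
      rw [c.P_eq_zero_iff (c.WQ' (c.symm.R_W ha) (c.O_Q hb))]
      exact (c.Q_R (c.O_Q hb) ha).symm)
    (fun b hb h => c.mem_R_of_cen hb fun w hw => (c.P_eq_zero_iff (c.WQ' hw (c.O_Q hb))).1 (h w hw))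
  exact Nat.le_of_mul_le_mul_right h hR

theorem card_W_le : Nat.card (WW V R) ≤ Nat.card O := by
  exact Nat.card_le_card_of_injective _ (inclusion_injective c.W_O)

/-- **`O = W`** -/
theorem O_eq : WW V R = O := by
  apply eq_of_le_of_card_ge c.W_O
  calc Nat.card O ≤ Nat.card (WW V' R) := c.card_O_le
    _ ≤ Nat.card O' := c.symm.card_W_le
    _ ≤ Nat.card (WW V R) := c.symm.card_O_le

theorem card_W : Nat.card (WW V R) = Nat.card (WW V' R) := by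
  apply le_antisymm
  · exact c.card_W_le.trans c.card_O_le
  · exact c.symm.card_W_le.trans c.symm.card_O_le

theorem mem_R_of_cen' {u : G} (hu : u ∈ WW V R) (h : ∀ w ∈ WW V' R, P M w u = 0) : u ∈ R :=
  c.mem_R_of_cen (c.W_O hu) fun w hw => (c.P_eq_zero_iff (c.WQ' hw (c.W_Q hu))).1 (h w hw)

/-- every linear functional on `W/R` is induced by an element of `W'` -/
theorem exists_of_fun (φ : G → F) (hφ : ∀ y ∈ WW V R, ∀ y' ∈ WW V R, φ (y * y') = φ y + φ y')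
    (hs : ∀ (l : F), ∀ y ∈ WW V R, ∀ y' ∈ WW V R, (∀ w ∈ WW V' R, P M w y' = l * P M w y) → φ y' = l * φ y) :
    ∃ w ∈ WW V' R, ∀ y ∈ WW V R, φ y = P M w y := by
  obtain ⟨w, hw, h⟩ := surj_pair' (WW V R) (WW V' R) R R c.R_W c.symm.R_W (P M)
    (fun a ha a' ha' b hb => c.mul_P (c.WQ ha (c.symm.W_Q hb)) (c.WQ ha' (c.symm.W_Q hb)) (c.W_Q ha))
    (fun a ha b hb b' hb' => c.P_mul (c.WQ ha (c.symm.W_Q hb)) (c.WQ ha (c.symm.W_Q hb')) (c.symm.W_Q hb))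
    (fun l a ha => by
      obtain ⟨a', ha', h⟩ := c.scal ha l
      exact ⟨a', ha', fun b hb => h b (c.symm.W_Q hb)⟩)
    (fun a ha b hb => by
      rw [c.P_eq_zero_iff (c.WQ (c.R_W ha) (c.symm.W_Q hb))]
      exact (c.Q_R (c.symm.W_Q hb) ha).symm)
    (fun b hb h => c.symm.mem_R_of_cen' hb fun w hw => by
      rw [← c.P_symm]
      exact h w hw)
    (by rw [c.card_W]) φ hφ
    (fun l a ha a' ha' h => hs l a ha a' ha' fun w hw => by
      rw [c.P_comm (c.WQ' hw (c.W_Q ha')), c.P_comm (c.WQ' hw (c.W_Q ha)), h w hw])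
  refine ⟨w, hw, fun y hy => ?_⟩
  rw [h y hy, c.P_comm (c.WQ hy (c.symm.W_Q hw))]

/-- elements of `Q` are linear on `W/R` -/
theorem lin_Q {x : G} (hx : x ∈ QQ R) {l : F} {y y' : G} (hy : y ∈ WW V R) (hy' : y' ∈ WW V R)
    (h : ∀ w ∈ WW V' R, P M w y' = l * P M w y) : P M x y' = l * P M x y := by
  obtain ⟨z, hz, hz'⟩ := c.scal hy l
  have h1 : z * y' ∈ R := by
    apply c.mem_R_of_cen' (mul_mem hz hy')
    intro w hw
    rw [c.P_mul (c.WQ' hw (c.W_Q hz)) (c.WQ' hw (c.W_Q hy')) (c.W_Q hz), h w hw,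
      c.P_comm (c.WQ' hw (c.W_Q hz)), hz' w (c.symm.W_Q hw), c.P_comm (c.WQ' hw (c.W_Q hy)),
      CharTwo.add_self_eq_zero]
  have h2 : P M x (z * y') = 0 := by
    rw [c.P_eq_zero_iff (c.QW hx (c.R_W h1))]
    exact c.Q_R hx h1
  rw [c.P_mul (c.QW hx hz) (c.QW hx hy') (c.W_Q hz), c.P_comm (c.QW hx hz), hz' x hx,
    ← c.P_comm (c.QW hx hy)] at h2
  have h3 := eq_neg_of_add_eq_zero_left h2
  rw [CharTwo.neg_eq] at h3
  exact h3.symm

/-- **`Q = WW'`** -/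
theorem Q_eq : ∀ x ∈ QQ R, ∃ y ∈ WW V R, ∃ w ∈ WW V' R, x = w * y := by
  intro x hx
  obtain ⟨w, hw, h⟩ := c.exists_of_fun (fun y => P M x y)
    (fun y hy y' hy' => c.P_mul (c.QW hx hy) (c.QW hx hy') (c.W_Q hy))
    (fun l y hy y' hy' h => c.lin_Q hx hy hy' h)
  refine ⟨w⁻¹ * x, ?_, w, hw, by group⟩
  rw [c.O_eq]
  apply c.cen
  · exact mem_sup_right (c.Q_le (mul_mem (inv_mem (c.symm.W_Q hw)) hx))
  · intro y hy
    rw [← c.O_eq] at hy
    have h1 := c.conj_eq (c.QW hx hy)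
    have h2 := c.conj_eq (c.WQ' hw (c.W_Q hy))
    have h3 : P M x y = P M w y := h y hy
    rw [h3, ← h2] at h1
    calc w⁻¹ * x * y = w⁻¹ * (x * y * x⁻¹) * x := by group
      _ = w⁻¹ * (w * y * w⁻¹) * x := by rw [h1]
      _ = y * (w⁻¹ * x) := by group

theorem Q_sup : WW V R ⊔ WW V' R = QQ R := by
  apply le_antisymm (sup_le c.W_Q c.symm.W_Q)
  intro x hx
  obtain ⟨y, hy, w, hw, rfl⟩ := c.Q_eq x hx
  exact mul_mem (mem_sup_right hw) (mem_sup_left hy)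

theorem inf_eq : WW V R ⊓ WW V' R = R := by
  apply le_antisymm
  · intro u hu
    apply c.mem_R_of_cen (c.W_O hu.1)
    intro w hw
    exact (c.symm.W_comm hw hu.2)
  · exact le_inf c.R_W c.symm.R_W

end Ctx

end Cfsg.Agent.Omega.Lin
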