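import Cfsg.Agent.Omega.Lin.Cen

/-!
# THEOREM LIN (2): `N(R)` is semilinear on `R`
-/

set_option autoImplicit false
set_option linter.unusedSectionVars false

namespace Cfsg.Agent.Omega.Lin

open Subgroup BTwo

variable {G : Type*} [Group G] {F : Type*} [Field F] {V V' : Subgroup G}

theorem inv_conj {g v y : G} (h : g * y * g⁻¹ = v * y) (hv : g * v = v * g) (hv2 : v * v = 1) : g⁻¹ * y * g = v * y := by
  have h1 : g * (v * y) * g⁻¹ = y := by
    calc g * (v * y) * g⁻¹ = (g * v) * y * g⁻¹ := by group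
      _ = v * (g * y * g⁻¹) := by rw [hv]; group
      _ = (v * v) * y := by rw [h, mul_assoc]
      _ = y := by rw [hv2, one_mul]
  calc g⁻¹ * y * g = g⁻¹ * (g * (v * y) * g⁻¹) * g := by rw [h1]
    _ = v * y := by group

section

variable [Finite G] [Finite F] [CharP F 2] {M : NatPair.NatMod F V} {M' : NatPair.NatMod F V'} {R O O' : Subgroup G}

/-- the Weyl element -/
structure Wl (M : NatPair.NatMod F V) (x : G) : Prop where
  mem : x ∈ normalizer (V : Set G)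
  conj : ∀ a b, x * vv M a b * x⁻¹ = vv M b a

theorem Wl.inv {x : G} (h : Wl M x) (a b : F) : x⁻¹ * vv M a b * x = vv M b a := by
  rw [← h.conj b a]; group

namespace Ctx

variable (c : Ctx M M' R O O')
include c

/-- `[W', O] ≤ R` -/
theorem WO {w y : G} (hw : w ∈ WW V' R) (hy : y ∈ O) : w * y * w⁻¹ * y⁻¹ ∈ R :=
  c.com_symm (c.symm.QW (c.O_Q hy) hw)

theorem actW {w y : G} (hw : w ∈ WW V' R) (hy : y ∈ O) : w * y * w⁻¹ = vv M (P M w y) 0 * y := c.conj_eq (c.WO hw hy)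

theorem actW_inv {w y : G} (hw : w ∈ WW V' R) (hy : y ∈ O) : w⁻¹ * y * w = vv M (P M w y) 0 * y :=
  inv_conj (c.actW hw hy) (c.Q_R (c.symm.W_Q hw) (c.R_mem _)) (vv_sq M _ _)

/-- the second point: the action of `x w x⁻¹`, `w ∈ W'` -/
theorem actX {x : G} (hx : Wl M x) {w y : G} (hw : w ∈ WW V' R) (hy : y ∈ O) :
    (x * w * x⁻¹) * y * (x * w * x⁻¹)⁻¹ = vv M 0 (P M w (x⁻¹ * y * x)) * y := by
  have hy' : x⁻¹ * y * x ∈ O := conj_inv_mem_of_normalizer (c.nV hx.mem) hy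
  rw [← hx.conj (P M w (x⁻¹ * y * x)) 0]
  calc (x * w * x⁻¹) * y * (x * w * x⁻¹)⁻¹ = x * (w * (x⁻¹ * y * x) * w⁻¹) * x⁻¹ := by group
    _ = _ := by rw [c.actW hw hy']; group

theorem actX_V {x : G} (hx : Wl M x) {w : G} (hw : w ∈ WW V' R) (a b : F) :
    (x * w * x⁻¹) * vv M a b * (x * w * x⁻¹)⁻¹ = vv M a (b + P M w (vv M 0 1) * a) := by
  rw [c.actX hx hw (c.V_O (vv_mem M a b)), hx.inv, c.P_vv (c.symm.W_Q hw), vv_mul, zero_add, add_comm]

theorem actX_inv {x : G} (hx : Wl M x) {w y : G} (hw : w ∈ WW V' R) (hy : y ∈ O) :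
    (x * w * x⁻¹)⁻¹ * y * (x * w * x⁻¹) = vv M 0 (P M w (x⁻¹ * y * x)) * y := by
  refine inv_conj (c.actX hx hw hy) ?_ (vv_sq M _ _)
  rw [← mul_inv_eq_iff_eq_mul, c.actX_V hx hw, mul_zero, add_zero]

theorem actX_V_inv {x : G} (hx : Wl M x) {w : G} (hw : w ∈ WW V' R) (a b : F) :
    (x * w * x⁻¹)⁻¹ * vv M a b * (x * w * x⁻¹) = vv M a (b + P M w (vv M 0 1) * a) := by
  rw [c.actX_inv hx hw (c.V_O (vv_mem M a b)), hx.inv, c.P_vv (c.symm.W_Q hw), vv_mul, zero_add, add_comm]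

/-- **the commutator trick**, first part: `k = [x a x⁻¹, w]` -/
theorem trick {x : G} (hx : Wl M x) {a w : G} (ha : a ∈ WW V' R) (hw : w ∈ WW V' R) (hwV : ∀ v ∈ V, w * v = v * w)
    {y : G} (hy : y ∈ O) :
    ((x * a * x⁻¹) * w * (x * a * x⁻¹)⁻¹ * w⁻¹) * y * ((x * a * x⁻¹) * w * (x * a * x⁻¹)⁻¹ * w⁻¹)⁻¹ =
      vv M 0 (P M a (vv M 0 1) * P M w y) * y := by
  have h1 := c.actW_inv hw hy
  have h1' := c.actW hw hy
  have h2 := c.actX_inv hx ha hy
  have h2' := c.actX hx ha hy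
  have h3 := c.actX_V_inv hx ha (P M w y) 0
  have h3' := c.actX_V hx ha 0 (P M a (vv M 0 1) * P M w y + P M a (x⁻¹ * y * x))
  set b := x * a * x⁻¹ with hb
  set β := P M a (vv M 0 1) with hβ
  set t := P M w y with ht
  set d := P M a (x⁻¹ * y * x) with hd
  have h4 : w * vv M t (β * t) * w⁻¹ = vv M t (β * t) := by
    rw [hwV _ (vv_mem M _ _), mul_inv_cancel_right]
  have h5 : w * vv M 0 d * w⁻¹ = vv M 0 d := by
    rw [hwV _ (vv_mem M _ _), mul_inv_cancel_right]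
  calc (b * w * b⁻¹ * w⁻¹) * y * (b * w * b⁻¹ * w⁻¹)⁻¹ = b * (w * (b⁻¹ * (w⁻¹ * y * w) * b) * w⁻¹) * b⁻¹ := by group
    _ = b * (w * ((b⁻¹ * vv M t 0 * b) * (b⁻¹ * y * b)) * w⁻¹) * b⁻¹ := by rw [h1]; group
    _ = b * (w * (vv M t (β * t) * (vv M 0 d * y)) * w⁻¹) * b⁻¹ := by rw [h3, h2, zero_add]
    _ = b * ((w * vv M t (β * t) * w⁻¹) * ((w * vv M 0 d * w⁻¹) * (w * y * w⁻¹))) * b⁻¹ := by group
    _ = b * (vv M t (β * t) * vv M 0 d * vv M t 0 * y) * b⁻¹ := by rw [h4, h5, h1']; group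
    _ = b * (vv M 0 (β * t + d) * y) * b⁻¹ := by
      rw [vv_mul, vv_mul]
      congr 3
      congr 1
      · linear_combination t * (CharTwo.two_eq_zero : (2 : F) = 0)
      · ring
    _ = (b * vv M 0 (β * t + d) * b⁻¹) * (b * y * b⁻¹) := by group
    _ = vv M 0 (β * t) * y := by
      rw [h3', h2', mul_zero, add_zero, ← mul_assoc, vv_mul]
      congr 2
      · ring
      · linear_combination d * (CharTwo.two_eq_zero : (2 : F) = 0)

theorem trick_V {x : G} (hx : Wl M x) {a w : G} (ha : a ∈ WW V' R) (hw : w ∈ WW V' R) (hwV : ∀ v ∈ V, w * v = v * w)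
    {v : G} (hv : v ∈ V) :
    ((x * a * x⁻¹) * w * (x * a * x⁻¹)⁻¹ * w⁻¹) * v = v * ((x * a * x⁻¹) * w * (x * a * x⁻¹)⁻¹ * w⁻¹) := by
  rw [← mul_inv_eq_iff_eq_mul, c.trick hx ha hw hwV (c.V_O hv),
    (c.P_eq_zero_iff (c.WO hw (c.V_O hv))).2 (hwV v hv), mul_zero, vv_zero, one_mul]

theorem nR_of_cen {k : G} (hk : ∀ v ∈ V, k * v = v * k) : k ∈ normalizer (R : Set G) := by
  apply mem_normalizer_of_conj
  intro v hv
  rw [hk v (c.R_V hv), mul_inv_cancel_right]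
  exact hv

/-- **the commutator trick**, second part: `[a', [x a x⁻¹, w]] ∈ W'` acts as a multiple of `w` -/
theorem trick2 {x : G} (hx : Wl M x) {a' a w : G} (ha' : a' ∈ WW V' R) (ha : a ∈ WW V' R) (hw : w ∈ WW V' R)
    (hwV : ∀ v ∈ V, w * v = v * w) :
    ∃ z ∈ WW V' R, ∀ y ∈ O, P M z y = P M a' (vv M 0 1) * P M a (vv M 0 1) * P M w y := by
  set k := (x * a * x⁻¹) * w * (x * a * x⁻¹)⁻¹ * w⁻¹ with hk
  have hkV : ∀ v ∈ V, k * v = v * k := fun v hv => c.trick_V hx ha hw hwV hv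
  have hkR := c.nR_of_cen hkV
  refine ⟨a' * (k * a'⁻¹ * k⁻¹), mul_mem ha' (c.symm.W_n hkR (inv_mem ha')), fun y hy => ?_⟩
  apply c.P_of
  set α := P M a' (vv M 0 1) with hα
  set β := P M a (vv M 0 1) with hβ
  set t := P M w y with ht
  set d := P M a' y with hd
  have h1' : k * y * k⁻¹ = vv M 0 (β * t) * y := c.trick hx ha hw hwV hy
  have h1 : k⁻¹ * y * k = vv M 0 (β * t) * y := inv_conj h1' (hkV _ (vv_mem M _ _)) (vv_sq M _ _)
  have h2' : a' * y * a'⁻¹ = vv M d 0 * y := c.actW ha' hy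
  have h2 : a'⁻¹ * y * a' = vv M d 0 * y := c.actW_inv ha' hy
  have h3 : a'⁻¹ * vv M 0 (β * t) * a' = vv M (α * (β * t)) (β * t) := by
    rw [c.actW_inv ha' (c.V_O (vv_mem M _ _)), c.P_vv (c.symm.W_Q ha'), vv_mul, add_zero, zero_add]
  have h4 : k * vv M (α * (β * t)) (β * t) * k⁻¹ = vv M (α * (β * t)) (β * t) := by
    rw [hkV _ (vv_mem M _ _), mul_inv_cancel_right]
  have h5 : k * vv M d 0 * k⁻¹ = vv M d 0 := by
    rw [hkV _ (vv_mem M _ _), mul_inv_cancel_right]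
  have h6 : a' * vv M (α * (β * t) + d) 0 * a'⁻¹ = vv M (α * (β * t) + d) 0 := by
    rw [c.Q_R (c.symm.W_Q ha') (c.R_mem _), mul_inv_cancel_right]
  calc a' * (k * a'⁻¹ * k⁻¹) * y * (a' * (k * a'⁻¹ * k⁻¹))⁻¹ = a' * (k * (a'⁻¹ * (k⁻¹ * y * k) * a') * k⁻¹) * a'⁻¹ := by
        group
    _ = a' * (k * ((a'⁻¹ * vv M 0 (β * t) * a') * (a'⁻¹ * y * a')) * k⁻¹) * a'⁻¹ := by rw [h1]; group
    _ = a' * ((k * vv M (α * (β * t)) (β * t) * k⁻¹) * ((k * vv M d 0 * k⁻¹) * (k * y * k⁻¹))) * a'⁻¹ := by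
        rw [h3, h2]; group
    _ = a' * (vv M (α * (β * t)) (β * t) * vv M d 0 * vv M 0 (β * t) * y) * a'⁻¹ := by rw [h4, h5, h1']; group
    _ = a' * (vv M (α * (β * t) + d) 0 * y) * a'⁻¹ := by
      rw [vv_mul, vv_mul]
      congr 3
      congr 1
      · ring
      · linear_combination β * t * (CharTwo.two_eq_zero : (2 : F) = 0)
    _ = (a' * vv M (α * (β * t) + d) 0 * a'⁻¹) * (a' * y * a'⁻¹) := by group
    _ = vv M (α * β * t) 0 * y := by
      rw [h6, h2', ← mul_assoc, vv_mul]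
      congr 2
      · linear_combination d * (CharTwo.two_eq_zero : (2 : F) = 0)
      · ring

theorem exists_Wl : ∃ x, Wl M x := by
  have _ := c
  obtain ⟨x, hx, h⟩ := exists_weyl M
  exact ⟨x, hx, h⟩

/-- `g` is semilinear on `R` (first form) -/
theorem tau_semi {g : G} (hg : g ∈ normalizer (R : Set G)) (μ : F) : ∃ μ' : F, ∀ t, μ * tau M g t = tau M g (μ' * t) := by
  -- the two functions
  have hV'Q : ∀ a b, vv M' a b ∈ QQ R := fun a b => c.symm.V_Q (vv_mem M' a b)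
  have hVQ : ∀ a b, vv M a b ∈ QQ R := fun a b => c.V_Q (vv_mem M a b)
  set S : F → F := fun d => P M (g * vv M' 0 d * g⁻¹) (vv M 0 1) with hS
  set T : F → F := fun b => P M (g⁻¹ * vv M 0 b * g) (vv M' 0 1) with hT
  have key : ∀ b d, b * S d = tau M g (T b * d) := by
    intro b d
    have h1 : P M (g * vv M' 0 d * g⁻¹) (vv M 0 b) = S d * b := c.P_vv (c.Q_nQ hg (hV'Q 0 d)) 0 b
    have h2 : P M (g⁻¹ * vv M 0 b * g) (vv M' 0 d) = T b * d := c.P_vv' (c.Q_nQ' hg (hVQ 0 b)) 0 d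
    have h3 : vv M' 0 d * (g⁻¹ * vv M 0 b * g) * (vv M' 0 d)⁻¹ * (g⁻¹ * vv M 0 b * g)⁻¹ ∈ R :=
      c.com_symm (c.symm.QV (c.Q_nQ' hg (hVQ 0 b)) (vv_mem M' 0 d))
    have h4 := c.P_conj hg h3
    have e : g * (g⁻¹ * vv M 0 b * g) * g⁻¹ = vv M 0 b := by group
    rw [e, h1, c.P_comm h3, h2] at h4
    rw [← h4, mul_comm]
  by_cases hT1 : T 1 = 0
  · -- `V` and `g V' g⁻¹` commute
    have hS1 : S 1 = 0 := by
      have h := key 1 1
      rw [hT1, zero_mul, c.tau_zero hg, one_mul] at h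
      exact h
    obtain ⟨x, hx⟩ := c.exists_Wl
    set w := g * vv M' 0 1 * g⁻¹ with hw
    have hwW : w ∈ WW V' R := c.symm.W_n hg (c.symm.V_W (vv_mem M' 0 1))
    have hwV : ∀ v ∈ V, w * v = v * w := by
      intro v hv
      obtain ⟨a, b, rfl⟩ := exists_vv M hv
      rw [← c.P_eq_zero_iff (c.QV (c.symm.W_Q hwW) (vv_mem M a b)), c.P_vv (c.symm.W_Q hwW)]
      change S 1 * b = 0
      rw [hS1, zero_mul]
    obtain ⟨z, hzW, hz⟩ := c.trick2 hx (a' := vv M' 0 μ) (a := vv M' 0 1) (c.symm.V_W (vv_mem M' 0 μ))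
      (c.symm.V_W (vv_mem M' 0 1)) hwW hwV
    rw [c.P_base, c.P_base, mul_one, mul_one, mul_one] at hz
    refine ⟨P M (g⁻¹ * z * g) (vv M 0 1), fun t => ?_⟩
    have hO : g * vv M 0 t * g⁻¹ ∈ O := conj_mem_of_normalizer (c.nR hg) (c.V_O (vv_mem M 0 t))
    have h1 := hz _ hO
    have h2 : P M w (g * vv M 0 t * g⁻¹) = tau M g t := by
      rw [hw, c.P_conj hg (c.QV (hV'Q 0 1) (vv_mem M 0 t)), c.P_base, one_mul]
    have h3 : P M z (g * vv M 0 t * g⁻¹) = tau M g (P M (g⁻¹ * z * g) (vv M 0 1) * t) := by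
      rw [← c.P_vv (c.Q_nQ' hg (c.symm.W_Q hzW)) 0 t,
        ← c.P_conj hg (c.QV (c.Q_nQ' hg (c.symm.W_Q hzW)) (vv_mem M 0 t))]
      congr 1
      group
    rw [← h3, h1, h2]
  · refine ⟨T μ * (T 1)⁻¹, fun t => ?_⟩
    have h1 := key 1 ((T 1)⁻¹ * t)
    rw [one_mul, ← mul_assoc, mul_inv_cancel₀ hT1, one_mul] at h1
    rw [← h1, key, mul_assoc]

/-- **(2)** `N(R)` is semilinear on `R` -/
theorem exists_sig {g : G} (hg : g ∈ normalizer (R : Set G)) :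
    ∃ s : F ≃+* F, ∀ μ t, tau M g (μ * t) = s μ * tau M g t := by
  have h0 : tau M g 1 ≠ 0 := by
    intro h
    apply one_ne_zero (α := F)
    apply c.tau_inj hg
    rw [h, c.tau_zero hg]
  -- the inverse function
  choose ρ hρ using c.tau_semi hg
  have hρmul : ∀ a b, ρ (a * b) = ρ a * ρ b := by
    intro a b
    have h1 := hρ (a * b) 1
    rw [mul_assoc, hρ b, mul_one, hρ a, mul_one] at h1
    exact (c.tau_inj hg h1).symm
  have hρadd : ∀ a b, ρ (a + b) = ρ a + ρ b := by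
    intro a b
    have h1 := hρ (a + b) 1
    rw [add_mul, hρ a, hρ b, mul_one, mul_one, mul_one, ← c.tau_add hg] at h1
    exact (c.tau_inj hg h1).symm
  have hρone : ρ 1 = 1 := by
    have h1 := hρ 1 1
    rw [one_mul, mul_one] at h1
    exact (c.tau_inj hg h1).symm
  have hρzero : ρ 0 = 0 := by
    have h1 := hρadd 0 0
    rw [add_zero] at h1
    exact left_eq_add.1 h1
  let f : F →+* F := { toFun := ρ, map_one' := hρone, map_mul' := hρmul, map_zero' := hρzero, map_add' := hρadd }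
  have hbij : Function.Bijective f := Finite.injective_iff_bijective.1 f.injective
  let e := RingEquiv.ofBijective f hbij
  have he : ∀ a, e a = ρ a := fun _ => rfl
  refine ⟨e.symm, fun μ t => ?_⟩
  have h1 := hρ (e.symm μ) t
  rw [h1, ← he, e.apply_symm_apply]

end Ctx

end

end Cfsg.Agent.Omega.Lin
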