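import Cfsg.Agent.Omega.Lin.Tor
import Cfsg.Agent.Omega.Mix.SLn

/-!
# THEOREM LIN (5): `W` as an `F`-space, `L = ⟨N(V), N(R)⟩` is semilinear and contains all transvections with centre `R`
-/

set_option autoImplicit false
set_option linter.unusedSectionVars false

namespace Cfsg.Agent.Omega.Lin

open Subgroup BTwo

variable {G : Type*} [Group G] {F : Type*} [Field F] {V V' : Subgroup G}
  [Finite G] [Finite F] [CharP F 2] {M : NatPair.NatMod F V} {M' : NatPair.NatMod F V'} {R O O' : Subgroup G}

/-- the elements which act semilinearly on `W` -/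
def SS (M : NatPair.NatMod F V) (W W' : Subgroup G) (x : G) : Subgroup G where
  carrier := {g | g ∈ normalizer (W : Set G) ∧ ∃ s : F ≃+* F, ∀ l, ∀ y ∈ W,
    g * sm M W W' x l y * g⁻¹ = sm M W W' x (s l) (g * y * g⁻¹)}
  one_mem' := ⟨one_mem _, RingEquiv.refl F, fun l y _ => by simp⟩
  mul_mem' := by
    rintro g h ⟨hg, s, hg'⟩ ⟨hh, t, hh'⟩
    refine ⟨mul_mem hg hh, t.trans s, fun l y hy => ?_⟩
    have e : ∀ u : G, g * h * u * (g * h)⁻¹ = g * (h * u * h⁻¹) * g⁻¹ := fun u => by group
    rw [e, e, hh' l y hy, hg' _ _ (conj_mem_of_normalizer hh hy)]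
    rfl
  inv_mem' := by
    rintro g ⟨hg, s, hg'⟩
    refine ⟨inv_mem hg, s.symm, fun l y hy => ?_⟩
    have hy' : g⁻¹ * y * g⁻¹⁻¹ ∈ W := conj_mem_of_normalizer (inv_mem hg) hy
    have h1 := hg' (s.symm l) _ hy'
    have e : g * (g⁻¹ * y * g⁻¹⁻¹) * g⁻¹ = y := by group
    rw [e, s.apply_symm_apply] at h1
    rw [← h1]; group

namespace Ctx

variable (c : Ctx M M' R O O')
include c

theorem L_SS {x : G} (hx : Wl M x) :
    normalizer (V : Set G) ⊔ normalizer (R : Set G) ≤ SS M (WW V R) (WW V' R) x := by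
  apply sup_le
  · intro n hn
    obtain ⟨s, hs⟩ := exists_semi' M hn
    exact ⟨c.nVW hn, s, fun l y hy => c.semi_nV hx hn hs l hy⟩
  · intro n hn
    obtain ⟨s, hs⟩ := c.exists_sig hn
    exact ⟨normalizer_le_WW V R hn, s, fun l y hy => c.semi_nR hx hn hs l hy⟩

theorem W'_L : WW V' R ≤ normalizer (V : Set G) ⊔ normalizer (R : Set G) :=
  (c.symm.W_Q.trans c.Q_le).trans le_sup_right

end Ctx

section

variable (c : Ctx M M' R O O') {x : G} (hx : Wl M x)

/-- `W` is abelian -/
@[reducible] def cgW : CommGroup ↥(WW V R) :=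
  { (inferInstance : Group ↥(WW V R)) with mul_comm := fun a b => Subtype.ext (c.W_comm a.2 b.2) }

/-- `W` written additively -/
@[reducible] def acW : AddCommGroup (Additive ↥(WW V R)) :=
  letI := cgW c
  inferInstance

omit [Finite G] [Finite F] [CharP F 2] in
/-- an element of `Additive W` as an element of `G` -/
def cv {W : Subgroup G} (a : Additive ↥W) : G := ((Additive.toMul a : ↥W) : G)

theorem cv_mem {W : Subgroup G} (a : Additive ↥W) : cv a ∈ W := (Additive.toMul a).2

/-- an element of `W` as an element of `Additive W` -/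
def vc {W : Subgroup G} (g : G) (hg : g ∈ W) : Additive ↥W := Additive.ofMul ⟨g, hg⟩

theorem cv_vc {W : Subgroup G} (g : G) (hg : g ∈ W) : cv (vc g hg) = g := rfl

theorem cv_inj {W : Subgroup G} {a b : Additive ↥W} (h : cv a = cv b) : a = b := by
  apply Additive.toMul.injective
  exact Subtype.ext h

theorem cv_add {a b : Additive ↥(WW V R)} : letI := acW c; cv (a + b) = cv a * cv b := rfl

/-- the `F`-structure on `W` -/
@[reducible] noncomputable def mdW : letI := acW c; Module F (Additive ↥(WW V R)) :=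
  letI := acW c
  { smul := fun l a => vc (sm M (WW V R) (WW V' R) x l (cv a)) (c.sm_mem hx l (cv_mem a))
    one_smul := fun a => cv_inj (c.sm_one hx (cv_mem a))
    mul_smul := fun l m a => cv_inj (c.sm_sm hx l m (cv_mem a)).symm
    smul_zero := fun l => cv_inj (c.sm_e hx l)
    smul_add := fun l a b => cv_inj (c.sm_mul hx l (cv_mem a) (cv_mem b))
    add_smul := fun l m a => cv_inj (c.sm_add hx l m (cv_mem a))
    zero_smul := fun a => cv_inj (c.sm_zero hx (cv_mem a)) }

theorem cv_smul (l : F) (a : Additive ↥(WW V R)) :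
    letI := acW c; letI := mdW c hx; cv (l • a) = sm M (WW V R) (WW V' R) x l (cv a) := rfl

/-- the action of `L` on `W` -/
@[reducible] def rpW (L : Subgroup G) (hL : L ≤ normalizer (WW V R : Set G)) : letI := acW c; ↥L →* AddMonoid.End (Additive ↥(WW V R)) :=
  letI := acW c
  { toFun := fun g =>
      { toFun := fun a => vc ((g : G) * cv a * (g : G)⁻¹) (conj_mem_of_normalizer (hL g.2) (cv_mem a))
        map_zero' := cv_inj (by
          change (g : G) * 1 * (g : G)⁻¹ = 1
          rw [mul_one, mul_inv_cancel])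
        map_add' := fun a b => cv_inj (by
          change (g : G) * (cv a * cv b) * (g : G)⁻¹ = ((g : G) * cv a * (g : G)⁻¹) * ((g : G) * cv b * (g : G)⁻¹)
          group) }
    map_one' := by
      refine AddMonoidHom.ext fun a => cv_inj ?_
      change (1 : G) * cv a * (1 : G)⁻¹ = cv a
      group
    map_mul' := fun g h => by
      refine AddMonoidHom.ext fun a => cv_inj ?_
      change ((g : G) * h) * cv a * ((g : G) * h)⁻¹ = (g : G) * (h * cv a * (h : G)⁻¹) * (g : G)⁻¹
      group }

theorem cv_rpW (L : Subgroup G) (hL : L ≤ normalizer (WW V R : Set G)) (g : L) (a : Additive ↥(WW V R)) :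
    letI := acW c; cv (rpW c L hL g a) = (g : G) * cv a * (g : G)⁻¹ := rfl

/-- the pairing as a linear functional -/
@[reducible] noncomputable def fnW (w : G) (hw : w ∈ WW V' R) : letI := acW c; letI := mdW c hx; Additive ↥(WW V R) →ₗ[F] F :=
  letI := acW c; letI := mdW c hx
  { toFun := fun a => P M w (cv a)
    map_add' := fun a b => c.Pm hw (cv_mem a) (cv_mem b)
    map_smul' := fun l a => c.sm_P hx l (cv_mem a) hw }

/-- every functional which vanishes on `R` is induced by an element of `W'` -/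
theorem exists_fnW : letI := acW c; letI := mdW c hx;
    ∀ f : Additive ↥(WW V R) →ₗ[F] F, (∀ r (hr : r ∈ R), f (vc r (c.R_W hr)) = 0) →
      ∃ w, ∃ hw : w ∈ WW V' R, fnW c hx w hw = f := by
  let _ := acW c
  let _ := mdW c hx
  classical
  intro f hf
  obtain ⟨w, hw, h⟩ := c.exists_of_fun (fun y => if hy : y ∈ WW V R then f (vc y hy) else 0)
    (fun y hy y' hy' => by
      rw [dif_pos hy, dif_pos hy', dif_pos (mul_mem hy hy'), ← map_add]
      rfl)
    (fun l y hy y' hy' h => by
      rw [dif_pos hy, dif_pos hy']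
      have h1 : y' * (sm M (WW V R) (WW V' R) x l y)⁻¹ ∈ R := by
        apply c.mem_R_of_cen' (mul_mem hy' (inv_mem (c.sm_mem hx l hy)))
        intro w hw
        rw [c.W_inv (c.sm_mem hx l hy), c.Pm hw hy' (c.sm_mem hx l hy), h w hw, c.sm_P hx l hy hw,
          CharTwo.add_self_eq_zero]
      have h2 := hf _ h1
      have h3 : vc y' hy' = vc _ (c.R_W h1) + l • vc y hy := by
        apply cv_inj
        change y' = y' * (sm M (WW V R) (WW V' R) x l y)⁻¹ * sm M (WW V R) (WW V' R) x l y
        rw [inv_mul_cancel_right]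
      rw [h3, map_add, h2, zero_add, map_smul, smul_eq_mul])
  refine ⟨w, hw, ?_⟩
  ext a
  have h1 := h (cv a) (cv_mem a)
  rw [dif_pos (cv_mem a)] at h1
  exact h1.symm

end

end Cfsg.Agent.Omega.Lin
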