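import Mathlib

/-!
THEOREM LIN (bb OMEGA #12152, #12863), output form: two natural modules `W₁`, `W₂` of order `q^(k+1)` for `L₁`, `L₂`
in dual coordinates, `R = W₁ ∩ W₂` (coordinate `0`).
-/

set_option autoImplicit false

namespace Cfsg.Agent.Omega.Lin

variable {G : Type*} [Group G]

/-- `W` is the image of `F^n` under an injective additive-to-multiplicative map `e`; `L` acts semilinearly and induces
`SL_n(F)`. -/
structure SemiMod (F : Type*) [Field F] (n : ℕ) (W L : Subgroup G) where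
  e : (Fin n → F) → G
  e_add : ∀ x y, e (x + y) = e x * e y
  e_inj : Function.Injective e
  mem_iff : ∀ g, g ∈ W ↔ ∃ x, e x = g
  semi : ∀ g ∈ L, ∃ (s : F ≃+* F) (T : (Fin n → F) → (Fin n → F)),
    (∀ x, g * e x * g⁻¹ = e (T x)) ∧ ∀ (c : F) (x : Fin n → F), T (c • x) = s c • T x
  lift : ∀ A : Matrix.SpecialLinearGroup (Fin n) F, ∃ g ∈ L, ∀ x, g * e x * g⁻¹ = e (A.1.mulVec x)

/-- The output of THEOREM LIN: `n = k + 1`, coordinate `0` is `R`, dual bases. -/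
structure Out (F : Type*) [Field F] (k : ℕ) (W₁ W₂ L₁ L₂ R Q : Subgroup G) where
  E₁ : SemiMod F (k + 1) W₁ L₁
  E₂ : SemiMod F (k + 1) W₂ L₂
  r_eq : ∀ c : F, E₁.e (Pi.single 0 c) = E₂.e (Pi.single 0 c)
  mem_R : ∀ g, g ∈ R ↔ ∃ c : F, E₁.e (Pi.single 0 c) = g
  comm : ∀ x y, E₁.e x * E₂.e y * (E₁.e x)⁻¹ * (E₂.e y)⁻¹ =
    E₁.e (Pi.single 0 (∑ i : Fin k, x i.succ * y i.succ))
  cen₁ : ∀ g ∈ L₁, (∀ w ∈ W₁, g * w = w * g) → g ∈ W₁
  cen₂ : ∀ g ∈ L₂, (∀ w ∈ W₂, g * w = w * g) → g ∈ W₂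
  norm₁ : Subgroup.normalizer (R : Set G) ≤ L₁
  norm₂ : Subgroup.normalizer (R : Set G) ≤ L₂
  sup : W₁ ⊔ W₂ = Q

end Cfsg.Agent.Omega.Lin
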