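import Mathlib

/-!
# `SL_n(F)`, `n ≥ 2`, is transitive on nonzero vectors
-/

set_option autoImplicit false

namespace Cfsg.Agent.Omega.Lin

open Matrix

variable {n : Type*} [Fintype n] [DecidableEq n] {F : Type*} [Field F]

/-- The transvection `x ↦ x + (v ⬝ x) u`, `v ⬝ u = 0`. -/
theorem exists_tv (u v : n → F) (h : v ⬝ᵥ u = 0) :
    ∃ A : SpecialLinearGroup n F, ∀ x, A.1 *ᵥ x = x + (v ⬝ᵥ x) • u := by
  refine ⟨⟨1 + replicateCol Unit u * replicateRow Unit v, ?_⟩, fun x => ?_⟩
  · rw [det_one_add_replicateCol_mul_replicateRow, h, add_zero]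
  · funext i
    show ((1 + replicateCol Unit u * replicateRow Unit v) *ᵥ x) i = _
    rw [add_mulVec, one_mulVec, Pi.add_apply, Pi.add_apply]
    congr 1
    simp only [mulVec, dotProduct, mul_apply, replicateCol_apply, replicateRow_apply, Finset.univ_unique,
      Finset.sum_const, Finset.card_singleton, one_smul, Pi.smul_apply, smul_eq_mul]
    rw [Finset.sum_mul]
    exact Finset.sum_congr rfl fun j _ => by ring

theorem mul_val (B A : SpecialLinearGroup n F) (x : n → F) : (B * A).1 *ᵥ x = B.1 *ᵥ (A.1 *ᵥ x) := by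
  rw [mulVec_mulVec]
  rfl

/-- every nonzero vector is moved to `e_0` -/
theorem exists_sl_single (i j : n) (hij : i ≠ j) (x : n → F) (hx : x ≠ 0) :
    ∃ A : SpecialLinearGroup n F, A.1 *ᵥ x = Pi.single i 1 := by
  -- last step
  have hB : ∀ y : n → F, y i = 1 → ∃ A : SpecialLinearGroup n F, A.1 *ᵥ y = Pi.single i 1 := by
    intro y hy
    obtain ⟨A, hA⟩ := exists_tv (Pi.single i 1 - y) (Pi.single i (1 : F)) (by
      rw [single_dotProduct]; simp [hy])
    refine ⟨A, ?_⟩
    rw [hA, single_dotProduct, hy, one_mul, one_smul, add_sub_cancel]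
  -- a second coordinate
  have hA : ∀ (y : n → F) (l : n), l ≠ i → y l ≠ 0 → ∃ A : SpecialLinearGroup n F, A.1 *ᵥ y = Pi.single i 1 := by
    intro y l hl hyl
    obtain ⟨A, hA⟩ := exists_tv (Pi.single i ((1 - y i) / y l)) (Pi.single l (1 : F)) (by
      rw [single_dotProduct]; simp [hl])
    obtain ⟨B, hB⟩ := hB (A.1 *ᵥ y) (by
      rw [hA, single_dotProduct, one_mul]
      simp only [Pi.add_apply, Pi.smul_apply, Pi.single_eq_same, smul_eq_mul]
      field_simp
      ring)
    exact ⟨B * A, (mul_val B A _).trans hB⟩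
  by_cases h : ∃ l, l ≠ i ∧ x l ≠ 0
  · obtain ⟨l, hl, hxl⟩ := h
    exact hA x l hl hxl
  · push Not at h
    have hxi : x i ≠ 0 := by
      intro h0
      apply hx
      funext l
      by_cases hl : l = i
      · rw [hl, h0]; rfl
      · rw [h l hl]; rfl
    obtain ⟨A, hA'⟩ := exists_tv (Pi.single j (1 : F)) (Pi.single i (1 : F)) (by
      rw [single_dotProduct]; simp [hij])
    obtain ⟨B, hB⟩ := hA (A.1 *ᵥ x) j hij.symm (by
      rw [hA', single_dotProduct, one_mul]
      simp [h j hij.symm, hxi])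
    exact ⟨B * A, (mul_val B A _).trans hB⟩

/-- **Transitivity.** -/
theorem exists_sl (i j : n) (hij : i ≠ j) (x y : n → F) (hx : x ≠ 0) (hy : y ≠ 0) :
    ∃ A : SpecialLinearGroup n F, A.1 *ᵥ x = y := by
  obtain ⟨A, hA⟩ := exists_sl_single i j hij x hx
  obtain ⟨B, hB⟩ := exists_sl_single i j hij y hy
  refine ⟨B⁻¹ * A, ?_⟩
  rw [mul_val, hA, ← hB, ← mul_val, inv_mul_cancel]
  exact one_mulVec y

end Cfsg.Agent.Omega.Lin
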