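import Cfsg.Agent.Omega.Lin.Control
import Cfsg.Agent.Omega.Lin.SLTrans
import Cfsg.Agent.Lib.Cores
import Cfsg.Prelude.Def_CaseTheorems
import Cfsg.Prelude.Def_Transfer

/-!
# `Out` gives the hypotheses of the closing by TI-subgroups

`Out.exists_ti`: if a Sylow 2-subgroup of `G` normalises `R` and the centralisers of the involutions of `R` in `Z(S)`
have characteristic 2, then `A = W₁` or `A = W₂` satisfies `C_G(A) ≤ A`, `N_G(A)` is transitive on `A#`,
`C_G(a) ≤ N_G(A)` for one `a`.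
-/

set_option autoImplicit false
set_option linter.unusedSectionVars false

namespace Cfsg.Agent.Omega.Lin

open Subgroup

section CTwo

variable {G : Type*} [Group G]

/-- `C_G(r)` has a self-centralising normal 2-subgroup. -/
def CTwoAt (r : G) : Prop := ∃ O : Subgroup G, IsPGroup 2 O ∧ O ≤ centralizer ({r} : Set G) ∧
  (∀ c ∈ centralizer ({r} : Set G), ∀ o ∈ O, c * o * c⁻¹ ∈ O) ∧
  ∀ c ∈ centralizer ({r} : Set G), (∀ o ∈ O, c * o = o * c) → c ∈ O

theorem normalizer_zpowers {r : G} (hr : r * r = 1) (hr1 : r ≠ 1) :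
    normalizer (zpowers r : Set G) = centralizer ({r} : Set G) := by
  have hmem : ∀ x, x ∈ zpowers r ↔ x = 1 ∨ x = r := by
    intro x
    constructor
    · rintro ⟨k, rfl⟩
      rcases Int.even_or_odd' k with ⟨m, rfl | rfl⟩
      · left
        show r ^ (2 * m) = 1
        rw [zpow_mul, zpow_ofNat, pow_two, hr, one_zpow]
      · right
        show r ^ (2 * m + 1) = r
        rw [zpow_add, zpow_mul, zpow_ofNat, pow_two, hr, one_zpow, one_mul, zpow_one]
    · rintro (rfl | rfl)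
      · exact one_mem _
      · exact mem_zpowers _
  ext g
  constructor
  · intro hg
    have h1 := (mem_normalizer_iff.1 hg r).1 (mem_zpowers r)
    rw [mem_centralizer_iff]
    rintro x rfl
    rcases (hmem _).1 h1 with h | h
    · exact absurd (conj_eq_one_iff.1 h) hr1
    · exact (mul_inv_eq_iff_eq_mul.1 h).symm
  · intro hg
    have hgr : g * r * g⁻¹ = r := by
      rw [← mem_centralizer_iff.1 hg r rfl, mul_inv_cancel_right]
    rw [mem_normalizer_iff]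
    intro x
    rw [hmem, hmem]
    constructor
    · rintro (rfl | rfl)
      · left; group
      · right; exact hgr
    · rintro (h | h)
      · left; exact conj_eq_one_iff.1 h
      · right
        rw [← hgr] at h
        exact mul_left_cancel (mul_right_cancel h)

theorem cTwoAt_of_type [Finite G] (h : Cfsg.IsCharacteristicTwoType G) {r : G} (hr : r * r = 1) (hr1 : r ≠ 1) :
    CTwoAt r := by
  have : Fact (Nat.Prime 2) := ⟨Nat.prime_two⟩
  have hT : IsPGroup 2 (zpowers r) := by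
    refine IsPGroup.of_card (n := 1) ?_
    rw [Nat.card_zpowers, pow_one]
    exact orderOf_eq_prime (by rw [pow_two, hr]) hr1
  have hT1 : zpowers r ≠ ⊥ := fun h0 => hr1 (zpowers_eq_bot.1 h0)
  have hc := h.2 _ hT hT1
  unfold CTwoAt
  rw [← normalizer_zpowers hr hr1]
  set N : Subgroup G := normalizer (zpowers r : Set G) with hN
  refine ⟨(Cfsg.pCore 2 N).map N.subtype, (Cfsg.Agent.Lib.Cores.pCore_isPGroup 2).map _,
    map_subtype_le _, ?_, ?_⟩
  · rintro c hc' _ ⟨o, ho, rfl⟩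
    exact ⟨⟨c, hc'⟩ * o * ⟨c, hc'⟩⁻¹, (Cfsg.Agent.Lib.Cores.pCore_normal 2).conj_mem _ ho _, rfl⟩
  · intro c hc' hco
    refine ⟨⟨c, hc'⟩, hc ?_, rfl⟩
    rw [mem_centralizer_iff]
    intro o ho
    exact Subtype.ext (hco o ⟨o, ho, rfl⟩).symm

/-- A 2-group normalised by a Sylow 2-subgroup lies in it. -/
theorem le_sylow [Finite G] {S : Sylow 2 G} {O : Subgroup G} (hO : IsPGroup 2 O)
    (hS : (S : Subgroup G) ≤ normalizer (O : Set G)) : O ≤ (S : Subgroup G) := by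
  have : Fact (Nat.Prime 2) := ⟨Nat.prime_two⟩
  have h1 : IsPGroup 2 ((S : Subgroup G) ⊔ O : Subgroup G) := IsPGroup.to_sup_of_normal_right' S.isPGroup' hO hS
  exact le_trans le_sup_right (S.is_maximal' h1 le_sup_left).le

end CTwo

namespace Out

variable {G : Type*} [Group G] [Finite G] {F : Type*} [Field F] [Finite F] [CharP F 2]
variable {k : ℕ} {W₁ W₂ L₁ L₂ R Q : Subgroup G} (X : Out F k W₁ W₂ L₁ L₂ R Q)

include X in
theorem cen_le₁ : centralizer (W₁ : Set G) ≤ W₁ := by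
  intro g hg
  refine X.cen₁ g (X.cent_le₁ (centralizer_le X.R_le₁ hg)) fun w hw => ?_
  exact (mem_centralizer_iff.1 hg w hw).symm

include X in
theorem trans₁ (hk : 1 ≤ k) : ∀ x ∈ W₁, ∀ y ∈ W₁, x ≠ 1 → y ≠ 1 → ∃ n ∈ normalizer (W₁ : Set G), n * x * n⁻¹ = y := by
  intro x hx y hy hx1 hy1
  obtain ⟨x, rfl⟩ := (X.E₁.mem_iff _).1 hx
  obtain ⟨y, rfl⟩ := (X.E₁.mem_iff _).1 hy
  have hx0 : x ≠ 0 := by
    rintro rfl
    exact hx1 X.E₁.e_zero
  have hy0 : y ≠ 0 := by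
    rintro rfl
    exact hy1 X.E₁.e_zero
  obtain ⟨A, hA⟩ := exists_sl (0 : Fin (k + 1)) (Fin.succ ⟨0, hk⟩) (Fin.succ_ne_zero _).symm x y hx0 hy0
  obtain ⟨g, hg, h⟩ := X.E₁.lift A
  exact ⟨g, X.E₁.le_normalizer hg, by rw [h, hA]⟩

include X in
theorem elem₁ : Cfsg.IsElementaryAbelian 2 W₁ :=
  ⟨⟨⟨fun a b => Subtype.ext (X.E₁.ab a a.2 b b.2)⟩⟩, fun a ha => by rw [pow_two]; exact X.E₁.sq ha⟩

/-- `|F| = 2`, or `|F| ≥ 4` and (`k ≥ 2` or `|F| ≥ 8`). -/
def Good (F : Type*) [Field F] (k : ℕ) : Prop :=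
  (∀ c : F, c = 0 ∨ c = 1) ∨ (4 ≤ Nat.card F ∧ (2 ≤ k ∨ 8 ≤ Nat.card F))

include X in
/-- Control at one element. -/
theorem exists_control (hk : 1 ≤ k) (hg : Good F k) {S : Sylow 2 G} (hS : (S : Subgroup G) ≤ normalizer (R : Set G))
    (hC : ∀ r ∈ R, r ≠ 1 → (∀ s ∈ (S : Subgroup G), s * r = r * s) → CTwoAt r) :
    ∃ r ∈ R, r ≠ 1 ∧ (centralizer ({r} : Set G) ≤ normalizer (W₁ : Set G) ∨
      centralizer ({r} : Set G) ≤ normalizer (W₂ : Set G)) := by
  have : Fact (Nat.Prime 2) := ⟨Nat.prime_two⟩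
  have hRp : IsPGroup 2 R := X.E₁.isPGroup.to_le X.R_le₁
  have hR1 : (⊥ : Subgroup G) ≠ R := by
    intro h
    have h1 : X.E₁.e (Pi.single 0 1) ∈ (⊥ : Subgroup G) := h.ge ((X.mem_R _).2 ⟨1, rfl⟩)
    rw [mem_bot, ← X.E₁.e_zero] at h1
    have := congrFun (X.E₁.e_inj h1) 0
    simp at this
  obtain ⟨r, hr, hr1, hrS⟩ := CtlAbs.exists_fixed_mod (p := 2) hRp S.isPGroup' bot_le hR1 hS
    (by rw [normalizer_eq_top_iff.2 inferInstance]; exact le_top) (by rw [normalizer_eq_top_iff.2 inferInstance]; exact le_top)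
  rw [mem_bot] at hr1
  have hrS' : ∀ s ∈ (S : Subgroup G), s * r = r * s := fun s hs => by
    have := hrS s hs
    rw [mem_bot, mul_inv_eq_one, mul_inv_eq_iff_eq_mul] at this
    exact this
  refine ⟨r, hr, hr1, ?_⟩
  rcases hg with hF | ⟨hq, hkq⟩
  · exact Or.inl (X.control_two hF hr hr1)
  · obtain ⟨O, hO, hOK, hOn, hOc⟩ := hC r hr hr1 hrS'
    have hSr : (S : Subgroup G) ≤ centralizer ({r} : Set G) := fun s hs => by
      rw [mem_centralizer_iff]
      rintro x rfl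
      exact (hrS' s hs).symm
    have hSO : (S : Subgroup G) ≤ normalizer (O : Set G) := fun s hs => by
      rw [mem_normalizer_iff]
      refine fun o => ⟨hOn s (hSr hs) o, fun h => ?_⟩
      have h1 := hOn s⁻¹ (inv_mem (hSr hs)) _ h
      have e : s⁻¹ * (s * o * s⁻¹) * s⁻¹⁻¹ = o := by group
      rwa [e] at h1
    exact X.control hk hq hkq hr hr1 hO (le_trans (le_sylow hO hSO) hS) hOK hOn hOc

include X in
/-- The hypotheses of the closing by TI-subgroups. -/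
theorem exists_ti (hk : 1 ≤ k) (hg : Good F k) {S : Sylow 2 G} (hS : (S : Subgroup G) ≤ normalizer (R : Set G))
    (hC : ∀ r ∈ R, r ≠ 1 → (∀ s ∈ (S : Subgroup G), s * r = r * s) → CTwoAt r) :
    ∃ A : Subgroup G, (A = W₁ ∨ A = W₂) ∧ Cfsg.IsElementaryAbelian 2 A ∧ centralizer (A : Set G) ≤ A ∧
      (∀ x ∈ A, ∀ y ∈ A, x ≠ 1 → y ≠ 1 → ∃ n ∈ normalizer (A : Set G), n * x * n⁻¹ = y) ∧
      ∃ a ∈ A, a ≠ 1 ∧ centralizer ({a} : Set G) ≤ normalizer (A : Set G) := by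
  obtain ⟨r, hr, hr1, h | h⟩ := X.exists_control hk hg hS hC
  · exact ⟨W₁, Or.inl rfl, X.elem₁, X.cen_le₁, X.trans₁ hk, r, X.R_le₁ hr, hr1, h⟩
  · exact ⟨W₂, Or.inr rfl, X.symm.elem₁, X.symm.cen_le₁, X.symm.trans₁ hk, r, X.R_le₂ hr, hr1, h⟩

end Out

end Cfsg.Agent.Omega.Lin
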