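import Cfsg.Agent.Omega.Lin.Dual

/-!
# THEOREM LIN (4): the `F`-structure on `W`, semi-invariant under `N(V)`
-/

set_option autoImplicit false
set_option linter.unusedSectionVars false

namespace Cfsg.Agent.Omega.Lin

open Subgroup BTwo

variable {G : Type*} [Group G] {F : Type*} [Field F] {V V' : Subgroup G}
  [Finite G] [Finite F] [CharP F 2] {M : NatPair.NatMod F V} {M' : NatPair.NatMod F V'} {R O O' : Subgroup G}

/-- `z = l y` -/
def Sc (M : NatPair.NatMod F V) (W W' : Subgroup G) (x : G) (l : F) (y z : G) : Prop :=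
  z ∈ W ∧ (∀ w ∈ W', P M w z = l * P M w y) ∧ ∀ w ∈ W', P M w (x⁻¹ * z * x) = l * P M w (x⁻¹ * y * x)

/-- the scalar multiplication on `W` -/
noncomputable def sm (M : NatPair.NatMod F V) (W W' : Subgroup G) (x : G) (l : F) (y : G) : G :=
  open Classical in if h : ∃ z, Sc M W W' x l y z then h.choose else 1

namespace Ctx

variable (c : Ctx M M' R O O')
include c

theorem nVW : normalizer (V : Set G) ≤ normalizer (WW V R : Set G) := by
  rw [c.O_eq]; exact c.nV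

theorem nVW_conj {n y : G} (hn : n ∈ normalizer (V : Set G)) (hy : y ∈ WW V R) : n * y * n⁻¹ ∈ WW V R :=
  conj_mem_of_normalizer (c.nVW hn) hy

theorem nVW_conj' {n y : G} (hn : n ∈ normalizer (V : Set G)) (hy : y ∈ WW V R) : n⁻¹ * y * n ∈ WW V R :=
  conj_inv_mem_of_normalizer (c.nVW hn) hy

/-- `[W', W] ≤ R`, additivity -/
theorem Pm {w y z : G} (hw : w ∈ WW V' R) (hy : y ∈ WW V R) (hz : z ∈ WW V R) : P M w (y * z) = P M w y + P M w z :=
  c.P_mul (c.WQ' hw (c.W_Q hy)) (c.WQ' hw (c.W_Q hz)) (c.W_Q hy)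

theorem Pm' {w v y : G} (hw : w ∈ WW V' R) (hv : v ∈ WW V' R) (hy : y ∈ WW V R) : P M (w * v) y = P M w y + P M v y :=
  c.mul_P (c.WQ' hw (c.W_Q hy)) (c.WQ' hv (c.W_Q hy)) (c.symm.W_Q hw)

theorem PR {w y : G} (hw : w ∈ WW V' R) (hy : y ∈ R) : P M w y = 0 := by
  rw [c.P_eq_zero_iff (c.WQ' hw (c.W_Q (c.R_W hy)))]
  exact c.Q_R (c.symm.W_Q hw) hy

theorem PV {w : G} (hw : w ∈ WW V' R) (a b : F) : P M w (vv M a b) = P M w (vv M 0 1) * b := c.P_vv (c.symm.W_Q hw) a b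

theorem PV' {y : G} (hy : y ∈ WW V R) (a b : F) : P M (vv M' a b) y = P M (vv M' 0 1) y * b := by
  have h1 : ∀ a b, vv M' a b ∈ WW V' R := fun a b => c.symm.V_W (vv_mem M' a b)
  rw [c.P_comm (c.WQ' (h1 a b) (c.W_Q hy)), c.P_vv' (c.W_Q hy), c.P_comm (c.WQ (hy) (c.symm.W_Q (h1 0 1)))]

/-- an element of `W'` commutes with `V` iff `P w (vv 0 1) = 0` -/
theorem comV {w : G} (hw : w ∈ WW V' R) (h : P M w (vv M 0 1) = 0) : ∀ v ∈ V, w * v = v * w := by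
  intro v hv
  obtain ⟨a, b, rfl⟩ := exists_vv M hv
  rw [← c.P_eq_zero_iff (c.WQ' hw (c.V_Q hv)), c.PV hw, h, zero_mul]

theorem comV' {w : G} (h : ∀ v ∈ V, w * v = v * w) {v : G} (hv : v ∈ V) : P M w v = 0 := by
  unfold P
  rw [h v hv, mul_inv_cancel_right, mul_inv_cancel, c.cf_one]

/-- `C_W(C_{W'}(V)) = V` -/
theorem mem_V_of_cen {u : G} (hu : u ∈ WW V R) (h : ∀ w ∈ WW V' R, (∀ v ∈ V, w * v = v * w) → P M w u = 0) : u ∈ V := by
  set s := P M (vv M' 0 1) u with hs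
  have hv : vv M 0 s ∈ WW V R := c.V_W (vv_mem M 0 s)
  have h1 : u * vv M 0 s ∈ R := by
    apply c.mem_R_of_cen' (mul_mem hu hv)
    intro w hw
    set t := P M w (vv M 0 1) with ht
    have ha : vv M' 0 t ∈ WW V' R := c.symm.V_W (vv_mem M' 0 t)
    have h2 : P M (vv M' 0 t * w) u = 0 := by
      apply h _ (mul_mem ha hw)
      apply c.comV (mul_mem ha hw)
      rw [c.Pm' ha hw (c.V_W (vv_mem M 0 1)), c.P_base, mul_one, ← ht, CharTwo.add_self_eq_zero]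
    rw [c.Pm' ha hw hu, c.PV' hu, ← hs] at h2
    rw [c.Pm hw hu hv, c.PV hw, ← ht, mul_comm t s, add_comm]
    exact h2
  have e : u = (u * vv M 0 s) * vv M 0 s := by rw [mul_assoc, vv_sq, mul_one]
  rw [e]
  exact mul_mem (c.R_V h1) (vv_mem M 0 s)

/-- from the first to the second point -/
theorem swap {x : G} (hx : Wl M x) {w : G} (hw : w ∈ WW V' R) (hwV : ∀ v ∈ V, w * v = v * w) :
    ∃ k ∈ WW V' R, (∀ v ∈ V, k * v = v * k) ∧ ∀ y ∈ O, P M k (x⁻¹ * y * x) = P M w y := by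
  have ha : vv M' 0 1 ∈ WW V' R := c.symm.V_W (vv_mem M' 0 1)
  have hw' : ∀ v ∈ V, (x⁻¹ * w * x) * v = v * (x⁻¹ * w * x) := by
    intro v hv
    have h1 := hwV _ (conj_mem_of_normalizer hx.mem hv)
    calc x⁻¹ * w * x * v = x⁻¹ * (w * (x * v * x⁻¹)) * x := by group
      _ = x⁻¹ * (x * v * x⁻¹ * w) * x := by rw [h1]
      _ = v * (x⁻¹ * w * x) := by group
  have hn := c.nR_of_cen hw'
  set k := vv M' 0 1 * ((x⁻¹ * w * x) * (vv M' 0 1)⁻¹ * (x⁻¹ * w * x)⁻¹) with hk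
  have hkW : k ∈ WW V' R := mul_mem ha (c.symm.W_n hn (inv_mem ha))
  have hP : ∀ y ∈ O, P M k (x⁻¹ * y * x) = P M w y := by
    intro y hy
    have h1 := c.trick hx ha hw hwV hy
    rw [c.P_base, one_mul, one_mul] at h1
    have h2 := c.actX hx hkW hy
    have e : x * k * x⁻¹ = x * vv M' 0 1 * x⁻¹ * w * (x * vv M' 0 1 * x⁻¹)⁻¹ * w⁻¹ := by rw [hk]; group
    rw [e, h1] at h2
    exact ((vv_inj M (mul_right_cancel h2)).2).symm
  refine ⟨k, hkW, ?_, hP⟩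
  apply c.comV hkW
  have h1 := hP (vv M 1 0) (c.V_O (vv_mem M 1 0))
  rw [hx.inv] at h1
  rw [h1, c.comV' hwV (vv_mem M 1 0)]

theorem sc_unique {x : G} (hx : Wl M x) {l : F} {y z z' : G} (h : Sc M (WW V R) (WW V' R) x l y z)
    (h' : Sc M (WW V R) (WW V' R) x l y z') : z = z' := by
  have hz := h.1
  have hz' := h'.1
  have h1 : z * z' ∈ R := by
    apply c.mem_R_of_cen' (mul_mem hz hz')
    intro w hw
    rw [c.Pm hw hz hz', h.2.1 w hw, h'.2.1 w hw, CharTwo.add_self_eq_zero]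
  have h2 : x⁻¹ * (z * z') * x ∈ R := by
    apply c.mem_R_of_cen' (c.nVW_conj' hx.mem (mul_mem hz hz'))
    intro w hw
    have e : x⁻¹ * (z * z') * x = (x⁻¹ * z * x) * (x⁻¹ * z' * x) := by group
    rw [e, c.Pm hw (c.nVW_conj' hx.mem hz) (c.nVW_conj' hx.mem hz'), h.2.2 w hw, h'.2.2 w hw, CharTwo.add_self_eq_zero]
  obtain ⟨a, ha⟩ := (c.memR _).1 h1
  obtain ⟨b, hb⟩ := (c.memR _).1 h2
  rw [← ha, hx.inv] at hb
  have h3 := (vv_inj M hb).2
  rw [← h3, vv_zero] at ha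
  rw [← c.W_inv hz']
  exact eq_inv_of_mul_eq_one_left ha.symm

theorem sc_exists {x : G} (hx : Wl M x) (l : F) {y : G} (hy : y ∈ WW V R) : ∃ z, Sc M (WW V R) (WW V' R) x l y z := by
  obtain ⟨y0, hy0, h0⟩ := c.scal hy l
  obtain ⟨z', hz', h1⟩ := c.scal (c.nVW_conj' hx.mem hy) l
  have h0' : ∀ w ∈ WW V' R, P M w y0 = l * P M w y := fun w hw => by
    rw [c.P_comm (c.WQ' hw (c.W_Q hy0)), h0 w (c.symm.W_Q hw), c.P_comm (c.WQ' hw (c.W_Q hy))]
  have h1' : ∀ w ∈ WW V' R, P M w z' = l * P M w (x⁻¹ * y * x) := fun w hw => by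
    rw [c.P_comm (c.WQ' hw (c.W_Q hz')), h1 w (c.symm.W_Q hw), c.P_comm (c.WQ' hw (c.W_Q (c.nVW_conj' hx.mem hy)))]
  set y1 := x * z' * x⁻¹ with hy1
  have hy1W : y1 ∈ WW V R := c.nVW_conj hx.mem hz'
  have e1 : x⁻¹ * y1 * x = z' := by rw [hy1]; group
  have hV : y0 * y1 ∈ V := by
    apply c.mem_V_of_cen (mul_mem hy0 hy1W)
    intro w hw hwV
    obtain ⟨k, hk, -, hkP⟩ := c.swap hx hw hwV
    rw [c.Pm hw hy0 hy1W, h0' w hw, ← hkP y1 (c.W_O hy1W), e1, h1' k hk, hkP y (c.W_O hy), CharTwo.add_self_eq_zero]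
  obtain ⟨p, q, hpq⟩ := exists_vv M hV
  have hp : vv M p 0 ∈ WW V R := c.V_W (vv_mem M p 0)
  refine ⟨y0 * vv M p 0, mul_mem hy0 hp, fun w hw => ?_, fun w hw => ?_⟩
  · rw [c.Pm hw hy0 hp, c.PR hw (c.R_mem p), add_zero, h0' w hw]
  · have e2 : y0 * vv M p 0 = y1 * vv M 0 q := by
      have e3 : y0 = y1 * vv M p q := by
        rw [hpq, c.W_comm hy0 hy1W, ← mul_assoc, c.W_sq hy1W, one_mul]
      rw [e3, mul_assoc, vv_mul, CharTwo.add_self_eq_zero, add_zero]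
    have e4 : x⁻¹ * (y1 * vv M 0 q) * x = z' * vv M q 0 := by
      rw [← hx.inv 0 q, hy1]; group
    rw [e2, e4, c.Pm hw hz' (c.V_W (vv_mem M q 0)), c.PR hw (c.R_mem q), add_zero, h1' w hw]

/-! ### the scalar multiplication -/

theorem sm_spec {x : G} (hx : Wl M x) (l : F) {y : G} (hy : y ∈ WW V R) :
    Sc M (WW V R) (WW V' R) x l y (sm M (WW V R) (WW V' R) x l y) := by
  have h := c.sc_exists hx l hy
  rw [sm, dif_pos h]
  exact h.choose_spec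

theorem sm_eq {x : G} (hx : Wl M x) {l : F} {y z : G} (hy : y ∈ WW V R) (h : Sc M (WW V R) (WW V' R) x l y z) :
    sm M (WW V R) (WW V' R) x l y = z := c.sc_unique hx (c.sm_spec hx l hy) h

theorem sm_mem {x : G} (hx : Wl M x) (l : F) {y : G} (hy : y ∈ WW V R) : sm M (WW V R) (WW V' R) x l y ∈ WW V R :=
  (c.sm_spec hx l hy).1

theorem sm_P {x : G} (hx : Wl M x) (l : F) {y w : G} (hy : y ∈ WW V R) (hw : w ∈ WW V' R) :
    P M w (sm M (WW V R) (WW V' R) x l y) = l * P M w y := (c.sm_spec hx l hy).2.1 w hw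

theorem sm_Px {x : G} (hx : Wl M x) (l : F) {y w : G} (hy : y ∈ WW V R) (hw : w ∈ WW V' R) :
    P M w (x⁻¹ * sm M (WW V R) (WW V' R) x l y * x) = l * P M w (x⁻¹ * y * x) := (c.sm_spec hx l hy).2.2 w hw

theorem sm_mul {x : G} (hx : Wl M x) (l : F) {y z : G} (hy : y ∈ WW V R) (hz : z ∈ WW V R) :
    sm M (WW V R) (WW V' R) x l (y * z) = sm M (WW V R) (WW V' R) x l y * sm M (WW V R) (WW V' R) x l z := by
  apply c.sm_eq hx (mul_mem hy hz)
  refine ⟨mul_mem (c.sm_mem hx l hy) (c.sm_mem hx l hz), fun w hw => ?_, fun w hw => ?_⟩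
  · rw [c.Pm hw (c.sm_mem hx l hy) (c.sm_mem hx l hz), c.sm_P hx l hy hw, c.sm_P hx l hz hw, c.Pm hw hy hz, mul_add]
  · have e : ∀ u v : G, x⁻¹ * (u * v) * x = (x⁻¹ * u * x) * (x⁻¹ * v * x) := fun u v => by group
    rw [e, e, c.Pm hw (c.nVW_conj' hx.mem (c.sm_mem hx l hy)) (c.nVW_conj' hx.mem (c.sm_mem hx l hz)),
      c.sm_Px hx l hy hw, c.sm_Px hx l hz hw, c.Pm hw (c.nVW_conj' hx.mem hy) (c.nVW_conj' hx.mem hz), mul_add]

theorem sm_add {x : G} (hx : Wl M x) (l m : F) {y : G} (hy : y ∈ WW V R) :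
    sm M (WW V R) (WW V' R) x (l + m) y = sm M (WW V R) (WW V' R) x l y * sm M (WW V R) (WW V' R) x m y := by
  apply c.sm_eq hx hy
  refine ⟨mul_mem (c.sm_mem hx l hy) (c.sm_mem hx m hy), fun w hw => ?_, fun w hw => ?_⟩
  · rw [c.Pm hw (c.sm_mem hx l hy) (c.sm_mem hx m hy), c.sm_P hx l hy hw, c.sm_P hx m hy hw, add_mul]
  · have e : ∀ u v : G, x⁻¹ * (u * v) * x = (x⁻¹ * u * x) * (x⁻¹ * v * x) := fun u v => by group
    rw [e, c.Pm hw (c.nVW_conj' hx.mem (c.sm_mem hx l hy)) (c.nVW_conj' hx.mem (c.sm_mem hx m hy)),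
      c.sm_Px hx l hy hw, c.sm_Px hx m hy hw, add_mul]

theorem sm_sm {x : G} (hx : Wl M x) (l m : F) {y : G} (hy : y ∈ WW V R) :
    sm M (WW V R) (WW V' R) x l (sm M (WW V R) (WW V' R) x m y) = sm M (WW V R) (WW V' R) x (l * m) y := by
  apply c.sm_eq hx (c.sm_mem hx m hy)
  refine ⟨c.sm_mem hx _ hy, fun w hw => ?_, fun w hw => ?_⟩
  · rw [c.sm_P hx _ hy hw, c.sm_P hx _ hy hw, mul_assoc]
  · rw [c.sm_Px hx _ hy hw, c.sm_Px hx _ hy hw, mul_assoc]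

theorem sm_one {x : G} (hx : Wl M x) {y : G} (hy : y ∈ WW V R) : sm M (WW V R) (WW V' R) x 1 y = y := by
  apply c.sm_eq hx hy
  exact ⟨hy, fun w hw => by rw [one_mul], fun w hw => by rw [one_mul]⟩

theorem sm_e {x : G} (hx : Wl M x) (l : F) : sm M (WW V R) (WW V' R) x l 1 = 1 := by
  have h := c.sm_mul hx l (one_mem (WW V R)) (one_mem (WW V R))
  rw [mul_one] at h
  exact left_eq_mul.1 h

theorem sm_zero {x : G} (hx : Wl M x) {y : G} (hy : y ∈ WW V R) : sm M (WW V R) (WW V' R) x 0 y = 1 := by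
  have h := c.sm_add hx 0 0 hy
  rw [add_zero] at h
  exact left_eq_mul.1 h

theorem sm_vv {x : G} (hx : Wl M x) (l a b : F) : sm M (WW V R) (WW V' R) x l (vv M a b) = vv M (l * a) (l * b) := by
  apply c.sm_eq hx (c.V_W (vv_mem M a b))
  refine ⟨c.V_W (vv_mem M _ _), fun w hw => ?_, fun w hw => ?_⟩
  · rw [c.PV hw, c.PV hw a b]; ring
  · rw [hx.inv, hx.inv, c.PV hw, c.PV hw b a]; ring

/-- `W'` acts linearly -/
theorem sm_conj {x : G} (hx : Wl M x) (l : F) {y w : G} (hy : y ∈ WW V R) (hw : w ∈ WW V' R) :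
    w * sm M (WW V R) (WW V' R) x l y * w⁻¹ = sm M (WW V R) (WW V' R) x l (w * y * w⁻¹) := by
  rw [c.actW hw (c.W_O (c.sm_mem hx l hy)), c.actW hw (c.W_O hy), c.sm_mul hx l (c.V_W (vv_mem M _ _)) hy,
    c.sm_vv hx, c.sm_P hx l hy hw, mul_zero]

/-- `x W' x⁻¹` acts linearly -/
theorem sm_conjx {x : G} (hx : Wl M x) (l : F) {y w : G} (hy : y ∈ WW V R) (hw : w ∈ WW V' R) :
    (x * w * x⁻¹) * sm M (WW V R) (WW V' R) x l y * (x * w * x⁻¹)⁻¹ =
      sm M (WW V R) (WW V' R) x l ((x * w * x⁻¹) * y * (x * w * x⁻¹)⁻¹) := by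
  rw [c.actX hx hw (c.W_O (c.sm_mem hx l hy)), c.actX hx hw (c.W_O hy), c.sm_mul hx l (c.V_W (vv_mem M _ _)) hy,
    c.sm_vv hx, c.sm_Px hx l hy hw, mul_zero]

end Ctx

/-- the elements which act linearly on `W` -/
def LL (M : NatPair.NatMod F V) (W W' : Subgroup G) (x : G) : Subgroup G where
  carrier := {g | g ∈ normalizer (W : Set G) ∧ ∀ l, ∀ y ∈ W, g * sm M W W' x l y * g⁻¹ = sm M W W' x l (g * y * g⁻¹)}
  one_mem' := ⟨one_mem _, fun l y _ => by simp⟩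
  mul_mem' := by
    rintro g h ⟨hg, hg'⟩ ⟨hh, hh'⟩
    refine ⟨mul_mem hg hh, fun l y hy => ?_⟩
    have e : ∀ u : G, g * h * u * (g * h)⁻¹ = g * (h * u * h⁻¹) * g⁻¹ := fun u => by group
    rw [e, e, hh' l y hy, hg' l _ (conj_mem_of_normalizer hh hy)]
  inv_mem' := by
    rintro g ⟨hg, hg'⟩
    refine ⟨inv_mem hg, fun l y hy => ?_⟩
    have hy' : g⁻¹ * y * g⁻¹⁻¹ ∈ W := conj_mem_of_normalizer (inv_mem hg) hy
    have h1 := hg' l _ hy'
    have e : g * (g⁻¹ * y * g⁻¹⁻¹) * g⁻¹ = y := by group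
    rw [e] at h1
    rw [← h1]; group

namespace Ctx

variable (c : Ctx M M' R O O')
include c

theorem nW_of_act {g : G} (h : ∀ y ∈ WW V R, ∃ v ∈ V, g * y * g⁻¹ = v * y) : g ∈ normalizer (WW V R : Set G) := by
  apply mem_normalizer_of_conj
  intro y hy
  obtain ⟨v, hv, e⟩ := h y hy
  rw [e]
  exact mul_mem (c.V_W hv) hy

theorem W'_LL {x : G} (hx : Wl M x) {w : G} (hw : w ∈ WW V' R) : w ∈ LL M (WW V R) (WW V' R) x :=
  ⟨c.nW_of_act fun y hy => ⟨_, vv_mem M _ _, c.actW hw (c.W_O hy)⟩, fun l y hy => c.sm_conj hx l hy hw⟩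

theorem xW'_LL {x : G} (hx : Wl M x) {w : G} (hw : w ∈ WW V' R) : x * w * x⁻¹ ∈ LL M (WW V R) (WW V' R) x :=
  ⟨c.nW_of_act fun y hy => ⟨_, vv_mem M _ _, c.actX hx hw (c.W_O hy)⟩, fun l y hy => c.sm_conjx hx l hy hw⟩

theorem W'_nV {w : G} (hw : w ∈ WW V' R) : w ∈ normalizer (V : Set G) := by
  apply mem_normalizer_of_conj
  intro v hv
  rw [c.actW hw (c.V_O hv)]
  exact mul_mem (vv_mem M _ _) hv

theorem xW'_nV {x : G} (hx : Wl M x) {w : G} (hw : w ∈ WW V' R) : x * w * x⁻¹ ∈ normalizer (V : Set G) := by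
  apply mem_normalizer_of_conj
  intro v hv
  rw [c.actX hx hw (c.V_O hv)]
  exact mul_mem (vv_mem M _ _) hv

/-- conjugates of `W'` under `N(V)` -/
theorem conj_W' {x : G} (hx : Wl M x) {n w : G} (hn : n ∈ normalizer (V : Set G)) (hw : w ∈ WW V' R) :
    n * w * n⁻¹ ∈ WW V' R ∨ ∃ a ∈ WW V' R, ∃ w' ∈ WW V' R, n * w * n⁻¹ = a * (x * w' * x⁻¹) * a⁻¹ := by
  obtain ⟨α, β, hαβ⟩ := exists_vv M (conj_mem_of_normalizer hn (vv_mem M 1 0))
  by_cases hβ : β = 0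
  · rw [hβ] at hαβ
    have hnR : n ∈ normalizer (R : Set G) := c.mem_nR hn one_ne_zero hαβ.symm
    exact Or.inl (c.symm.W_n hnR hw)
  · right
    set a2 := vv M' 0 (α / β) with ha2
    have ha2W : a2 ∈ WW V' R := c.symm.V_W (vv_mem M' 0 _)
    have ha2V := c.W'_nV ha2W
    have hact3 : ∀ a b, a2 * vv M a b * a2⁻¹ = vv M (a + α / β * b) b := fun a b => by
      rw [c.act (c.symm.W_Q ha2W), ha2, c.P_base, mul_one]
    have h1 : (a2 * x) * vv M β 0 * (a2 * x)⁻¹ = vv M α β := by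
      calc (a2 * x) * vv M β 0 * (a2 * x)⁻¹ = a2 * (x * vv M β 0 * x⁻¹) * a2⁻¹ := by group
        _ = vv M α β := by
          rw [hx.conj, hact3, zero_add]
          congr 1
          field_simp
    have h2 : (a2 * x)⁻¹ * n ∈ normalizer (R : Set G) := by
      refine c.mem_nR (mul_mem (inv_mem (mul_mem ha2V hx.mem)) hn) (a := 1) (b := β) one_ne_zero ?_
      calc (a2 * x)⁻¹ * n * vv M 1 0 * ((a2 * x)⁻¹ * n)⁻¹ = (a2 * x)⁻¹ * (n * vv M 1 0 * n⁻¹) * (a2 * x) := by group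
        _ = (a2 * x)⁻¹ * ((a2 * x) * vv M β 0 * (a2 * x)⁻¹) * (a2 * x) := by rw [← hαβ, h1]
        _ = vv M β 0 := by group
    exact ⟨a2, ha2W, (a2 * x)⁻¹ * n * w * ((a2 * x)⁻¹ * n)⁻¹, c.symm.W_n h2 hw, by group⟩

theorem conj_W'_LL {x : G} (hx : Wl M x) {n w : G} (hn : n ∈ normalizer (V : Set G)) (hw : w ∈ WW V' R) :
    n * w * n⁻¹ ∈ LL M (WW V R) (WW V' R) x := by
  rcases c.conj_W' hx hn hw with h | ⟨a, ha, w', hw', e⟩
  · exact c.W'_LL hx h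
  · rw [e]
    exact mul_mem (mul_mem (c.W'_LL hx ha) (c.xW'_LL hx hw')) (inv_mem (c.W'_LL hx ha))

/-- **`N(V)` is semilinear on `W`** -/
theorem semi_nV {x : G} (hx : Wl M x) {n : G} (hn : n ∈ normalizer (V : Set G)) {s : F ≃+* F}
    (hs : ∀ a b a' b' : F, n * vv M a b * n⁻¹ = vv M a' b' → ∀ t : F,
      n * vv M (t * a) (t * b) * n⁻¹ = vv M (s t * a') (s t * b')) (l : F) {y : G} (hy : y ∈ WW V R) :
    n * sm M (WW V R) (WW V' R) x l y * n⁻¹ = sm M (WW V R) (WW V' R) x (s l) (n * y * n⁻¹) := by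
  set f : G → G := fun y => n⁻¹ * sm M (WW V R) (WW V' R) x (s l) (n * y * n⁻¹) * n with hf
  have hfV : ∀ a b, f (vv M a b) = vv M (l * a) (l * b) := by
    intro a b
    obtain ⟨a', b', h⟩ := exists_vv M (conj_mem_of_normalizer hn (vv_mem M a b))
    have h1 := hs a b a' b' h.symm l
    rw [hf]
    dsimp only
    rw [← h, c.sm_vv hx, ← h1]; group
  have hfW : ∀ y ∈ WW V R, f y ∈ WW V R := fun y hy => c.nVW_conj' hn (c.sm_mem hx _ (c.nVW_conj hn hy))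
  have hfm : ∀ y ∈ WW V R, ∀ z ∈ WW V R, f (y * z) = f y * f z := by
    intro y hy z hz
    rw [hf]
    dsimp only
    have e : n * (y * z) * n⁻¹ = (n * y * n⁻¹) * (n * z * n⁻¹) := by group
    rw [e, c.sm_mul hx _ (c.nVW_conj hn hy) (c.nVW_conj hn hz)]; group
  have hfc : ∀ g, n * g * n⁻¹ ∈ LL M (WW V R) (WW V' R) x → ∀ y ∈ WW V R, g * f y * g⁻¹ = f (g * y * g⁻¹) := by
    intro g hg y hy
    have h1 := hg.2 (s l) (n * y * n⁻¹) (c.nVW_conj hn hy)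
    have e : n * (g * y * g⁻¹) * n⁻¹ = (n * g * n⁻¹) * (n * y * n⁻¹) * (n * g * n⁻¹)⁻¹ := by group
    rw [hf]
    dsimp only
    rw [e, ← h1]; group
  have h : sm M (WW V R) (WW V' R) x l y = f y := by
    apply c.sm_eq hx hy
    refine ⟨hfW y hy, fun w hw => ?_, fun w hw => ?_⟩
    · apply c.P_of
      rw [hfc w (c.conj_W'_LL hx hn hw) y hy, c.actW hw (c.W_O hy), hfm _ (c.V_W (vv_mem M _ _)) y hy, hfV, mul_zero]
    · have e : n * (x * w * x⁻¹) * n⁻¹ = (n * x) * w * (n * x)⁻¹ := by group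
      have h1 := hfc (x * w * x⁻¹) (by rw [e]; exact c.conj_W'_LL hx (mul_mem hn hx.mem) hw) y hy
      rw [c.actX hx hw (c.W_O hy), hfm _ (c.V_W (vv_mem M _ _)) y hy, hfV, c.actX hx hw (c.W_O (hfW y hy)),
        mul_zero] at h1
      exact (vv_inj M (mul_right_cancel h1)).2
  rw [h, hf]
  group

end Ctx

end Cfsg.Agent.Omega.Lin
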