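import Cfsg.Agent.Omega.Lin.TIClose
import Cfsg.Agent.WeakTI.Final
import Cfsg.Agent.S1175

/-!
Closing by LEMMA TI, with the main theorem on weakly closed TI subgroups (S1179) plugged in.
-/

set_option autoImplicit false

namespace Cfsg.Agent.Omega.TIPlug

open Cfsg Subgroup Cfsg.Agent.WeakTI.ReduceMain Cfsg.Agent.WeakTI.ReduceComponent

universe u

variable {G : Type u} [Group G] [Finite G]

/-- the main theorem on weakly closed TI subgroups -/
theorem main (A : Subgroup G) (h : Red A) : InList G :=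
  Cfsg.Agent.WeakTI.Final.main (fun X _ _ hs _ M hM z hz hzM h1 h2 h3 =>
    have : IsSimpleGroup X := hs
    Cfsg.Agent.S1175.result M hM z hz hzM h1 h2 h3) G A h

/-- **Closing by LEMMA TI**, list form. -/
theorem inList_of_trans [IsSimpleGroup G]
    (hna : ¬ IsMulCommutative G) {A : Subgroup G} (hA : Cfsg.IsElementaryAbelian 2 A)
    (hcent : centralizer (A : Set G) ≤ A)
    (htrans : ∀ x ∈ A, ∀ y ∈ A, x ≠ 1 → y ≠ 1 → ∃ n ∈ normalizer (A : Set G), n * x * n⁻¹ = y)
    {a : G} (haA : a ∈ A) (ha : a ≠ 1) (hca : centralizer ({a} : Set G) ≤ normalizer (A : Set G)) :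
    InList G :=
  TIClose.inList_of_trans main hna hA hcent htrans haA ha hca

/-- **Closing by LEMMA TI**. -/
theorem known_of_trans [IsSimpleGroup G]
    (hna : ¬ IsMulCommutative G) {A : Subgroup G} (hA : Cfsg.IsElementaryAbelian 2 A)
    (hcent : centralizer (A : Set G) ≤ A)
    (htrans : ∀ x ∈ A, ∀ y ∈ A, x ≠ 1 → y ≠ 1 → ∃ n ∈ normalizer (A : Set G), n * x * n⁻¹ = y)
    {a : G} (haA : a ∈ A) (ha : a ≠ 1) (hca : centralizer ({a} : Set G) ≤ normalizer (A : Set G)) :
    IsKnownSimple' G :=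
  TIClose.known_of_trans main hna hA hcent htrans haA ha hca

end Cfsg.Agent.Omega.TIPlug
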