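import Cfsg.Agent.Omega.Lin.Mod
import Cfsg.Agent.Omega.Lin.OutDef

/-!
# THEOREM LIN: the output `Out F k W W' L L' R Q`
-/

set_option autoImplicit false
set_option linter.unusedSectionVars false

namespace Cfsg.Agent.Omega.Lin

open Subgroup BTwo

variable {G : Type*} [Group G] {F : Type*} [Field F] {V V' : Subgroup G}
  [Finite G] [Finite F] [CharP F 2] {M : NatPair.NatMod F V} {M' : NatPair.NatMod F V'} {R O O' : Subgroup G}

/-- a basis starting with a given vector -/
theorem exists_equiv {A : Type*} [AddCommGroup A] [Module F A] [Finite A] {v : A} (hv : v ≠ 0) :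
    ∃ k : ℕ, ∃ e : (Fin (k + 1) → F) ≃ₗ[F] A, e (Pi.single 0 1) = v := by
  have : Module.Finite F A := Module.Finite.of_finite
  obtain ⟨C, hC⟩ := Submodule.exists_isCompl (Submodule.span F {v})
  let b := Module.finBasis F C
  set k := Module.finrank F C with hk
  refine ⟨k, ?_⟩
  let f : (Fin (k + 1) → F) →ₗ[F] A :=
    { toFun := fun x => x 0 • v + ∑ i : Fin k, x i.succ • (b i : A)
      map_add' := fun x y => by
        simp only [Pi.add_apply, add_smul, Finset.sum_add_distrib]
        abel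
      map_smul' := fun c x => by
        simp only [Pi.smul_apply, smul_eq_mul, mul_smul, RingHom.id_apply, smul_add, Finset.smul_sum] }
  have hsumC : ∀ x : Fin k → F, ∑ i : Fin k, x i • (b i : A) = ((∑ i : Fin k, x i • b i : C) : A) := fun x => by
    simp
  have hinj : Function.Injective f := by
    rw [← LinearMap.ker_eq_bot, LinearMap.ker_eq_bot']
    intro x hx
    change x 0 • v + ∑ i : Fin k, x i.succ • (b i : A) = 0 at hx
    rw [hsumC fun i => x i.succ] at hx
    have h1 : x 0 • v ∈ Submodule.span F {v} := Submodule.smul_mem _ _ (Submodule.mem_span_singleton_self v)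
    have h2 : x 0 • v ∈ C := by
      rw [eq_neg_of_add_eq_zero_left hx]
      exact neg_mem (Subtype.mem _)
    have h3 : x 0 • v = 0 := by
      have := hC.disjoint.le_bot ⟨h1, h2⟩
      exact (Submodule.mem_bot F).1 this
    have h4 : x 0 = 0 := (smul_eq_zero.1 h3).resolve_right hv
    rw [h3, zero_add] at hx
    have h5 : ∑ i : Fin k, x i.succ • b i = 0 := Subtype.ext hx
    have h6 := Fintype.linearIndependent_iff.1 b.linearIndependent _ h5
    funext i
    refine Fin.cases h4 (fun i => h6 i) i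
  have hsurj : Function.Surjective f := by
    intro a
    obtain ⟨u, hu, w, hw, rfl⟩ := Submodule.mem_sup.1 (show a ∈ Submodule.span F {v} ⊔ C by rw [hC.sup_eq_top]; trivial)
    obtain ⟨d, rfl⟩ := Submodule.mem_span_singleton.1 hu
    refine ⟨Fin.cons d (b.equivFun ⟨w, hw⟩), ?_⟩
    change (Fin.cons d (b.equivFun ⟨w, hw⟩) : Fin (k + 1) → F) 0 • v +
      ∑ i : Fin k, (Fin.cons d (b.equivFun ⟨w, hw⟩) : Fin (k + 1) → F) i.succ • (b i : A) = _
    simp only [Fin.cons_zero, Fin.cons_succ]
    rw [hsumC fun i => b.equivFun ⟨w, hw⟩ i, b.sum_equivFun]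
  refine ⟨LinearEquiv.ofBijective f ⟨hinj, hsurj⟩, ?_⟩
  change (Pi.single 0 1 : Fin (k + 1) → F) 0 • v + ∑ i : Fin k, (Pi.single 0 1 : Fin (k + 1) → F) i.succ • (b i : A) = v
  simp

section

variable (c : Ctx M M' R O O') {x : G} (hx : Wl M x)

/-- **SL** -/
theorem exists_SL {n : ℕ} : letI := acW c; letI := mdW c hx;
    ∀ (e : (Fin n → F) ≃ₗ[F] Additive ↥(WW V R)) (A : Matrix.SpecialLinearGroup (Fin n) F),
      ∃ g ∈ normalizer (V : Set G) ⊔ normalizer (R : Set G), ∀ z : Fin n → F, g * cv (e z) * g⁻¹ = cv (e (A.1.mulVec z)) := by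
  let _ := acW c
  let _ := mdW c hx
  intro e A
  have hL : normalizer (V : Set G) ⊔ normalizer (R : Set G) ≤ normalizer (WW V R : Set G) := fun g hg =>
    (c.L_SS hx hg).1
  have hR1 : vv M 1 0 ∈ WW V R := c.V_W (vv_mem M 1 0)
  have hs : Mix.SLn.Semi F (rpW c (normalizer (V : Set G) ⊔ normalizer (R : Set G)) hL) := by
    intro g
    obtain ⟨-, s, hs⟩ := c.L_SS hx g.2
    exact ⟨s, fun l a => cv_inj (hs l (cv a) (cv_mem a))⟩
  have hr : Mix.SLn.Tv F (rpW c (normalizer (V : Set G) ⊔ normalizer (R : Set G)) hL) (vc (vv M 1 0) hR1) := by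
    intro f hf
    obtain ⟨w, hw, h⟩ := exists_fnW c hx f (by
      intro r hr
      obtain ⟨t, rfl⟩ := (c.memR r).1 hr
      have e1 : vc (vv M t 0) (c.R_W hr) = t • vc (vv M 1 0) hR1 := by
        apply cv_inj
        change vv M t 0 = sm M (WW V R) (WW V' R) x t (vv M 1 0)
        rw [c.sm_vv hx, mul_one, mul_zero]
      rw [e1, map_smul, hf, smul_zero])
    refine ⟨⟨w, c.W'_L hw⟩, fun a => cv_inj ?_⟩
    change w * cv a * w⁻¹ = cv a * sm M (WW V R) (WW V' R) x (f a) (vv M 1 0)
    rw [← h, c.sm_vv hx, mul_one, mul_zero, c.actW hw (c.W_O (cv_mem a))]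
    exact c.W_comm (c.V_W (vv_mem M _ _)) (cv_mem a)
  have hspan : Submodule.span F {w | ∃ g : ↥(normalizer (V : Set G) ⊔ normalizer (R : Set G)),
      rpW c (normalizer (V : Set G) ⊔ normalizer (R : Set G)) hL g (vc (vv M 1 0) hR1) = w} = ⊤ := by
    set U := Submodule.span F {w | ∃ g : ↥(normalizer (V : Set G) ⊔ normalizer (R : Set G)),
      rpW c (normalizer (V : Set G) ⊔ normalizer (R : Set G)) hL g (vc (vv M 1 0) hR1) = w} with hU
    let T : Subgroup G :=
      { carrier := {y | ∃ hy : y ∈ WW V R, vc y hy ∈ U}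
        one_mem' := ⟨one_mem _, by
          have : vc 1 (one_mem (WW V R)) = (0 : Additive ↥(WW V R)) := rfl
          rw [this]; exact zero_mem _⟩
        mul_mem' := by
          rintro u v ⟨hu, hu'⟩ ⟨hv, hv'⟩
          refine ⟨mul_mem hu hv, ?_⟩
          have : vc (u * v) (mul_mem hu hv) = vc u hu + vc v hv := rfl
          rw [this]; exact add_mem hu' hv'
        inv_mem' := by
          rintro u ⟨hu, hu'⟩
          refine ⟨inv_mem hu, ?_⟩
          have : vc u⁻¹ (inv_mem hu) = - vc u hu := rfl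
          rw [this]; exact neg_mem hu' }
    have hT : WW V R ≤ T := by
      refine iSup_le fun h => cj_le_iff.2 fun v hv => ?_
      obtain ⟨a, b, rfl⟩ := exists_vv M hv
      have hmem : ∀ a b, (h : G) * vv M a b * (h : G)⁻¹ ∈ WW V R := fun a b =>
        c.W_n h.2 (c.V_W (vv_mem M a b))
      obtain ⟨s, hs⟩ := c.exists_sig h.2
      -- the two points
      have h1 : vc _ (hmem 1 0) ∈ U := by
        apply Submodule.subset_span
        exact ⟨⟨h, mem_sup_right h.2⟩, rfl⟩
      have h2 : vc _ (hmem 0 1) ∈ U := by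
        apply Submodule.subset_span
        refine ⟨⟨h * x, mul_mem (mem_sup_right h.2) (mem_sup_left hx.mem)⟩, cv_inj ?_⟩
        change (h : G) * x * vv M 1 0 * ((h : G) * x)⁻¹ = h * vv M 0 1 * (h : G)⁻¹
        rw [← hx.conj 1 0]; group
      refine ⟨hmem a b, ?_⟩
      have e1 : vc _ (hmem a b) = s a • vc _ (hmem 1 0) + s b • vc _ (hmem 0 1) := by
        apply cv_inj
        change (h : G) * vv M a b * (h : G)⁻¹ = sm M (WW V R) (WW V' R) x (s a) (h * vv M 1 0 * (h : G)⁻¹) *
          sm M (WW V R) (WW V' R) x (s b) (h * vv M 0 1 * (h : G)⁻¹)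
        rw [c.smV hx h.2 hs, c.smV hx h.2 hs, mul_one, mul_zero, mul_one, mul_zero]
        have e2 : (h : G) * vv M a 0 * (h : G)⁻¹ * (h * vv M 0 b * (h : G)⁻¹) = h * (vv M a 0 * vv M 0 b) * (h : G)⁻¹ := by
          group
        rw [e2, vv_mul, add_zero, zero_add]
      rw [e1]
      exact add_mem (Submodule.smul_mem _ _ h1) (Submodule.smul_mem _ _ h2)
    rw [eq_top_iff]
    intro a _
    obtain ⟨hy, h⟩ := hT (cv_mem a)
    exact h
  obtain ⟨g, hg⟩ := Mix.SLn.exists_of_equiv hs hr hspan e.symm A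
  refine ⟨g, g.2, fun z => ?_⟩
  have h1 := hg (e z)
  rw [e.symm_apply_apply, e.symm_apply_eq] at h1
  have h2 := congrArg cv h1
  exact h2

/-- the semilinear coordinates -/
theorem exists_semiMod {n : ℕ} : letI := acW c; letI := mdW c hx;
    ∀ (e : (Fin n → F) ≃ₗ[F] Additive ↥(WW V R)),
      ∃ E : SemiMod F n (WW V R) (normalizer (V : Set G) ⊔ normalizer (R : Set G)), ∀ z, E.e z = cv (e z) := by
  let _ := acW c
  let _ := mdW c hx
  intro e
  refine ⟨{ e := fun z => cv (e z), e_add := ?_, e_inj := ?_, mem_iff := ?_, semi := ?_, lift := ?_ }, fun z => rfl⟩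
  · intro z z'
    rw [map_add]
    rfl
  · intro z z' h
    exact e.injective (cv_inj h)
  · intro g
    constructor
    · intro hg
      exact ⟨e.symm (vc g hg), by rw [e.apply_symm_apply]; rfl⟩
    · rintro ⟨z, rfl⟩
      exact cv_mem _
  · intro g hg
    obtain ⟨hg1, s, hs⟩ := c.L_SS hx hg
    refine ⟨s, fun z => e.symm (vc (g * cv (e z) * g⁻¹) (conj_mem_of_normalizer hg1 (cv_mem _))), fun z => ?_, fun l z => ?_⟩
    · rw [e.apply_symm_apply]
      rfl
    · have hm : g * cv (e z) * g⁻¹ ∈ WW V R := conj_mem_of_normalizer hg1 (cv_mem _)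
      change e.symm (vc (g * cv (e (l • z)) * g⁻¹) (conj_mem_of_normalizer hg1 (cv_mem _))) =
        s l • e.symm (vc (g * cv (e z) * g⁻¹) hm)
      rw [← map_smul]
      congr 1
      apply cv_inj
      change g * cv (e (l • z)) * g⁻¹ = sm M (WW V R) (WW V' R) x (s l) (g * cv (e z) * g⁻¹)
      rw [← hs l _ (cv_mem _), map_smul]
      rfl
  · intro A
    exact exists_SL c hx e A

end

/-- **THEOREM LIN** -/
theorem exists_out (c : Ctx M M' R O O') :
    ∃ k : ℕ, 1 ≤ k ∧ Nonempty (Out F k (WW V R) (WW V' R) (normalizer (V : Set G) ⊔ normalizer (R : Set G))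
      (normalizer (V' : Set G) ⊔ normalizer (R : Set G)) R (QQ R)) := by
  obtain ⟨x, hx⟩ := c.exists_Wl
  obtain ⟨x', hx'⟩ := c.symm.exists_Wl
  let _ := acW c
  let _ := mdW c hx
  let _ : AddCommGroup (Additive ↥(WW V' R)) := acW c.symm
  let _ : Module F (Additive ↥(WW V' R)) := mdW c.symm hx'
  have hR1 : vv M 1 0 ∈ WW V R := c.V_W (vv_mem M 1 0)
  have hR1' : vv M' 1 0 ∈ WW V' R := c.symm.V_W (vv_mem M' 1 0)
  obtain ⟨k, e, he⟩ := exists_equiv (F := F) (v := vc (vv M 1 0) hR1) (by
    intro h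
    have h1 : vv M 1 0 = 1 := congrArg cv h
    rw [vv_eq_one] at h1
    exact one_ne_zero h1.1)
  -- the points of `R` in coordinates
  have hR : ∀ t, cv (e (Pi.single 0 t)) = vv M t 0 := by
    intro t
    have h1 : (Pi.single 0 t : Fin (k + 1) → F) = t • Pi.single 0 1 := by
      rw [← Pi.single_smul, smul_eq_mul, mul_one]
    rw [h1, map_smul, he]
    change sm M (WW V R) (WW V' R) x t (vv M 1 0) = _
    rw [c.sm_vv hx, mul_one, mul_zero]
  -- the dual basis
  have hdual : ∀ i : Fin k, ∃ w, ∃ hw : w ∈ WW V' R, ∀ z, P M w (cv (e z)) = z i.succ := by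
    intro i
    obtain ⟨w, hw, h⟩ := exists_fnW c hx ((LinearMap.proj i.succ).comp (e.symm : Additive ↥(WW V R) →ₗ[F] (Fin (k + 1) → F))) (by
      intro r hr
      obtain ⟨t, rfl⟩ := (c.memR r).1 hr
      have e1 : vc (vv M t 0) (c.R_W hr) = e (Pi.single 0 t) := cv_inj (hR t).symm
      rw [e1]
      simp)
    refine ⟨w, hw, fun z => ?_⟩
    have h1 := LinearMap.congr_fun h (e z)
    change P M w (cv (e z)) = (e.symm (e z)) i.succ at h1
    rw [h1, e.symm_apply_apply]
  choose d hd hdP using hdual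
  let f : (Fin (k + 1) → F) →ₗ[F] Additive ↥(WW V' R) :=
    { toFun := fun z => z 0 • vc (vv M' 1 0) hR1' + ∑ i : Fin k, z i.succ • vc (d i) (hd i)
      map_add' := fun x y => by
        simp only [Pi.add_apply, add_smul, Finset.sum_add_distrib]
        abel
      map_smul' := fun c x => by
        simp only [Pi.smul_apply, smul_eq_mul, mul_smul, RingHom.id_apply, smul_add, Finset.smul_sum] }
  -- the pairing in coordinates: the functional `[., y]` on `W'`
  have hpair : ∀ y z, P M (cv (f y)) (cv (e z)) = ∑ i : Fin k, z i.succ * y i.succ := by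
    intro y z
    have h1 : ∀ (a : Additive ↥(WW V' R)), P M (cv a) (cv (e z)) = fnW c.symm hx' (cv (e z)) (cv_mem _) a := by
      intro a
      change _ = P M' (cv (e z)) (cv a)
      rw [← c.P_symm, c.P_comm (c.WQ' (cv_mem a) (c.W_Q (cv_mem _)))]
    rw [h1]
    change fnW c.symm hx' (cv (e z)) (cv_mem _) (y 0 • vc (vv M' 1 0) hR1' + ∑ i : Fin k, y i.succ • vc (d i) (hd i)) = _
    rw [map_add, map_smul, map_sum, ← h1]
    have h2 : P M (cv (vc (vv M' 1 0) hR1')) (cv (e z)) = 0 := by
      change P M (vv M' 1 0) (cv (e z)) = 0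
      rw [← c.r, c.P_comm (c.QW (c.V_Q (vv_mem M 1 0)) (cv_mem _))]
      unfold P
      rw [c.W_comm (cv_mem _) (c.V_W (vv_mem M 1 0)), mul_inv_cancel_right, mul_inv_cancel, c.cf_one]
    rw [h2, smul_zero, zero_add]
    refine Finset.sum_congr rfl fun i _ => ?_
    rw [map_smul, ← h1]
    change y i.succ • P M (d i) (cv (e z)) = _
    rw [hdP, smul_eq_mul, mul_comm]
  have hR' : ∀ t, cv (f (Pi.single 0 t)) = vv M' t 0 := by
    intro t
    have h1 : f (Pi.single 0 t) = t • vc (vv M' 1 0) hR1' := by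
      change (Pi.single 0 t : Fin (k + 1) → F) 0 • vc (vv M' 1 0) hR1' +
        ∑ i : Fin k, (Pi.single 0 t : Fin (k + 1) → F) i.succ • vc (d i) (hd i) = _
      simp
    rw [h1]
    change sm M' (WW V' R) (WW V R) x' t (vv M' 1 0) = _
    rw [c.symm.sm_vv hx', mul_one, mul_zero]
  have hinj : Function.Injective f := by
    rw [← LinearMap.ker_eq_bot, LinearMap.ker_eq_bot']
    intro y hy
    have h1 : ∀ i : Fin k, y i.succ = 0 := by
      intro i
      have h2 := hpair y (Pi.single i.succ 1)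
      rw [hy] at h2
      have h3 : P M (cv (0 : Additive ↥(WW V' R))) (cv (e (Pi.single i.succ 1))) = 0 := c.one_P _
      rw [h3] at h2
      rw [h2, Finset.sum_eq_single i]
      · rw [Pi.single_eq_same, one_mul]
      · intro j _ hj
        rw [Pi.single_eq_of_ne (fun h => hj (Fin.succ_injective _ h)), zero_mul]
      · intro h; exact absurd (Finset.mem_univ i) h
    have h2 : y = Pi.single 0 (y 0) := by
      funext i
      refine Fin.cases ?_ (fun i => ?_) i
      · rw [Pi.single_eq_same]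
      · rw [h1 i, Pi.single_eq_of_ne (Fin.succ_ne_zero i)]
    have h3 : cv (f y) = vv M' (y 0) 0 := by rw [← hR', ← h2]
    rw [hy] at h3
    have h4 : vv M' (y 0) 0 = 1 := h3.symm
    rw [vv_eq_one] at h4
    rw [h2, h4.1, Pi.single_zero]
  have hcardF : Nat.card (Fin (k + 1) → F) = Nat.card (Additive ↥(WW V' R)) := by
    rw [Nat.card_congr e.toEquiv]
    exact c.card_W
  have hbij : Function.Bijective f := by
    rw [Nat.bijective_iff_injective_and_card]
    exact ⟨hinj, hcardF⟩
  let e' : (Fin (k + 1) → F) ≃ₗ[F] Additive ↥(WW V' R) := LinearEquiv.ofBijective f hbij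
  have he' : ∀ z, e' z = f z := fun z => rfl
  obtain ⟨E, hE⟩ := exists_semiMod c hx e
  obtain ⟨E', hE'⟩ := exists_semiMod c.symm hx' e'
  refine ⟨k, ?_, ⟨
    { E₁ := E
      E₂ := E'
      r_eq := ?_
      mem_R := ?_
      comm := ?_
      cen₁ := ?_
      cen₂ := ?_
      norm₁ := le_sup_right
      norm₂ := le_sup_right
      sup := c.Q_sup }⟩⟩
  · -- `k ≥ 1`
    by_contra hk
    have hk0 : k = 0 := by omega
    subst hk0
    have h1 : vv M 0 1 ∈ WW V R := c.V_W (vv_mem M 0 1)
    have h2 : cv (e (e.symm (vc _ h1))) = vv M 0 1 := by rw [e.apply_symm_apply]; rfl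
    have h3 : e.symm (vc _ h1) = Pi.single 0 ((e.symm (vc _ h1)) 0) := by
      funext i
      have : i = 0 := by
        apply Fin.ext
        have := i.2
        change (i : ℕ) = 0
        omega
      rw [this, Pi.single_eq_same]
    rw [h3, hR] at h2
    exact zero_ne_one (vv_inj M h2).2
  · intro t
    rw [hE, hE', he', hR, hR', c.r]
  · intro g
    rw [c.memR]
    simp only [hE, hR]
  · intro y z
    rw [hE, hE', hE, hR, he']
    have h1 : cv (e y) * cv (f z) * (cv (e y))⁻¹ * (cv (f z))⁻¹ ∈ R := c.com_symm (c.WQ' (cv_mem _) (c.W_Q (cv_mem _)))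
    rw [← c.vv_P h1, c.P_comm h1, hpair]
  · intro g hg h
    have h1 := c.cen g hg fun w hw => h w (by rw [c.O_eq]; exact hw)
    rwa [← c.O_eq] at h1
  · intro g hg h
    have h1 := c.cen' g hg fun w hw => h w (by rw [c.symm.O_eq]; exact hw)
    rwa [← c.symm.O_eq] at h1

end Cfsg.Agent.Omega.Lin
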