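import Cfsg.Agent.Omega.Lin.Str

/-!
# THEOREM LIN (4): the `F`-structure on `W` is semi-invariant under `N(R)`

The torus argument: on every conjugate `g V g⁻¹`, `g ∈ N(R)`, the natural structure is the structure of `W`.
-/

set_option autoImplicit false
set_option linter.unusedSectionVars false

namespace Cfsg.Agent.Omega.Lin

open Subgroup BTwo

variable {G : Type*} [Group G] {F : Type*} [Field F] {V V' : Subgroup G}
  [Finite G] [Finite F] [CharP F 2] {M : NatPair.NatMod F V} {M' : NatPair.NatMod F V'} {R O O' : Subgroup G}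

namespace Ctx

variable (c : Ctx M M' R O O')
include c

/-- the torus element -/
theorem exists_tor {x : G} (hx : Wl M x) {κ : F} (hκ : κ ≠ 0) :
    ∃ t ∈ LL M (WW V R) (WW V' R) x, t ∈ normalizer (V : Set G) ∧ (∀ a b, t * vv M a b * t⁻¹ = vv M (κ * a) (κ⁻¹ * b)) ∧
      ∀ y ∈ WW V R, ∃ v ∈ V, t * y * t⁻¹ = v * y := by
  have hA : ∀ s, vv M' 0 s ∈ WW V' R := fun s => c.symm.V_W (vv_mem M' 0 s)
  have hAact : ∀ s a b, vv M' 0 s * vv M a b * (vv M' 0 s)⁻¹ = vv M (a + s * b) b := fun s a b => by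
    rw [c.act (c.symm.W_Q (hA s)), c.P_base, mul_one]
  have hBact : ∀ s a b, (x * vv M' 0 s * x⁻¹) * vv M a b * (x * vv M' 0 s * x⁻¹)⁻¹ = vv M a (b + s * a) := fun s a b => by
    rw [c.actX_V hx (hA s), c.P_base, mul_one]
  -- the group of the elements which act trivially on `W / V`
  let T : Subgroup G :=
    { carrier := {g | g ∈ normalizer (V : Set G) ∧ ∀ y ∈ WW V R, ∃ v ∈ V, g * y * g⁻¹ = v * y}
      one_mem' := ⟨one_mem _, fun y _ => ⟨1, one_mem _, by group⟩⟩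
      mul_mem' := by
        rintro g h ⟨hg, hg'⟩ ⟨hh, hh'⟩
        refine ⟨mul_mem hg hh, fun y hy => ?_⟩
        obtain ⟨v, hv, e⟩ := hh' y hy
        obtain ⟨u, hu, e'⟩ := hg' y hy
        refine ⟨g * v * g⁻¹ * u, mul_mem (conj_mem_of_normalizer hg hv) hu, ?_⟩
        calc g * h * y * (g * h)⁻¹ = g * (h * y * h⁻¹) * g⁻¹ := by group
          _ = (g * v * g⁻¹) * (g * y * g⁻¹) := by rw [e]; group
          _ = g * v * g⁻¹ * u * y := by rw [e']; group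
      inv_mem' := by
        rintro g ⟨hg, hg'⟩
        refine ⟨inv_mem hg, fun y hy => ?_⟩
        obtain ⟨v, hv, e⟩ := hg' y hy
        refine ⟨g⁻¹ * v⁻¹ * g, conj_inv_mem_of_normalizer hg (inv_mem hv), ?_⟩
        calc g⁻¹ * y * g⁻¹⁻¹ = g⁻¹ * v⁻¹ * (v * y) * g := by group
          _ = g⁻¹ * v⁻¹ * (g * y * g⁻¹) * g := by rw [e]
          _ = g⁻¹ * v⁻¹ * g * y := by group }
  have hAT : ∀ s, vv M' 0 s ∈ T := fun s =>
    ⟨c.W'_nV (hA s), fun y hy => ⟨_, vv_mem M _ _, c.actW (hA s) (c.W_O hy)⟩⟩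
  have hBT : ∀ s, x * vv M' 0 s * x⁻¹ ∈ T := fun s =>
    ⟨c.xW'_nV hx (hA s), fun y hy => ⟨_, vv_mem M _ _, c.actX hx (hA s) (c.W_O hy)⟩⟩
  have hAL : ∀ s, vv M' 0 s ∈ LL M (WW V R) (WW V' R) x := fun s => c.W'_LL hx (hA s)
  have hBL : ∀ s, x * vv M' 0 s * x⁻¹ ∈ LL M (WW V R) (WW V' R) x := fun s => c.xW'_LL hx (hA s)
  set t := vv M' 0 κ * (x * vv M' 0 κ⁻¹ * x⁻¹) * vv M' 0 (κ + 1) * (x * vv M' 0 1 * x⁻¹) * vv M' 0 1 with ht
  have htT : t ∈ T := mul_mem (mul_mem (mul_mem (mul_mem (hAT _) (hBT _)) (hAT _)) (hBT _)) (hAT _)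
  refine ⟨t, mul_mem (mul_mem (mul_mem (mul_mem (hAL _) (hBL _)) (hAL _)) (hBL _)) (hAL _), htT.1, fun a b => ?_, htT.2⟩
  have e : t * vv M a b * t⁻¹ = vv M' 0 κ * ((x * vv M' 0 κ⁻¹ * x⁻¹) * (vv M' 0 (κ + 1) * ((x * vv M' 0 1 * x⁻¹) *
      (vv M' 0 1 * vv M a b * (vv M' 0 1)⁻¹) * (x * vv M' 0 1 * x⁻¹)⁻¹) * (vv M' 0 (κ + 1))⁻¹) *
      (x * vv M' 0 κ⁻¹ * x⁻¹)⁻¹) * (vv M' 0 κ)⁻¹ := by rw [ht]; group
  rw [e, hAact, hBact, hAact, hBact, hAact]
  have h2 : (2 : F) = 0 := CharTwo.two_eq_zero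
  congr 1
  · field_simp
    linear_combination (a + 2 * b + κ * a + 2 * b * κ + (a + b + b * κ)) * h2
  · field_simp
    linear_combination (a + b + κ * b + κ * a + b * κ) * h2

/-- the structure of `g V g⁻¹` and of `W` agree modulo `R` -/
theorem smV_mod {x : G} (hx : Wl M x) {g : G} (hg : g ∈ normalizer (R : Set G)) {s : F ≃+* F}
    (hs : ∀ μ t, tau M g (μ * t) = s μ * tau M g t) (μ a b : F) :
    g * vv M (μ * a) (μ * b) * g⁻¹ * sm M (WW V R) (WW V' R) x (s μ) (g * vv M a b * g⁻¹) ∈ R := by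
  have h1 : ∀ a b, g * vv M a b * g⁻¹ ∈ WW V R := fun a b => c.W_n hg (c.V_W (vv_mem M a b))
  apply c.mem_R_of_cen' (mul_mem (h1 _ _) (c.sm_mem hx _ (h1 a b)))
  intro w hw
  have hw' : g⁻¹ * w * g ∈ QQ R := c.Q_nQ' hg (c.symm.W_Q hw)
  have key : ∀ a b, P M w (g * vv M a b * g⁻¹) = tau M g (P M (g⁻¹ * w * g) (vv M 0 1) * b) := by
    intro a b
    rw [← c.P_vv hw' a b, ← c.P_conj hg (c.QV hw' (vv_mem M a b))]
    congr 1
    group
  rw [c.Pm hw (h1 _ _) (c.sm_mem hx _ (h1 a b)), c.sm_P hx _ (h1 a b) hw, key, key,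
    show P M (g⁻¹ * w * g) (vv M 0 1) * (μ * b) = μ * (P M (g⁻¹ * w * g) (vv M 0 1) * b) by ring, hs,
    CharTwo.add_self_eq_zero]

/-- an element of `C_{W'}(V)` with prescribed commutator with a given element outside `V` -/
theorem exists_j {y : G} (hy : y ∈ WW V R) (hyV : y ∉ V) (q : F) :
    ∃ w ∈ WW V' R, (∀ v ∈ V, w * v = v * w) ∧ P M w y = q := by
  have h1 : ∃ w ∈ WW V' R, (∀ v ∈ V, w * v = v * w) ∧ P M w y ≠ 0 := by
    by_contra hc
    push Not at hc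
    exact hyV (c.mem_V_of_cen hy hc)
  obtain ⟨w, hw, hwV, hwy⟩ := h1
  obtain ⟨w', hw', h⟩ := c.scal' hw (q * (P M w y)⁻¹)
  refine ⟨w', hw', c.comV hw' ?_, ?_⟩
  · rw [h _ (c.V_Q (vv_mem M 0 1)), c.comV' hwV (vv_mem M 0 1), mul_zero]
  · rw [h _ (c.W_Q hy), mul_assoc, inv_mul_cancel₀ hwy, mul_one]

/-- the main case: `g V g⁻¹` contains an element outside `V` centralised by the torus -/
theorem smV_tor {x : G} (hx : Wl M x) {g : G} (hg : g ∈ normalizer (R : Set G)) {s : F ≃+* F}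
    (hs : ∀ μ t, tau M g (μ * t) = s μ * tau M g t) {t : G} {κ : F} (hκ1 : κ ≠ 1)
    (htL : t ∈ LL M (WW V R) (WW V' R) x) (htV : ∀ a b, t * vv M a b * t⁻¹ = vv M (κ * a) (κ⁻¹ * b))
    {a0 b0 : F} (hc : t * (g * vv M a0 b0 * g⁻¹) * t⁻¹ = g * vv M a0 b0 * g⁻¹) (hb0 : b0 ≠ 0) (μ a b : F) :
    sm M (WW V R) (WW V' R) x (s μ) (g * vv M a b * g⁻¹) = g * vv M (μ * a) (μ * b) * g⁻¹ := by
  have hW : ∀ a b, g * vv M a b * g⁻¹ ∈ WW V R := fun a b => c.W_n hg (c.V_W (vv_mem M a b))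
  have hRe : ∀ e, g * vv M e 0 * g⁻¹ = vv M (tau M g e) 0 := fun e => c.conj_R hg e
  have hdec : ∀ ν a, g * vv M a (ν * b0) * g⁻¹ =
      g * vv M (ν * a0) (ν * b0) * g⁻¹ * vv M (tau M g (ν * a0 + a)) 0 := by
    intro ν a
    rw [← hRe]
    have e : g * vv M (ν * a0) (ν * b0) * g⁻¹ * (g * vv M (ν * a0 + a) 0 * g⁻¹) =
      g * (vv M (ν * a0) (ν * b0) * vv M (ν * a0 + a) 0) * g⁻¹ := by group
    rw [e, vv_mul, add_zero, ← add_assoc, CharTwo.add_self_eq_zero, zero_add]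
  set y0 := g * vv M a0 b0 * g⁻¹ with hy0
  have hy0W : y0 ∈ WW V R := hW a0 b0
  -- `t` centralises all `λ y0`
  have htl : ∀ l, t * sm M (WW V R) (WW V' R) x l y0 * t⁻¹ = sm M (WW V R) (WW V' R) x l y0 := by
    intro l
    rw [htL.2 l y0 hy0W, hc]
  -- `t` normalises `g V g⁻¹` and acts trivially modulo `R`
  have hmod : ∀ a b, t * (g * vv M a b * g⁻¹) * t⁻¹ * (g * vv M a b * g⁻¹)⁻¹ ∈ R := by
    intro a b
    obtain ⟨ν, rfl⟩ : ∃ ν, b = ν * b0 := ⟨b * b0⁻¹, by field_simp⟩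
    have h1 : g * vv M (ν * a0) (ν * b0) * g⁻¹ * sm M (WW V R) (WW V' R) x (s ν) y0 ∈ R := c.smV_mod hx hg hs ν a0 b0
    obtain ⟨d, hd⟩ := (c.memR _).1 h1
    have h2 : g * vv M (ν * a0) (ν * b0) * g⁻¹ = vv M d 0 * sm M (WW V R) (WW V' R) x (s ν) y0 := by
      rw [hd, mul_assoc (g * vv M (ν * a0) (ν * b0) * g⁻¹), c.W_sq (c.sm_mem hx _ hy0W), mul_one]
    have h3 : g * vv M a (ν * b0) * g⁻¹ = vv M (d + tau M g (ν * a0 + a)) 0 * sm M (WW V R) (WW V' R) x (s ν) y0 := by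
      rw [hdec, h2, mul_assoc, c.W_comm (c.sm_mem hx _ hy0W) (c.R_W (c.R_mem _)), ← mul_assoc, vv_mul, add_zero]
    set e := d + tau M g (ν * a0 + a) with he
    have h4 : t * (vv M e 0 * sm M (WW V R) (WW V' R) x (s ν) y0) * t⁻¹ =
        vv M (κ * e) 0 * sm M (WW V R) (WW V' R) x (s ν) y0 := by
      have e1 : t * (vv M e 0 * sm M (WW V R) (WW V' R) x (s ν) y0) * t⁻¹ =
        (t * vv M e 0 * t⁻¹) * (t * sm M (WW V R) (WW V' R) x (s ν) y0 * t⁻¹) := by group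
      rw [e1, htV, htl, mul_zero]
    rw [h3, h4]
    have e2 : vv M (κ * e) 0 * sm M (WW V R) (WW V' R) x (s ν) y0 * (vv M e 0 * sm M (WW V R) (WW V' R) x (s ν) y0)⁻¹ =
        vv M (κ * e) 0 * (vv M e 0)⁻¹ := by group
    rw [e2]
    exact mul_mem (c.R_mem _) (inv_mem (c.R_mem _))
  set t' := g⁻¹ * t * g with ht'
  have hmod' : ∀ a b, ∃ e, t' * vv M a b * t'⁻¹ = vv M (a + e) b := by
    intro a b
    have h1 := conj_inv_mem_of_normalizer hg (hmod a b)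
    obtain ⟨e, he⟩ := (c.memR _).1 h1
    refine ⟨e, ?_⟩
    have h2 : t' * vv M a b * t'⁻¹ = vv M e 0 * vv M a b := by rw [he, ht']; group
    rw [h2, vv_mul, zero_add, add_comm]
  have ht'V : t' ∈ normalizer (V : Set G) := by
    apply mem_normalizer_of_conj
    intro v hv
    obtain ⟨a, b, rfl⟩ := exists_vv M hv
    obtain ⟨e, he⟩ := hmod' a b
    rw [he]
    exact vv_mem M _ _
  obtain ⟨s', hs'⟩ := exists_semi' M ht'V
  have hs'1 : ∀ m, s' m = m := by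
    intro m
    obtain ⟨e, he⟩ := hmod' 0 1
    obtain ⟨e', he'⟩ := hmod' (m * 0) (m * 1)
    have h1 := hs' _ _ _ _ he m
    rw [he'] at h1
    have h2 := (vv_inj M h1).2
    rw [mul_one, mul_one] at h2
    exact h2.symm
  have hfix : t' * vv M a0 b0 * t'⁻¹ = vv M a0 b0 := by
    calc t' * vv M a0 b0 * t'⁻¹ = g⁻¹ * (t * y0 * t⁻¹) * g := by rw [ht', hy0]; group
      _ = vv M a0 b0 := by rw [hc, hy0]; group
  have hfix' : ∀ m, t * (g * vv M (m * a0) (m * b0) * g⁻¹) * t⁻¹ = g * vv M (m * a0) (m * b0) * g⁻¹ := by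
    intro m
    have h1 := hs' _ _ _ _ hfix m
    rw [hs'1] at h1
    calc t * (g * vv M (m * a0) (m * b0) * g⁻¹) * t⁻¹ = g * (t' * vv M (m * a0) (m * b0) * t'⁻¹) * g⁻¹ := by
          rw [ht']; group
      _ = _ := by rw [h1]
  -- the claim for `y0`
  have hclaim : ∀ m, g * vv M (m * a0) (m * b0) * g⁻¹ = sm M (WW V R) (WW V' R) x (s m) y0 := by
    intro m
    have h0 : g * vv M (m * a0) (m * b0) * g⁻¹ * sm M (WW V R) (WW V' R) x (s m) y0 ∈ R := c.smV_mod hx hg hs m a0 b0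
    obtain ⟨d, hd⟩ := (c.memR _).1 h0
    have h1 : t * vv M d 0 * t⁻¹ = vv M d 0 := by
      have e : ∀ u v : G, t * (u * v) * t⁻¹ = (t * u * t⁻¹) * (t * v * t⁻¹) := fun u v => by group
      rw [hd, e, hfix', htl]
    rw [htV] at h1
    have h2 := (vv_inj M h1).1
    have h3 : d = 0 := by
      have h4 : (κ - 1) * d = 0 := by rw [sub_mul, one_mul, h2, sub_self]
      exact (mul_eq_zero.1 h4).resolve_left (sub_ne_zero.2 hκ1)
    rw [h3, vv_zero] at hd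
    have h5 := eq_inv_of_mul_eq_one_left hd.symm
    rw [c.W_inv (c.sm_mem hx _ hy0W)] at h5
    exact h5
  -- the general case
  obtain ⟨ν, rfl⟩ : ∃ ν, b = ν * b0 := ⟨b * b0⁻¹, by field_simp⟩
  have h1 := hdec (μ * ν) (μ * a)
  rw [hclaim] at h1
  rw [← mul_assoc μ ν b0, h1, hdec ν a, hclaim, c.sm_mul hx _ (c.sm_mem hx _ hy0W) (c.V_W (vv_mem M _ _)),
    c.sm_sm hx _ _ hy0W, c.sm_vv hx, mul_zero, ← map_mul, ← hs]
  congr 3
  ring

/-- **the structure of `g V g⁻¹`, `g ∈ N(R)`, is that of `W`** -/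
theorem smV {x : G} (hx : Wl M x) {g : G} (hg : g ∈ normalizer (R : Set G)) {s : F ≃+* F}
    (hs : ∀ μ t, tau M g (μ * t) = s μ * tau M g t) (μ a b : F) :
    sm M (WW V R) (WW V' R) x (s μ) (g * vv M a b * g⁻¹) = g * vv M (μ * a) (μ * b) * g⁻¹ := by
  have hW : ∀ a b, g * vv M a b * g⁻¹ ∈ WW V R := fun a b => c.W_n hg (c.V_W (vv_mem M a b))
  by_cases hμ0 : μ = 0
  · rw [hμ0, map_zero, c.sm_zero hx (hW a b), zero_mul, zero_mul, vv_zero, mul_one, mul_inv_cancel]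
  by_cases hμ1 : μ = 1
  · rw [hμ1, map_one, c.sm_one hx (hW a b), one_mul, one_mul]
  by_cases hgV : g ∈ normalizer (V : Set G)
  · obtain ⟨s', hs'⟩ := exists_semi' M hgV
    have h1 := hs' 1 0 _ _ (c.conj_R hg 1)
    have h0 : tau M g 1 ≠ 0 := by
      intro h
      apply one_ne_zero (α := F)
      apply c.tau_inj hg
      rw [h, c.tau_zero hg]
    have h2 : ∀ m, s' m = s m := by
      intro m
      have h3 := h1 m
      rw [mul_zero, c.conj_R hg, hs] at h3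
      exact (mul_right_cancel₀ h0 (vv_inj M h3).1).symm
    obtain ⟨a', b', h'⟩ := exists_vv M (conj_mem_of_normalizer hgV (vv_mem M a b))
    rw [hs' a b a' b' h'.symm μ, ← h', c.sm_vv hx, h2]
  · -- an element outside `V`
    obtain ⟨t, htL, htN, htV, htW⟩ := c.exists_tor hx hμ0
    have hex : ∃ a0 b0, g * vv M a0 b0 * g⁻¹ ∉ V := by
      by_contra hcon
      push Not at hcon
      apply hgV
      apply mem_normalizer_of_conj
      intro v hv
      obtain ⟨a, b, rfl⟩ := exists_vv M hv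
      exact hcon a b
    obtain ⟨a1, b1, h1⟩ := hex
    -- correct it by an element of `V`
    obtain ⟨v, hv, hv'⟩ := htW _ (hW a1 b1)
    obtain ⟨p, q, rfl⟩ := exists_vv M hv
    have hμ1' : μ + 1 ≠ 0 := fun h => hμ1 (by
      have := eq_neg_of_add_eq_zero_left h
      rwa [CharTwo.neg_eq] at this)
    have hμi : μ⁻¹ + 1 ≠ 0 := fun h => hμ1 (by
      have := eq_neg_of_add_eq_zero_left h
      rw [CharTwo.neg_eq] at this
      simpa using this)
    set p' := p / (μ + 1) with hp'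
    set q' := q / (μ⁻¹ + 1) with hq'
    have hp2 : μ * p' + p = p' := by
      rw [hp']
      field_simp
      linear_combination (μ * p) * (CharTwo.two_eq_zero : (2 : F) = 0)
    have hq2 : μ⁻¹ * q' + q = q' := by
      have h5 : q' * (μ⁻¹ + 1) = q := div_mul_cancel₀ _ hμi
      linear_combination -h5 + (μ⁻¹ * q') * (CharTwo.two_eq_zero : (2 : F) = 0)
    set y := vv M p' q' * (g * vv M a1 b1 * g⁻¹) with hy
    have hyt : t * y * t⁻¹ = y := by
      have e : t * y * t⁻¹ = (t * vv M p' q' * t⁻¹) * (t * (g * vv M a1 b1 * g⁻¹) * t⁻¹) := by rw [hy]; group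
      rw [e, htV, hv', ← mul_assoc, vv_mul, hp2, hq2]
    have hyW : y ∈ WW V R := mul_mem (c.V_W (vv_mem M _ _)) (hW a1 b1)
    have hyV : y ∉ V := fun h => h1 (by
      have h2 := mul_mem (inv_mem (vv_mem M p' q')) h
      rwa [hy, inv_mul_cancel_left] at h2)
    -- move by `j`
    have hxy : x⁻¹ * y * x ∉ V := fun h => hyV (by
      have h2 := conj_mem_of_normalizer hx.mem h
      have e : x * (x⁻¹ * y * x) * x⁻¹ = y := by group
      rwa [e] at h2)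
    obtain ⟨j0, hj0, hj0V, hj0P⟩ := c.exists_j (c.nVW_conj' hx.mem hyW) hxy q'
    set j := x * j0 * x⁻¹ with hj
    have hjV : ∀ v ∈ V, j * v = v * j := by
      intro v hv
      have h2 := hj0V _ (conj_inv_mem_of_normalizer hx.mem hv)
      calc j * v = x * (j0 * (x⁻¹ * v * x)) * x⁻¹ := by rw [hj]; group
        _ = x * (x⁻¹ * v * x * j0) * x⁻¹ := by rw [h2]
        _ = v * j := by rw [hj]; group
    have hjR := c.nR_of_cen hjV
    have hjy : j * y * j⁻¹ = vv M 0 q' * y := by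
      rw [hj, c.actX hx hj0 (c.W_O hyW), hj0P]
    have hjL := c.xW'_LL hx hj0
    rw [← hj] at hjL
    -- `j g (a0, b0) (j g)⁻¹ = y`
    have hpR : vv M p' 0 ∈ R := c.R_mem _
    obtain ⟨e0, he0⟩ : ∃ e0, g * vv M e0 0 * g⁻¹ = vv M p' 0 := by
      obtain ⟨e0, he0⟩ := (c.memR _).1 (conj_inv_mem_of_normalizer hg hpR)
      exact ⟨e0, by rw [he0]; group⟩
    have hjg : (j * g) * vv M (e0 + a1) b1 * (j * g)⁻¹ = y := by
      have e1 : vv M (e0 + a1) b1 = vv M e0 0 * vv M a1 b1 := by rw [vv_mul, zero_add]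
      have e2 : (j * g) * (vv M e0 0 * vv M a1 b1) * (j * g)⁻¹ =
          (j * (g * vv M e0 0 * g⁻¹) * j⁻¹) * (j * (g * vv M a1 b1 * g⁻¹) * j⁻¹) := by group
      have e3 : g * vv M a1 b1 * g⁻¹ = vv M p' q' * y := by
        rw [hy, ← mul_assoc, vv_sq, one_mul]
      have e4 : j * (vv M p' q' * y) * j⁻¹ = (j * vv M p' q' * j⁻¹) * (j * y * j⁻¹) := by group
      have e5 : j * vv M p' q' * j⁻¹ = vv M p' q' := by rw [hjV _ (vv_mem M _ _), mul_inv_cancel_right]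
      have e6 : j * vv M p' 0 * j⁻¹ = vv M p' 0 := by rw [hjV _ (vv_mem M _ _), mul_inv_cancel_right]
      have e8 : vv M p' 0 * (vv M p' q' * (vv M 0 q' * y)) = (vv M p' 0 * vv M p' q' * vv M 0 q') * y := by group
      rw [e1, e2, he0, e3, e4, e5, e6, hjy, e8, vv_mul, vv_mul, add_zero, zero_add, CharTwo.add_self_eq_zero,
        CharTwo.add_self_eq_zero, vv_zero, one_mul]
    have hb1 : b1 ≠ 0 := by
      intro h
      apply h1
      rw [h, c.conj_R hg]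
      exact vv_mem M _ _
    have hjgR : j * g ∈ normalizer (R : Set G) := mul_mem hjR hg
    have hsj : ∀ m t, tau M (j * g) (m * t) = s m * tau M (j * g) t := by
      have h3 : ∀ t, tau M (j * g) t = tau M g t := by
        intro t
        rw [c.tau_mul hjR hg]
        apply c.tau_of
        rw [hjV _ (vv_mem M _ _), mul_inv_cancel_right]
      intro m t
      rw [h3, h3, hs]
    have h6 := c.smV_tor hx hjgR hsj hμ1 htL htV (a0 := e0 + a1) (b0 := b1) (by rw [hjg]; exact hyt) hb1 μ a b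
    have e7 : ∀ u : G, j * g * u * (j * g)⁻¹ = j * (g * u * g⁻¹) * j⁻¹ := fun u => by group
    rw [e7, e7, ← hjL.2 _ _ (hW a b)] at h6
    exact mul_left_cancel (mul_right_cancel h6)

/-- **`N(R)` is semilinear on `W`** -/
theorem semi_nR {x : G} (hx : Wl M x) {h : G} (hh : h ∈ normalizer (R : Set G)) {s : F ≃+* F}
    (hs : ∀ μ t, tau M h (μ * t) = s μ * tau M h t) (l : F) {y : G} (hy : y ∈ WW V R) :
    h * sm M (WW V R) (WW V' R) x l y * h⁻¹ = sm M (WW V R) (WW V' R) x (s l) (h * y * h⁻¹) := by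
  let T : Subgroup G :=
    { carrier := {y | y ∈ WW V R ∧
        h * sm M (WW V R) (WW V' R) x l y * h⁻¹ = sm M (WW V R) (WW V' R) x (s l) (h * y * h⁻¹)}
      one_mem' := ⟨one_mem _, by
        rw [c.sm_e hx, mul_one, mul_inv_cancel, c.sm_e hx]⟩
      mul_mem' := by
        rintro u v ⟨hu, hu'⟩ ⟨hv, hv'⟩
        refine ⟨mul_mem hu hv, ?_⟩
        have e : ∀ u v : G, h * (u * v) * h⁻¹ = (h * u * h⁻¹) * (h * v * h⁻¹) := fun u v => by group
        rw [c.sm_mul hx l hu hv, e, e, hu', hv', c.sm_mul hx _ (c.W_n hh hu) (c.W_n hh hv)]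
      inv_mem' := by
        rintro u ⟨hu, hu'⟩
        refine ⟨inv_mem hu, ?_⟩
        rw [c.W_inv hu, hu'] }
  have hT : WW V R ≤ T := by
    refine iSup_le fun g => cj_le_iff.2 fun v hv => ?_
    refine ⟨cj_le_WW g.2 (conj_mem_cj hv), ?_⟩
    obtain ⟨a, b, rfl⟩ := exists_vv M hv
    obtain ⟨sg, hsg⟩ := c.exists_sig g.2
    obtain ⟨μ, rfl⟩ : ∃ μ, l = sg μ := ⟨sg.symm l, (sg.apply_symm_apply l).symm⟩
    have h1 := c.smV hx g.2 hsg μ a b
    have h2 : ∀ m t, tau M (h * g) (m * t) = (sg.trans s) m * tau M (h * g) t := by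
      intro m t
      rw [c.tau_mul hh g.2, c.tau_mul hh g.2, hsg, hs]
      rfl
    have h3 := c.smV hx (mul_mem hh g.2) h2 μ a b
    have e : ∀ u : G, h * g * u * (h * g)⁻¹ = h * (g * u * (g : G)⁻¹) * h⁻¹ := fun u => by group
    rw [e, e] at h3
    rw [h1, ← h3]
    rfl
  exact (hT hy).2

end Ctx

end Cfsg.Agent.Omega.Lin
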